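import Groth.Agent.FFLib.Riemann
import Mathlib.LinearAlgebra.Dual.Lemmas

/-! Adeles, Weil differentials, Riemann-Roch. -/

namespace Groth.Agent.FFLib

open FunFld IntermediateField WithZero

variable {k K : Type*} [Field k] [Field K] [Algebra k K]

/-- `A(D) + K` in the product space. -/
abbrev SD (D : Divisor k K) : Submodule k (Place k K → K) := AD D ⊔ LinearMap.range (diag k K)

theorem diag_apply (x : K) (P : Place k K) : diag k K x P = x := rfl

theorem AD_le_adele (D : Divisor k K) : AD D ≤ adele k K := fun a ha => by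
  refine D.finite_support.subset fun P hP => ?_
  simp only [Set.mem_compl_iff, Set.mem_setOf_eq] at hP
  intro h
  exact hP (by simpa [show D P = 0 from h] using ha P)

theorem mem_adele {a : Place k K → K} :
    a ∈ adele k K ↔ {P : Place k K | ¬ P.1 (a P) ≤ 1}.Finite := Filter.eventually_cofinite

theorem deg_eq_of_le (hF : IsFF k K) {D E : Divisor k K} (h : D ≤ E) (hd : E.deg ≤ D.deg) :
    D = E := by
  by_contra hne
  obtain ⟨P, hP⟩ : ∃ P, D P < E P := by
    by_contra! hall
    exact hne (le_antisymm h hall)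
  classical
  have : D + Finsupp.single P 1 ≤ E := fun Q => by
    by_cases hQ : P = Q
    · subst hQ; simp; omega
    · simpa [hQ] using h Q
  have h2 := Divisor.deg_mono this
  rw [Divisor.deg_add, Divisor.deg_single, one_mul] at h2
  have := deg_pos hF P
  omega

theorem exists_ge_mem_AD (hF : IsFF k K) (D : Divisor k K) {a : Place k K → K} (ha : a ∈ adele k K)
    (N : ℤ) : ∃ F, D ≤ F ∧ a ∈ AD F ∧ N ≤ F.deg := by
  classical
  let f : Place k K → ℤ := fun P => if P.1 (a P) ≤ 1 then 0 else -P.ord (a P)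
  have hf : (Function.support f).Finite := (mem_adele.mp ha).subset fun P hP => by
    simp only [Set.mem_setOf_eq]
    exact fun h => hP (if_pos h)
  obtain ⟨P₀⟩ := exists_place hF
  let F₁ := D ⊔ Finsupp.ofSupportFinite f hf
  let m : ℕ := (N - F₁.deg).toNat
  refine ⟨F₁ + Finsupp.single P₀ (m : ℤ), le_trans le_sup_left
    (le_add_of_nonneg_right (Finsupp.single_nonneg.mpr (Int.natCast_nonneg m))), fun P => ?_, ?_⟩
  · refine le_trans (b := exp (f P)) ?_ (exp_le_exp.mpr ?_)
    · simp only [f]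
      split_ifs with h
      · simpa using h
      · rw [val_eq_exp P (x := a P) fun h0 => h (by simp [h0])]
    · exact (le_sup_right : Finsupp.ofSupportFinite f hf ≤ F₁) P |>.trans
        (le_add_of_nonneg_right (Finsupp.single_nonneg.mpr (Int.natCast_nonneg m)) P)
  · rw [Divisor.deg_add, Divisor.deg_single]
    have := deg_pos hF P₀
    have h1 : N - F₁.deg ≤ m := Int.self_le_toNat _
    have h2 : (m : ℤ) * 1 ≤ m * P₀.deg := mul_le_mul_of_nonneg_left (by omega) (by omega)
    omega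

theorem exists_ge_deg (hF : IsFF k K) (D : Divisor k K) (N : ℤ) : ∃ F, D ≤ F ∧ N ≤ F.deg :=
  let ⟨F, h1, _, h2⟩ := exists_ge_mem_AD hF D (zero_mem (adele k K)) N
  ⟨F, h1, h2⟩

theorem diag_mem_adele (hF : IsFF k K) : LinearMap.range (diag k K) ≤ adele k K := by
  rintro _ ⟨x, rfl⟩
  rw [mem_adele]
  refine (finite_support_ord hF x).subset fun P hP => ?_
  simp only [Set.mem_setOf_eq, diag_apply] at hP
  intro h
  rcases eq_or_ne x 0 with rfl | hx
  · simp at hP
  · exact hP ((val_le_one_iff P hx).mpr (le_of_eq (Eq.symm h)))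

theorem SD_le_adele (hF : IsFF k K) (D : Divisor k K) : SD D ≤ adele k K :=
  sup_le (AD_le_adele D) (diag_mem_adele hF)

theorem diag_mem_AD {D : Divisor k K} {x : K} : diag k K x ∈ AD D ↔ x ∈ L D := Iff.rfl

theorem SD_mono {D E : Divisor k K} (h : D ≤ E) : SD D ≤ SD E := sup_le_sup_right (AD_mono h) _

theorem relDim_SD (hF : IsFF k K) {D E : Divisor k K} (h : D ≤ E) :
    ∃ m : ℕ, (m : ℤ) = (E.deg - ell E) - (D.deg - ell D) ∧ RelDim (SD D) (SD E) m := by
  obtain ⟨e, he, hAD⟩ := relDim_AD hF h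
  obtain ⟨l, -, hL⟩ := relDim_L hF h
  have := L_finite hF D
  have hl : ell E = ell D + l := (finite_of_relDim hL).2
  let g : L E →ₗ[k] (Place k K → K) ⧸ AD D := (AD D).mkQ.comp ((diag k K).domRestrict (L E))
  have hg : LinearMap.ker g = (L D).submoduleOf (L E) := by
    ext x
    simp [g, Submodule.submoduleOf, diag_mem_AD]
  have := L_finite hF E
  have hl' : Module.finrank k (LinearMap.range g) = l :=
    (relDim_of_ker (L_mono h) g hg).eq hL
  let X := AD D ⊔ (L E).map (diag k K)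
  have hXr : relQ (AD D) X = LinearMap.range g := by
    simp only [X, relQ, Submodule.map_sup, Submodule.mkQ_map_self, bot_sup_eq, g,
      LinearMap.range_comp, LinearMap.range_domRestrict]
  have h1 : RelDim (AD D) X l := ⟨le_sup_left, by rw [hXr]; infer_instance, by rw [hXr, hl']⟩
  have hXE : X ≤ AD E := sup_le (AD_mono h) (Submodule.map_le_iff_le_comap.mpr fun x hx => hx)
  let f : AD E →ₗ[k] (Place k K → K) ⧸ SD D := (SD D).mkQ.comp (AD E).subtype
  have hf : LinearMap.ker f = X.submoduleOf (AD E) := by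
    ext ⟨a, ha⟩
    simp only [f, LinearMap.mem_ker, LinearMap.comp_apply, Submodule.subtype_apply,
      Submodule.mkQ_apply, Submodule.Quotient.mk_eq_zero, Submodule.submoduleOf, Submodule.mem_comap]
    constructor
    · intro haS
      obtain ⟨b, hb, c, ⟨x, rfl⟩, rfl⟩ := Submodule.mem_sup.mp haS
      refine Submodule.mem_sup.mpr ⟨b, hb, _, ⟨x, ?_, rfl⟩, rfl⟩
      have := sub_mem ha (AD_mono h hb)
      rw [add_sub_cancel_left] at this
      exact this
    · intro haX
      exact (sup_le_sup_left (LinearMap.map_le_range (f := diag k K) (p := L E)) (AD D)) haX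
  have hfr : LinearMap.range f = relQ (SD D) (SD E) := by
    simp only [f, relQ, LinearMap.range_comp, Submodule.range_subtype, Submodule.map_sup]
    rw [(?_ : Submodule.map (SD D).mkQ (LinearMap.range (diag k K)) = ⊥), sup_bot_eq]
    rw [← LinearMap.le_ker_iff_map, Submodule.ker_mkQ]
    exact le_sup_right
  have hfin : FiniteDimensional k (LinearMap.range f) := by
    have := hAD.finite_quotient
    have hle : (AD D).submoduleOf (AD E) ≤ LinearMap.ker f := by
      rw [hf]; exact Submodule.comap_mono le_sup_left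
    let f' := ((AD D).submoduleOf (AD E)).liftQ f hle
    have : LinearMap.range f' = LinearMap.range f := Submodule.range_liftQ _ _ _
    rw [← this]
    infer_instance
  have h2 := relDim_of_ker hXE f hf
  have h12 := (h1.trans h2).eq hAD
  refine ⟨Module.finrank k (LinearMap.range f), by omega, SD_mono h, ?_, ?_⟩
  · rw [← hfr]; exact hfin
  · rw [← hfr]

variable (hK : IsFunctionField k K)
include hK

theorem SD_eq_adele {E : Divisor k K}
    (hE : E.deg - ell E = (genus k K : ℤ) - 1) : SD E = adele k K := by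
  refine le_antisymm (SD_le_adele hK.1 E) fun a ha => ?_
  obtain ⟨F, hEF, haF, -⟩ := exists_ge_mem_AD hK.1 E ha 0
  obtain ⟨m, hm, hrel⟩ := relDim_SD hK.1 hEF
  have h1 := riemann hK.1 F
  have hm0 : m = 0 := by omega
  have := hrel.2.1
  have hz : relQ (SD E) (SD F) = ⊥ := Submodule.finrank_eq_zero.mp (hrel.2.2.trans hm0)
  rw [← LinearMap.le_ker_iff_map, Submodule.ker_mkQ] at hz
  exact hz (Submodule.mem_sup_left haF)

theorem relDim_SD_adele (D : Divisor k K) :
    ∃ m : ℕ, (m : ℤ) = ell D - D.deg + genus k K - 1 ∧ RelDim (SD D) (adele k K) m := by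
  obtain ⟨N, hN⟩ := exists_riemann_eq hK
  obtain ⟨E, hDE, hE⟩ := exists_ge_deg hK.1 D N
  obtain ⟨m, hm, hrel⟩ := relDim_SD hK.1 hDE
  have := hN E hE
  rw [SD_eq_adele hK (E := E) (by omega)] at hrel
  exact ⟨m, by omega, hrel⟩

theorem ADK_finite (D : Divisor k K) : FiniteDimensional k (adele k K ⧸ ADK D) :=
  (relDim_SD_adele hK D).choose_spec.2.finite_quotient

theorem ADK_finrank (D : Divisor k K) :
    (Module.finrank k (adele k K ⧸ ADK D) : ℤ) = ell D - D.deg + genus k K - 1 := by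
  obtain ⟨m, hm, hrel⟩ := relDim_SD_adele hK D
  rw [← hm]
  exact_mod_cast hrel.finrank_quotient

theorem WD_finite (D : Divisor k K) : FiniteDimensional k (WD D) :=
  have := ADK_finite hK D
  Module.Finite.equiv (ADK D).dualQuotEquivDualAnnihilator

theorem WD_finrank (D : Divisor k K) :
    (Module.finrank k (WD D) : ℤ) = ell D - D.deg + genus k K - 1 := by
  have := ADK_finite hK D
  rw [WD, ← (ADK D).dualQuotEquivDualAnnihilator.finrank_eq, Subspace.dual_finrank_eq]
  exact ADK_finrank hK D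

omit hK

theorem mem_WD {ω : Module.Dual k (adele k K)} {E : Divisor k K} :
    ω ∈ WD E ↔ ∀ a : adele k K, a.1 ∈ SD E → ω a = 0 :=
  Submodule.mem_dualAnnihilator ω

theorem WD_antitone {D E : Divisor k K} (h : D ≤ E) : WD E ≤ WD D := fun _ hω =>
  mem_WD.mpr fun a ha => mem_WD.mp hω a (SD_mono h ha)

theorem mul_mem_adele (hF : IsFF k K) (x : K) : ∀ a ∈ adele k K, x • a ∈ adele k K := by
  intro a ha
  rw [mem_adele] at ha ⊢
  refine (ha.union (finite_support_ord hF x)).subset fun P hP => ?_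
  simp only [Set.mem_union, Set.mem_setOf_eq, Function.mem_support, Pi.smul_apply, smul_eq_mul,
    map_mul] at hP ⊢
  by_contra! h
  rcases eq_or_ne x 0 with rfl | hx
  · simp at hP
  · exact hP (mul_le_one' ((val_le_one_iff P hx).mpr (le_of_eq h.2.symm)) h.1)

/-- `x ω`. -/
noncomputable def mW (hF : IsFF k K) (x : K) (ω : Module.Dual k (adele k K)) :
    Module.Dual k (adele k K) := mulW x (mul_mem_adele hF x) ω

theorem mulW_eq (hF : IsFF k K) (x : K) (hx : ∀ a ∈ adele k K, x • a ∈ adele k K)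
    (ω : Module.Dual k (adele k K)) : mulW x hx ω = mW hF x ω := rfl

theorem mW_apply (hF : IsFF k K) (x : K) (ω : Module.Dual k (adele k K)) (a : adele k K) :
    mW hF x ω a = ω ⟨x • a.1, mul_mem_adele hF x _ a.2⟩ := rfl

theorem mW_zero_right (hF : IsFF k K) (x : K) : mW hF x (0 : Module.Dual k (adele k K)) = 0 := rfl

theorem mW_add_left (hF : IsFF k K) (x y : K) (ω : Module.Dual k (adele k K)) :
    mW hF (x + y) ω = mW hF x ω + mW hF y ω := by
  ext a
  rw [LinearMap.add_apply, mW_apply, mW_apply, mW_apply, ← map_add]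
  exact congrArg ω (Subtype.ext (add_smul x y a.1))

theorem mW_add_right (hF : IsFF k K) (x : K) (ω η : Module.Dual k (adele k K)) :
    mW hF x (ω + η) = mW hF x ω + mW hF x η := rfl

theorem mW_smul_right (hF : IsFF k K) (x : K) (c : k) (ω : Module.Dual k (adele k K)) :
    mW hF x (c • ω) = c • mW hF x ω := rfl

theorem mW_smul_left (hF : IsFF k K) (c : k) (x : K) (ω : Module.Dual k (adele k K)) :
    mW hF (c • x) ω = c • mW hF x ω := by
  ext a
  rw [LinearMap.smul_apply, mW_apply, mW_apply, ← map_smul]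
  exact congrArg ω (Subtype.ext (smul_assoc c x a.1))

theorem mW_one (hF : IsFF k K) (ω : Module.Dual k (adele k K)) : mW hF 1 ω = ω := by
  ext a
  exact congrArg ω (Subtype.ext (one_smul K a.1))

theorem mW_mW (hF : IsFF k K) (x y : K) (ω : Module.Dual k (adele k K)) :
    mW hF x (mW hF y ω) = mW hF (y * x) ω := by
  ext a
  exact congrArg ω (Subtype.ext (smul_smul y x a.1))

theorem mW_zero_left (hF : IsFF k K) (ω : Module.Dual k (adele k K)) : mW hF 0 ω = 0 := by
  simpa using mW_smul_left hF (0 : k) 0 ω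

theorem mW_algebraMap (hF : IsFF k K) (c : k) (ω : Module.Dual k (adele k K)) :
    mW hF (algebraMap k K c) ω = c • ω := by
  rw [Algebra.algebraMap_eq_smul_one, mW_smul_left, mW_one]

theorem mW_eq_zero_iff (hF : IsFF k K) {x : K} {ω : Module.Dual k (adele k K)} :
    mW hF x ω = 0 ↔ x = 0 ∨ ω = 0 := by
  refine ⟨fun h => or_iff_not_imp_left.mpr fun hx => ?_, ?_⟩
  · have := congrArg (mW hF x⁻¹) h
    rwa [mW_mW, mul_inv_cancel₀ hx, mW_one, mW_zero_right] at this
  · rintro (rfl | rfl)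
    · exact mW_zero_left hF ω
    · exact mW_zero_right hF x

theorem mW_mem_WD (hF : IsFF k K) {x : K} {ω : Module.Dual k (adele k K)} {E : Divisor k K}
    (hω : ω ∈ WD E) : mW hF x ω ∈ WD (E + FunFld.div k x) := by
  rcases eq_or_ne x 0 with rfl | hx
  · rw [mW_zero_left]; exact zero_mem _
  refine mem_WD.mpr fun a ha => mem_WD.mp hω ⟨_, mul_mem_adele hF x _ a.2⟩ ?_
  obtain ⟨b, hb, c, ⟨y, rfl⟩, hbc⟩ := Submodule.mem_sup.mp ha
  show x • a.1 ∈ SD E
  rw [← hbc, smul_add]
  refine Submodule.mem_sup.mpr ⟨x • b, fun P => ?_, _, ⟨x * y, ?_⟩, rfl⟩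
  · have := hb P
    rw [div_eq hF, exp_add] at this
    rw [Pi.smul_apply, smul_eq_mul, map_mul, val_eq_exp P hx, exp_neg,
      inv_mul_le_iff₀ (zero_lt_iff.mpr exp_ne_zero), mul_comm]
    exact this
  · funext P; rfl

theorem mW_mem_WD_iff (hF : IsFF k K) {x : K} (hx : x ≠ 0) {ω : Module.Dual k (adele k K)}
    {E : Divisor k K} : mW hF x ω ∈ WD E ↔ ω ∈ WD (E - FunFld.div k x) := by
  refine ⟨fun h => ?_, fun h => by simpa using mW_mem_WD hF (x := x) h⟩
  have := mW_mem_WD hF (x := x⁻¹) h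
  rwa [mW_mW, mul_inv_cancel₀ hx, mW_one, div_inv hF, ← sub_eq_add_neg] at this

theorem isDivOf_mW (hF : IsFF k K) {x : K} (hx : x ≠ 0) {ω : Module.Dual k (adele k K)}
    {C : Divisor k K} (hC : IsDivOf ω C) : IsDivOf (mW hF x ω) (C + FunFld.div k x) := fun E =>
  (mW_mem_WD_iff hF hx).trans ((hC _).trans sub_le_iff_le_add)

theorem isWeil_mW (hF : IsFF k K) (x : K) {ω : Module.Dual k (adele k K)} (hω : IsWeil ω) :
    IsWeil (mW hF x ω) :=
  let ⟨_, h⟩ := hω
  ⟨_, mW_mem_WD hF h⟩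

theorem WD_sup {D E : Divisor k K} {ω : Module.Dual k (adele k K)} (h1 : ω ∈ WD D)
    (h2 : ω ∈ WD E) : ω ∈ WD (D ⊔ E) := by
  classical
  refine mem_WD.mpr fun a ha => ?_
  obtain ⟨b, hb, c, hc, hbc⟩ := Submodule.mem_sup.mp ha
  let b1 : Place k K → K := fun P => if E P ≤ D P then b P else 0
  have hb1 : b1 ∈ AD D := fun P => by
    by_cases hle : E P ≤ D P
    · simpa [b1, hle] using hb P
    · simp [b1, hle]
  have hb2 : b - b1 ∈ AD E := fun P => by
    by_cases hle : E P ≤ D P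
    · simp [b1, hle]
    · simpa [b1, hle, (not_le.mp hle).le] using hb P
  let a1 : adele k K := ⟨b1, AD_le_adele D hb1⟩
  have ha2 : (a - a1).1 ∈ SD E := by
    show a.1 - b1 ∈ SD E
    rw [← hbc, add_sub_right_comm]
    exact add_mem (Submodule.mem_sup_left hb2) (Submodule.mem_sup_right hc)
  have e1 := mem_WD.mp h1 a1 (Submodule.mem_sup_left hb1)
  have e2 := mem_WD.mp h2 (a - a1) ha2
  rwa [map_sub, e1, sub_zero] at e2

include hK

theorem WD_eq_bot {E : Divisor k K} (hE : E.deg - ell E = (genus k K : ℤ) - 1) : WD E = ⊥ := by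
  rw [Submodule.eq_bot_iff]
  exact fun ω hω => LinearMap.ext fun a => mem_WD.mp hω a (by rw [SD_eq_adele hK hE]; exact a.2)

theorem exists_isDivOf {ω : Module.Dual k (adele k K)} (hω : IsWeil ω) (h0 : ω ≠ 0) :
    ∃ C, IsDivOf ω C := by
  obtain ⟨N, hN⟩ := exists_riemann_eq hK
  obtain ⟨D, hD⟩ := hω
  have hlt : ∀ E, ω ∈ WD E → E.deg ≤ N := fun E hE => by
    by_contra h
    have := hN E (by omega)
    rw [WD_eq_bot hK (E := E) (by omega)] at hE
    exact h0 (by simpa using hE)
  obtain ⟨m, ⟨C, hCm, hC⟩, hmax⟩ := Int.exists_greatest_of_bdd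
    (P := fun d => ∃ E : Divisor k K, E.deg = d ∧ ω ∈ WD E)
    ⟨N, fun d ⟨E, hE, hE'⟩ => hE ▸ hlt E hE'⟩ ⟨_, D, rfl, hD⟩
  refine ⟨C, fun E => ⟨fun hE => ?_, fun hle => WD_antitone hle hC⟩⟩
  have h := deg_eq_of_le hK.1 (le_sup_left : C ≤ C ⊔ E) (by
    rw [hCm]; exact hmax _ ⟨_, rfl, WD_sup hC hE⟩)
  exact h ▸ le_sup_right

theorem exists_mW_eq {ω η : Module.Dual k (adele k K)} (hω : IsWeil ω) (h0 : ω ≠ 0)
    (hη : IsWeil η) : ∃ x : K, mW hK.1 x ω = η := by
  by_contra! hne
  obtain ⟨D₁, h1⟩ := hω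
  obtain ⟨D₂, h2⟩ := hη
  let D := D₁ ⊓ D₂
  obtain ⟨E, hE0, hE⟩ := exists_ge_deg hK.1 (0 : Divisor k K)
    (max (D.deg + 1) (3 * (genus k K : ℤ) - D.deg))
  have key : ∀ θ ∈ WD D, ∀ x ∈ L E, mW hK.1 x θ ∈ WD (D - E) := fun θ hθ x hx => by
    rcases eq_or_ne x 0 with rfl | hx0
    · rw [mW_zero_left]; exact zero_mem _
    refine WD_antitone (fun P => ?_) (mW_mem_WD hK.1 hθ)
    have := (mem_L_iff_ord hx0).mp hx P
    simp [div_apply hK.1]
    omega
  have hω' : ω ∈ WD D := WD_antitone inf_le_left h1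
  have hη' : η ∈ WD D := WD_antitone inf_le_right h2
  let Φ : (L E × L E) →ₗ[k] WD (D - E) :=
    { toFun := fun p => ⟨mW hK.1 p.1.1 ω + mW hK.1 p.2.1 η,
        add_mem (key _ hω' _ p.1.2) (key _ hη' _ p.2.2)⟩
      map_add' := fun p q => Subtype.ext (by
        show mW _ (p.1.1 + q.1.1) _ + mW _ (p.2.1 + q.2.1) _ = _
        rw [mW_add_left, mW_add_left, Submodule.coe_add]; exact add_add_add_comm _ _ _ _)
      map_smul' := fun c p => Subtype.ext (by
        show mW _ (c • p.1.1) _ + mW _ (c • p.2.1) _ = _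
        rw [mW_smul_left, mW_smul_left, RingHom.id_apply, Submodule.coe_smul, smul_add]) }
  have hinj : Function.Injective Φ := (injective_iff_map_eq_zero Φ).mpr fun ⟨x, y⟩ hxy => by
      replace hxy : mW hK.1 x.1 ω + mW hK.1 y.1 η = 0 := congrArg Subtype.val hxy
      rcases eq_or_ne y.1 0 with hy | hy
      · rw [hy, mW_zero_left, add_zero, mW_eq_zero_iff] at hxy
        exact Prod.ext (Subtype.ext (hxy.resolve_right h0)) (Subtype.ext hy)
      · exfalso
        apply hne (x.1 * (-(y.1)⁻¹))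
        have h' := congrArg (mW hK.1 (-(y.1)⁻¹)) hxy
        rw [mW_add_right, mW_mW, mW_mW, mW_zero_right, mul_neg y.1, mul_inv_cancel₀ hy] at h'
        have h1' : mW hK.1 (-1 : K) η = -η := by
          rw [show (-1 : K) = algebraMap k K (-1) by simp, mW_algebraMap]
          exact neg_one_smul k η
        rw [h1', add_neg_eq_zero] at h'
        exact h'
  have := WD_finite hK (D - E)
  have := L_finite hK.1 E
  have hle := LinearMap.finrank_le_finrank_of_injective hinj
  rw [Module.finrank_prod] at hle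
  have h3 := WD_finrank hK (D - E)
  have h4 : ell (D - E) = 0 := ell_eq_zero_of_deg_neg hK.1 (by rw [Divisor.deg_sub]; omega)
  have h5 := riemann hK.1 E
  rw [h4, Divisor.deg_sub] at h3
  simp only [ell] at h5
  omega

theorem exists_weil_ne_zero : ∃ ω : Module.Dual k (adele k K), IsWeil ω ∧ ω ≠ 0 := by
  obtain ⟨E, -, hE⟩ := exists_ge_deg hK.1 (0 : Divisor k K) 2
  have h := WD_finrank hK (-E)
  rw [Divisor.deg_neg] at h
  have hne : WD (-E) ≠ ⊥ := fun hb => by
    rw [hb, finrank_bot] at h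
    omega
  obtain ⟨ω, hω, h0⟩ := Submodule.exists_mem_ne_zero_of_ne_bot hne
  exact ⟨ω, ⟨_, hω⟩, h0⟩

theorem exists_canonical : ∃ C : Divisor k K, IsCanonical k K C := by
  obtain ⟨ω, hω, h0⟩ := exists_weil_ne_zero hK
  obtain ⟨C, hC⟩ := exists_isDivOf hK hω h0
  exact ⟨C, ω, h0, hC⟩

omit hK in
/-- `x ↦ x ω` from `L(C - D)`. -/
noncomputable def dualityMap (hF : IsFF k K) {ω : Module.Dual k (adele k K)} {C : Divisor k K}
    (hC : IsDivOf ω C) (D : Divisor k K) : L (C - D) →ₗ[k] WD D where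
  toFun x := ⟨mW hF x.1 ω, by
    rcases eq_or_ne x.1 0 with h | h
    · rw [h, mW_zero_left]; exact zero_mem _
    · refine (isDivOf_mW hF h hC D).mpr fun P => ?_
      have := (mem_L_iff_ord h).mp x.2 P
      simp [div_apply hF] at this ⊢
      omega⟩
  map_add' x y := Subtype.ext (mW_add_left hF x.1 y.1 ω)
  map_smul' c x := Subtype.ext (mW_smul_left hF c x.1 ω)

theorem dualityMap_bijective {ω : Module.Dual k (adele k K)} {C : Divisor k K} (h0 : ω ≠ 0)
    (hC : IsDivOf ω C) (D : Divisor k K) : Function.Bijective (dualityMap hK.1 hC D) := by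
  refine ⟨(injective_iff_map_eq_zero _).mpr fun x hx =>
    Subtype.ext (((mW_eq_zero_iff hK.1).mp (congrArg Subtype.val hx)).resolve_right h0), fun η => ?_⟩
  obtain ⟨x, hx⟩ := exists_mW_eq hK ⟨C, (hC C).mpr le_rfl⟩ h0 ⟨D, η.2⟩
  refine ⟨⟨x, ?_⟩, Subtype.ext hx⟩
  rcases eq_or_ne x 0 with h | h
  · rw [h]; exact zero_mem _
  · refine (mem_L_iff_ord h).mpr fun P => ?_
    have := (isDivOf_mW hK.1 h hC D).mp (hx ▸ η.2) P
    simp [div_apply hK.1] at this ⊢
    omega

/-- Riemann–Roch. -/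
theorem riemann_roch {C : Divisor k K} (hC : IsCanonical k K C) (D : Divisor k K) :
    (ell D : ℤ) = D.deg + 1 - genus k K + ell (C - D) := by
  obtain ⟨ω, h0, hω⟩ := hC
  have h := WD_finrank hK D
  rw [← (LinearEquiv.ofBijective _ (dualityMap_bijective hK h0 hω D)).finrank_eq] at h
  simp only [ell] at h ⊢
  omega

theorem ell_canonical {C : Divisor k K} (hC : IsCanonical k K C) : ell C = genus k K := by
  have h := riemann_roch hK hC 0
  rw [sub_zero, ell_zero hK, Divisor.deg_zero] at h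
  omega

theorem deg_canonical {C : Divisor k K} (hC : IsCanonical k K C) :
    C.deg = 2 * (genus k K : ℤ) - 2 := by
  have h := riemann_roch hK hC C
  rw [sub_self, ell_zero hK, ell_canonical hK hC] at h
  omega

theorem ell_of_deg_gt {D : Divisor k K} (h : 2 * (genus k K : ℤ) - 2 < D.deg) :
    (ell D : ℤ) = D.deg + 1 - genus k K := by
  obtain ⟨C, hC⟩ := exists_canonical hK
  have h1 := riemann_roch hK hC D
  rw [ell_eq_zero_of_deg_neg hK.1 (D := C - D) (by
    rw [Divisor.deg_sub, deg_canonical hK hC]; omega)] at h1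
  omega

theorem canonical_iff {C : Divisor k K} (hC : IsCanonical k K C) (C' : Divisor k K) :
    IsCanonical k K C' ↔ ∃ x : K, x ≠ 0 ∧ C' = C + FunFld.div k x := by
  obtain ⟨ω, h0, hω⟩ := hC
  constructor
  · rintro ⟨η, hη0, hη⟩
    obtain ⟨x, rfl⟩ := exists_mW_eq hK ⟨C, (hω C).mpr le_rfl⟩ h0 (η := η) ⟨C', (hη C').mpr le_rfl⟩
    have hx : x ≠ 0 := fun e => hη0 (by rw [e, mW_zero_left])
    have h := isDivOf_mW hK.1 hx hω
    exact ⟨x, hx, le_antisymm ((h C').mp ((hη C').mpr le_rfl)) ((hη _).mp ((h _).mpr le_rfl))⟩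
  · rintro ⟨x, hx, rfl⟩
    exact ⟨mW hK.1 x ω, fun e => ((mW_eq_zero_iff hK.1).mp e).elim hx h0, isDivOf_mW hK.1 hx hω⟩

end Groth.Agent.FFLib
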