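import Groth.Agent.FFLib.RR
import Mathlib.FieldTheory.IsAlgClosed.Basic

/-! Degree-one places, genus zero, small consequences. -/

namespace Groth.Agent.FFLib

open FunFld IntermediateField WithZero

variable {k K : Type*} [Field k] [Field K] [Algebra k K]

theorem exists_eq_algebraMap (hK : IsFunctionField k K) {x : K}
    (hx : ¬ Transcendental k x) : ∃ c : k, algebraMap k K c = x :=
  hK.2 x (not_not.mp hx)

theorem transcendental_of_not_range (hK : IsFunctionField k K) {x : K}
    (hx : x ∉ Set.range (algebraMap k K)) : Transcendental k x := fun h => hx (hK.2 x h)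

theorem transcendental_of_ord_ne_zero (P : Place k K) {x : K} (h : P.ord x ≠ 0) :
    Transcendental k x := by
  have hx0 : x ≠ 0 := fun e => h (by simp [e])
  exact transcendental_of_val_ne_one P hx0 (by
    rw [val_eq_exp P hx0, ne_eq, exp_eq_one, neg_eq_zero]; exact h)

theorem poles_eq_single (hF : IsFF k K) {x : K} {P : Place k K} (h1 : P.ord x = -1)
    (h2 : ∀ Q : Place k K, Q ≠ P → 0 ≤ Q.ord x) :
    (poles x : Divisor k K) = Finsupp.single P 1 := by
  classical
  ext Q
  rw [poles, Finsupp.mapRange_apply, div_apply hF]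
  rcases eq_or_ne Q P with rfl | h
  · simp [h1]
  · rw [Finsupp.single_apply, if_neg h.symm]; have := h2 Q h; omega

theorem adjoin_eq_top_iff {x : K} :
    k⟮x⟯ = ⊤ ↔ Module.finrank k⟮x⟯ K = 1 := by
  constructor
  · intro h
    rw [h]
    exact IntermediateField.finrank_top
  · intro h
    rw [eq_top_iff]
    intro z _
    obtain ⟨c, hc⟩ := (finrank_eq_one_iff_of_nonzero' (1 : K) one_ne_zero).mp h z
    rw [← hc, IntermediateField.smul_def, smul_eq_mul, mul_one]
    exact c.2

theorem adjoin_eq_top_of_pole (hF : IsFF k K) {x : K} {P : Place k K} (hP : P.deg = 1)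
    (h1 : P.ord x = -1) (h2 : ∀ Q : Place k K, Q ≠ P → 0 ≤ Q.ord x) : k⟮x⟯ = ⊤ := by
  have hx := transcendental_of_ord_ne_zero P (x := x) (by omega)
  have h := deg_poles hF hx
  rw [poles_eq_single hF h1 h2, Divisor.deg_single, hP] at h
  exact adjoin_eq_top_iff.mpr (by omega)

theorem genus_eq_zero_of_adjoin (hK : IsFunctionField k K) {x : K} (h : k⟮x⟯ = ⊤) :
    genus k K = 0 ∧ ∃ P : Place k K, P.deg = 1 ∧ P.ord x = -1 ∧
      ∀ Q : Place k K, Q ≠ P → 0 ≤ Q.ord x := by
  classical
  have hx : Transcendental k x := by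
    obtain ⟨y, hy, -⟩ := hK.1
    intro hx
    have : Algebra.IsAlgebraic k k⟮x⟯ := isAlgebraic_adjoin_simple hx.isIntegral
    exact hy (IntermediateField.isAlgebraic_iff.mp
      (Algebra.IsAlgebraic.isAlgebraic (⟨y, h ▸ trivial⟩ : k⟮x⟯)))
  have hn : Module.finrank k⟮x⟯ K = 1 := adjoin_eq_top_iff.mp h
  have hdeg := deg_poles hK.1 hx
  rw [hn] at hdeg
  obtain ⟨P, hP⟩ := exists_place_pole hK.1 hx
  have hx0 : x ≠ 0 := fun e => hx (e ▸ isAlgebraic_zero)
  have hordP := (one_lt_val_iff P hx0).mp hP
  have hle : Finsupp.single P (-P.ord x) ≤ (poles x : Divisor k K) := fun Q => by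
    by_cases hQ : P = Q
    · subst hQ; simp [poles, div_apply hK.1]
    · simpa [hQ] using poles_nonneg x Q
  have hdP := Divisor.deg_mono hle
  rw [Divisor.deg_single, hdeg] at hdP
  have hpos := deg_pos hK.1 P
  have h1 : P.ord x = -1 := by
    push_cast at hdP
    nlinarith
  have h2 : P.deg = 1 := by rw [h1] at hdP; push_cast at hdP; omega
  have heq : Finsupp.single P (-P.ord x) = (poles x : Divisor k K) :=
    deg_eq_of_le hK.1 hle (by rw [hdeg, Divisor.deg_single, h1, h2]; simp)
  refine ⟨?_, P, h2, h1, fun Q hQ => ?_⟩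
  · obtain ⟨C, hC, hl⟩ := exists_ell_lower hK.1 hx
    obtain ⟨N, hN⟩ := exists_riemann_eq hK
    have hlow : ∀ l : ℕ, l + 1 ≤ ell (Finsupp.single P (l : ℤ)) := by
      intro l
      have := L_finite hK.1 (Finsupp.single P (l : ℤ))
      have hmem : ∀ j : Fin (l + 1), x ^ (j : ℕ) ∈ L (Finsupp.single P (l : ℤ)) := fun j => by
        rw [mem_L_iff_ord (pow_ne_zero _ hx0)]
        intro Q
        rw [ord_pow]
        by_cases hQ : P = Q
        · subst hQ; rw [h1, Finsupp.single_eq_same]; have := j.2; push_cast; omega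
        · have : (0 : ℤ) ≤ Q.ord x := by
            have := congrArg (fun D : Divisor k K => D Q) heq
            simp only [poles, Finsupp.mapRange_apply, div_apply hK.1, Finsupp.single_apply,
              if_neg hQ] at this
            omega
          simpa [hQ] using mul_nonneg (Int.natCast_nonneg (j : ℕ)) this
      let w := fun j : Fin (l + 1) => (⟨_, hmem j⟩ : L (Finsupp.single P (l : ℤ)))
      have hw : LinearIndependent k w := LinearIndependent.of_comp (Submodule.subtype _)
        ((linearIndependent_powers hx).comp (fun j : Fin (l + 1) => (j : ℕ)) Fin.val_injective)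
      simpa [ell] using hw.fintype_card_le_finrank
    have h3 := hN (Finsupp.single P (N.toNat : ℤ)) (by
      rw [Divisor.deg_single, h2]; simp)
    have h4 := hlow N.toNat
    rw [Divisor.deg_single, h2] at h3
    omega
  · have := congrArg (fun D : Divisor k K => D Q) heq
    simp only [poles, Finsupp.mapRange_apply, div_apply hK.1, Finsupp.single_apply,
      if_neg (Ne.symm hQ)] at this
    omega

theorem deg_eq_one [IsAlgClosed k] (hF : IsFF k K) (P : Place k K) : P.deg = 1 := by
  have := residue_finite hF P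
  have : Algebra.IsIntegral k (Res P) :=
    @Algebra.IsIntegral.of_finite k (Res P) _ _ _ (residue_finite hF P)
  have hb := IsAlgClosed.algebraMap_bijective_of_isIntegral (k := k) (K := Res P)
  exact (LinearEquiv.ofBijective (Algebra.linearMap k (Res P)) hb).finrank_eq.symm.trans
    (Module.finrank_self k)

theorem ell_single_one (hK : IsFunctionField k K) (hg : 0 < genus k K) {P : Place k K}
    (hP : P.deg = 1) : ell (Finsupp.single P (1 : ℤ)) = 1 := by
  classical
  have h0 := ell_le_of_le hK.1 (D := (0 : Divisor k K)) (E := Finsupp.single P 1)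
    (Finsupp.single_nonneg.mpr zero_le_one)
  rw [ell_zero hK, Divisor.deg_single, Divisor.deg_zero, hP] at h0
  by_contra hne
  have hnot : ¬ L (Finsupp.single P (1 : ℤ)) ≤ L (0 : Divisor k K) := fun hle => by
    have := L_finite hK.1 (0 : Divisor k K)
    have := Submodule.finrank_mono hle
    have h1 := ell_zero hK
    simp only [ell] at h0 h1 hne this
    omega
  obtain ⟨x, hx, hx0⟩ := SetLike.not_le_iff_exists.mp hnot
  have hxne : x ≠ 0 := fun e => hx0 (e ▸ zero_mem _)
  have hord := (mem_L_iff_ord hxne).mp hx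
  have hP1 : P.ord x = -1 := by
    by_contra hh
    refine hx0 ((mem_L_iff_ord hxne).mpr fun Q => ?_)
    by_cases hQ : P = Q
    · subst hQ; have := hord P; simp at this ⊢; omega
    · simpa [hQ] using hord Q
  have htop := adjoin_eq_top_of_pole hK.1 hP hP1 fun Q hQ => by
    simpa [Ne.symm hQ] using hord Q
  have := (genus_eq_zero_of_adjoin hK htop).1
  omega

end Groth.Agent.FFLib
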