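import Groth.Agent.FFLib.Gaps

/-! Divisors of degree zero and one. -/

namespace Groth.Agent.FFLib

open FunFld WithZero

variable {k K : Type*} [Field k] [Field K] [Algebra k K]

theorem exists_div_of_deg_zero (hF : IsFF k K) {E : Divisor k K} (hd : E.deg = 0) (h : 0 < ell E) :
    ∃ z : K, z ≠ 0 ∧ E + FunFld.div k z = 0 := by
  obtain ⟨z, hz0, -, hz⟩ := exists_le_add_div hF h
  exact ⟨z, hz0, (deg_eq_of_le hF hz (by simp [Divisor.deg_add, deg_div hF, hd])).symm⟩

theorem eq_single_of_deg_one (hF : IsFF k K) {E : Divisor k K} (hE : 0 ≤ E) (hd : E.deg = 1) :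
    ∃ P : Place k K, P.deg = 1 ∧ E = Finsupp.single P 1 := by
  classical
  obtain ⟨P, hP⟩ : ∃ P, 0 < E P := by
    by_contra! h
    have : E = 0 := le_antisymm (fun P => h P) hE
    simp [this] at hd
  have hle : Finsupp.single P 1 ≤ E := fun Q => by
    by_cases hQ : P = Q
    · subst hQ; simp; omega
    · simpa [hQ] using hE Q
  have hdeg := Divisor.deg_mono hle
  rw [Divisor.deg_single, one_mul, hd] at hdeg
  have := deg_pos hF P
  refine ⟨P, by omega, (deg_eq_of_le hF hle ?_).symm⟩
  rw [Divisor.deg_single, hd]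
  omega

theorem exists_single_of_deg_one (hF : IsFF k K) {E : Divisor k K} (hd : E.deg = 1) (h : 0 < ell E) :
    ∃ (P : Place k K) (z : K), P.deg = 1 ∧ z ≠ 0 ∧ E + FunFld.div k z = Finsupp.single P 1 := by
  obtain ⟨z, hz0, -, hz⟩ := exists_le_add_div hF h
  obtain ⟨P, hP, he⟩ := eq_single_of_deg_one hF hz (by simp [Divisor.deg_add, deg_div hF, hd])
  exact ⟨P, z, hP, hz0, he⟩

/-- A divisor of degree `2g - 2` with `ℓ = g` differs from a canonical one by a principal one. -/
theorem exists_div_canonical (hK : IsFunctionField k K) {C E : Divisor k K}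
    (hC : IsCanonical k K C) (hd : E.deg = 2 * (genus k K : ℤ) - 2) (h : ell E = genus k K) :
    ∃ z : K, z ≠ 0 ∧ C - E + FunFld.div k z = 0 := by
  have h3 := riemann_roch hK hC E
  refine exists_div_of_deg_zero hK.1 ?_ (by omega)
  rw [Divisor.deg_sub, deg_canonical hK hC]; omega

end Groth.Agent.FFLib
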