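import Groth.Agent.FFLib.Ext
import Groth.Agent.FFLib.Small
import Groth.Prelude.Def_W4bk4goldsch45
import Mathlib.GroupTheory.QuotientGroup.Basic
import Mathlib.Data.Fintype.BigOperators

/-! Counting effective divisors over a finite constant field. -/

namespace Groth.Agent.FFLib

open FunFld WithZero

variable {k K : Type*} [Field k] [Field K] [Algebra k K]

theorem finite_deg_le [Finite k] (hF : IsFF k K) (n : ℕ) :
    {P : Place k K | P.deg ≤ n}.Finite := by
  obtain ⟨x, hx, -⟩ := id hF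
  have hx0 : x ≠ 0 := fun e => hx (e ▸ isAlgebraic_zero)
  let y : (Fin (n + 1) → k) → K := fun c => ∑ i, c i • x ^ (i : ℕ)
  have hy : ∀ c, c ≠ 0 → y c ≠ 0 := fun c hc h => hc (funext (Fintype.linearIndependent_iff.mp
    ((linearIndependent_powers hx).comp (fun i : Fin (n + 1) => (i : ℕ)) Fin.val_injective) c h))
  have hz : ∀ c : Fin (n + 1) → k, {P : Place k K | c ≠ 0 ∧ P.1 (y c) < 1}.Finite := fun c => by
    refine (finite_support_ord hF (y c)).subset fun P ⟨hc, hP⟩ => ?_
    exact ((val_lt_one_iff P (hy c hc)).mp hP).ne'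
  refine ((finite_support_ord hF x).union (Set.finite_iUnion hz)).subset fun P (hP : P.deg ≤ n) => ?_
  by_cases h : P.ord x < 0
  · exact Or.inl h.ne
  right
  have hx1 : P.1 x ≤ 1 := (val_le_one_iff P hx0).mpr (not_lt.mp h)
  rw [Set.mem_iUnion]
  by_contra! hne
  have hind : ResIndep P (fun i : Fin (n + 1) => x ^ (i : ℕ)) :=
    ⟨fun i => by rw [map_pow]; exact pow_le_one' hx1 _,
      fun c hc => by_contra fun hc0 => hne c ⟨hc0, hc⟩⟩
  have := ResIndep.card_le hF hind
  omega

theorem le_deg_of_effective (hF : IsFF k K) {D : Divisor k K} (hD : 0 ≤ D) (P : Place k K) :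
    D P ≤ D.deg ∧ (D P ≠ 0 → (P.deg : ℤ) ≤ D.deg) := by
  classical
  have hle : Finsupp.single P (D P) ≤ D := fun Q => by
    rcases eq_or_ne Q P with rfl | hQ
    · simp
    · simpa [hQ] using hD Q
  have h := Divisor.deg_mono hle
  rw [Divisor.deg_single] at h
  have hp := deg_pos hF P
  have h0 : (0 : ℤ) ≤ D P := hD P
  refine ⟨?_, fun hne => ?_⟩
  · have : D P * 1 ≤ D P * P.deg := mul_le_mul_of_nonneg_left (by omega) h0
    omega
  · have : (1 : ℤ) * P.deg ≤ D P * P.deg := mul_le_mul_of_nonneg_right (by omega) (by omega)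
    omega

theorem finite_effective [Finite k] (hF : IsFF k K) (n : ℤ) :
    Finite {D : Divisor k K // 0 ≤ D ∧ D.deg = n} := by
  classical
  have : Finite {P : Place k K // P.deg ≤ n.toNat} := (finite_deg_le hF n.toNat).to_subtype
  refine Finite.of_injective (fun D (P : {P : Place k K // P.deg ≤ n.toNat}) =>
    (⟨(D.1 P.1).toNat, Nat.lt_succ_of_le ?_⟩ : Fin (n.toNat + 1))) fun D E h => ?_
  · have := (le_deg_of_effective hF D.2.1 P.1).1
    rw [D.2.2] at this
    exact Int.toNat_le_toNat this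
  · refine Subtype.ext (Finsupp.ext fun P => ?_)
    have hD := le_deg_of_effective hF D.2.1 P
    have hE := le_deg_of_effective hF E.2.1 P
    rw [D.2.2] at hD
    rw [E.2.2] at hE
    by_cases hP : P.deg ≤ n.toNat
    · have h2 := congrArg Fin.val (congrFun h ⟨P, hP⟩)
      have h3 : (0 : ℤ) ≤ D.1 P := D.2.1 P
      have h4 : (0 : ℤ) ≤ E.1 P := E.2.1 P
      simp only at h2
      omega
    · have hD0 : D.1 P = 0 := by
        by_contra hne
        have := hD.2 hne
        omega
      have hE0 : E.1 P = 0 := by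
        by_contra hne
        have := hE.2 hne
        omega
      rw [hD0, hE0]

theorem div_mul (hF : IsFF k K) {x y : K} (hx : x ≠ 0) (hy : y ≠ 0) :
    FunFld.div k (x * y) = FunFld.div k x + FunFld.div k y := by
  ext P; simp [div_apply hF, ord_mul P hx hy]

theorem mem_prinDivs (hF : IsFF k K) {D : Divisor k K} :
    D ∈ prinDivs k K ↔ ∃ z : K, z ≠ 0 ∧ FunFld.div k z = D := by
  refine ⟨fun h => ?_, fun ⟨z, _, h⟩ => h ▸ AddSubgroup.subset_closure ⟨z, rfl⟩⟩
  induction h using AddSubgroup.closure_induction with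
  | mem D hD =>
    obtain ⟨z, rfl⟩ := hD
    rcases eq_or_ne z 0 with rfl | hz
    · exact ⟨1, one_ne_zero, by ext P; simp [div_apply hF]⟩
    · exact ⟨z, hz, rfl⟩
  | zero => exact ⟨1, one_ne_zero, by ext P; simp [div_apply hF]⟩
  | add _ _ _ _ h1 h2 =>
    obtain ⟨z, hz, rfl⟩ := h1
    obtain ⟨w, hw, rfl⟩ := h2
    exact ⟨z * w, mul_ne_zero hz hw, div_mul hF hz hw⟩
  | neg _ _ h1 =>
    obtain ⟨z, hz, rfl⟩ := h1
    exact ⟨z⁻¹, inv_ne_zero hz, div_inv hF z⟩

theorem mem_ker_degHom {D : Divisor k K} : D ∈ (degHom k K).ker ↔ D.deg = 0 := Iff.rfl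

variable (k K) in
/-- Divisor classes of degree zero. -/
abbrev Pic0 : Type _ :=
  (degHom k K).ker ⧸ (prinDivs k K).addSubgroupOf (degHom k K).ker

/-- A divisor in the class `c`. -/
noncomputable def rep (c : Pic0 k K) : Divisor k K := (Quotient.out c).1

theorem deg_rep (c : Pic0 k K) : (rep c).deg = 0 := mem_ker_degHom.mp (Quotient.out c).2

theorem mk_eq_mk_iff {D E : Divisor k K} (hD : D.deg = 0) (hE : E.deg = 0) :
    (QuotientAddGroup.mk (⟨D, hD⟩ : (degHom k K).ker) : Pic0 k K) =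
      QuotientAddGroup.mk ⟨E, hE⟩ ↔ D - E ∈ prinDivs k K := by
  rw [QuotientAddGroup.eq_iff_sub_mem]
  rfl

theorem mk_eq_iff {D : Divisor k K} (hD : D.deg = 0) (c : Pic0 k K) :
    (QuotientAddGroup.mk (⟨D, hD⟩ : (degHom k K).ker) : Pic0 k K) = c ↔
      D - rep c ∈ prinDivs k K := by
  conv_lhs => rw [← QuotientAddGroup.out_eq' c]
  exact mk_eq_mk_iff hD (deg_rep c)

theorem finite_pic0 [Finite k] (hF : IsFF k K) : Finite (Pic0 k K) := by
  obtain ⟨P⟩ := exists_place hF
  let m : ℕ := genus k K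
  let D₀ : Divisor k K := Finsupp.single P (m : ℤ)
  have hex : ∀ c : Pic0 k K, ∃ z : K, z ≠ 0 ∧ 0 ≤ rep c + D₀ + FunFld.div k z := fun c => by
    have hd := deg_pos hF P
    have h1 := riemann hF (rep c + D₀)
    rw [Divisor.deg_add, deg_rep, Divisor.deg_single] at h1
    have h2 : (m : ℤ) * 1 ≤ m * P.deg := mul_le_mul_of_nonneg_left (by omega) (by omega)
    obtain ⟨z, hz, -, hz'⟩ := exists_le_add_div hF (D := rep c + D₀) (by
      simp only [m] at h1 h2; omega)
    exact ⟨z, hz, hz'⟩
  choose z hz hz' using hex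
  have := finite_effective (k := k) hF D₀.deg
  refine Finite.of_injective (fun c => (⟨rep c + D₀ + FunFld.div k (z c), hz' c, by
    simp [Divisor.deg_add, deg_rep, deg_div hF]⟩ :
    {D : Divisor k K // 0 ≤ D ∧ D.deg = D₀.deg})) fun c c' h => ?_
  have h' : rep c + D₀ + FunFld.div k (z c) = rep c' + D₀ + FunFld.div k (z c') :=
    congrArg Subtype.val h
  rw [← QuotientAddGroup.out_eq' c, ← QuotientAddGroup.out_eq' c']
  refine (mk_eq_mk_iff (deg_rep c) (deg_rep c')).mpr ((mem_prinDivs hF).mpr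
    ⟨z c' * (z c)⁻¹, mul_ne_zero (hz c') (inv_ne_zero (hz c)), ?_⟩)
  rw [div_mul hF (hz c') (inv_ne_zero (hz c)), div_inv hF]
  show _ = rep c - rep c'
  linear_combination (norm := abel) h'.symm

theorem exists_smul_of_div_eq (hK : IsFunctionField k K) {x y : K} (hx : x ≠ 0) (hy : y ≠ 0)
    (h : FunFld.div k x = FunFld.div k y) : ∃ c : k, c • y = x := by
  have hm : x * y⁻¹ ∈ L (0 : Divisor k K) :=
    (mem_L_iff_ord (mul_ne_zero hx (inv_ne_zero hy))).mpr fun P => by
      rw [ord_mul P hx (inv_ne_zero hy), ord_inv, ← div_apply hK.1, ← div_apply hK.1, h]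
      simp
  rw [L_zero_eq hK] at hm
  obtain ⟨c, hc⟩ := hm
  refine ⟨c, ?_⟩
  rw [Algebra.smul_def, show algebraMap k K c = x * y⁻¹ from hc, inv_mul_cancel_right₀ hy]

theorem div_smul (hF : IsFF k K) {c : k} (hc : c ≠ 0) (x : K) :
    FunFld.div k (c • x) = FunFld.div k x := by
  ext P; rw [div_apply hF, div_apply hF, Place.ord, val_smul P hc, ← Place.ord]

/-- The effective divisors in the class of `D`. -/
abbrev EffClass (D : Divisor k K) : Type _ :=
  {E : Divisor k K // 0 ≤ E ∧ E - D ∈ prinDivs k K}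

theorem natCard_effClass_mul [Finite k] (hK : IsFunctionField k K) (D : Divisor k K) :
    Nat.card (EffClass D) * (Nat.card k - 1) = Nat.card k ^ ell D - 1 := by
  classical
  have hF := hK.1
  have hfin := L_finite hF D
  have : Finite (L D) := Module.finite_of_finite k
  have := Fintype.ofFinite k
  have := Fintype.ofFinite (L D)
  have hex : ∀ E : EffClass D, ∃ z : K, z ≠ 0 ∧ FunFld.div k z = E.1 - D := fun E =>
    (mem_prinDivs hF).mp E.2.2
  choose z hz hz' using hex
  have hzL : ∀ E, z E ∈ L D := fun E => (mem_L_iff_ord (hz E)).mpr fun P => by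
    have h1 : (0 : ℤ) ≤ E.1 P := E.2.1 P
    have h2 := congrArg (fun X : Divisor k K => X P) (hz' E)
    simp [div_apply hF] at h2
    omega
  have hbij : Function.Bijective (fun p : EffClass D × kˣ =>
      (⟨⟨(p.2 : k) • z p.1, Submodule.smul_mem _ _ (hzL p.1)⟩, fun h =>
        (smul_ne_zero p.2.ne_zero (hz p.1)) (congrArg Subtype.val h)⟩ : {x : L D // x ≠ 0})) := by
    constructor
    · rintro ⟨E, u⟩ ⟨E', u'⟩ h
      have h1 : (u : k) • z E = (u' : k) • z E' := congrArg (fun x => ((x.1 : L D) : K)) h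
      have h2 := congrArg (FunFld.div k) h1
      rw [div_smul hF u.ne_zero, div_smul hF u'.ne_zero, hz', hz', sub_left_inj] at h2
      obtain rfl : E = E' := Subtype.ext h2
      obtain rfl : u = u' := Units.ext (smul_left_injective k (hz E) h1)
      rfl
    · rintro ⟨⟨x, hx⟩, hx0⟩
      have hxne : x ≠ 0 := fun e => hx0 (Subtype.ext e)
      let E : EffClass D := ⟨D + FunFld.div k x, fun P => by
        have := (mem_L_iff_ord hxne).mp hx P
        simp [div_apply hF]
        omega, (mem_prinDivs hF).mpr ⟨x, hxne, by abel⟩⟩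
      obtain ⟨c, hc⟩ := exists_smul_of_div_eq hK hxne (hz E) (by rw [hz']; simp [E])
      have hc0 : c ≠ 0 := fun e => hxne (by rw [← hc, e, zero_smul])
      exact ⟨(E, Units.mk0 c hc0), Subtype.ext (Subtype.ext hc)⟩
  have h := Nat.card_congr (Equiv.ofBijective _ hbij)
  rw [Nat.card_prod, Nat.card_units] at h
  rw [h, Nat.card_eq_fintype_card, Fintype.card_subtype_compl, Fintype.card_subtype_eq,
    ← Nat.card_eq_fintype_card, Module.natCard_eq_pow_finrank (K := k)]
  rfl

theorem finite_effClass [Finite k] (hF : IsFF k K) (D : Divisor k K) : Finite (EffClass D) := by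
  have := finite_effective (k := k) hF D.deg
  refine Finite.of_injective (fun E => (⟨E.1, E.2.1, ?_⟩ : {E : Divisor k K // 0 ≤ E ∧ E.deg = D.deg}))
    fun a b h => Subtype.ext (congrArg Subtype.val h :)
  obtain ⟨z, -, hz⟩ := (mem_prinDivs hF).mp E.2.2
  have := congrArg Divisor.deg hz
  rw [deg_div hF, Divisor.deg_sub] at this
  omega

/-- Effective divisors of degree `n`, by classes. -/
theorem effDivCount_eq_sum [Finite k] (hF : IsFF k K) [Fintype (Pic0 k K)] (n : ℕ)
    {D : Divisor k K} (hD : D.deg = n) :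
    effDivCount k K n = ∑ c : Pic0 k K, Nat.card (EffClass (D + rep c)) := by
  have := fun c : Pic0 k K => finite_effClass hF (D + rep c)
  rw [effDivCount, ← Nat.card_sigma]
  refine Nat.card_congr ((Equiv.sigmaFiberEquiv fun E : {E : Divisor k K // 0 ≤ E ∧ E.deg = n} =>
    (QuotientAddGroup.mk (⟨E.1 - D, mem_ker_degHom.mpr (by rw [Divisor.deg_sub, E.2.2, hD, sub_self])⟩ :
      (degHom k K).ker) : Pic0 k K)).symm.trans (Equiv.sigmaCongrRight fun c => ?_))
  exact
    { toFun := fun E => ⟨E.1.1, E.1.2.1, by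
        have := (mk_eq_iff _ c).mp E.2; rwa [sub_sub] at this⟩
      invFun := fun E => ⟨⟨E.1, E.2.1, by
          obtain ⟨z, -, hz⟩ := (mem_prinDivs hF).mp E.2.2
          have := congrArg Divisor.deg hz
          rw [deg_div hF, Divisor.deg_sub, Divisor.deg_add, deg_rep, hD] at this
          omega⟩, (mk_eq_iff _ c).mpr (by rw [sub_sub]; exact E.2.2)⟩
      left_inv := fun E => rfl
      right_inv := fun E => rfl }

theorem classNum_eq : classNum k K = Nat.card (Pic0 k K) := rfl

/-- `(q - 1) a(n) + h` is the total number of sections. -/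
theorem effDivCount_formula [Finite k] (hK : IsFunctionField k K) [Fintype (Pic0 k K)] (n : ℕ)
    {D : Divisor k K} (hD : D.deg = n) :
    ((Nat.card k : ℤ) - 1) * effDivCount k K n =
      ∑ c : Pic0 k K, (Nat.card k : ℤ) ^ ell (D + rep c) - classNum k K := by
  have hq : 1 ≤ Nat.card k := Nat.card_pos
  rw [effDivCount_eq_sum hK.1 n hD, classNum_eq, Nat.card_eq_fintype_card (α := Pic0 k K),
    ← Finset.card_univ, Finset.card_eq_sum_ones]
  push_cast
  rw [Finset.mul_sum, ← Finset.sum_sub_distrib]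
  refine Finset.sum_congr rfl fun c _ => ?_
  have h1 : ((Nat.card (EffClass (D + rep c)) * (Nat.card k - 1) : ℕ) : ℤ) =
      ((Nat.card k ^ ell (D + rep c) - 1 : ℕ) : ℤ) :=
    congrArg Nat.cast (natCard_effClass_mul hK _)
  rw [Nat.cast_mul, Nat.cast_sub hq, Nat.cast_sub (Nat.one_le_pow _ _ hq)] at h1
  push_cast at h1
  linear_combination h1

end Groth.Agent.FFLib
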