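import Groth.Agent.FFLib.Rational
import Groth.Prelude.Def_W4bk4goldsch23Ext
import Mathlib.FieldTheory.Galois.Basic
import Mathlib.RingTheory.Norm.Transitivity

/-! Places in finite extensions. -/

namespace Groth.Agent.FFLib

open FunFld IntermediateField WithZero

variable {k K K' : Type*} [Field k] [Field K] [Field K'] [Algebra k K] [Algebra K K'] [Algebra k K']
  [IsScalarTower k K K']

theorem transcendental_map {x : K} (hx : Transcendental k x) :
    Transcendental k (algebraMap K K' x) := fun h =>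
  hx ((isAlgebraic_algebraMap_iff (algebraMap K K').injective).mp h)

/-- `k(x) ≅ k(x')` inside `K'`. -/
noncomputable def adjoinMapEquiv (x : K) : k⟮x⟯ ≃ₐ[k] k⟮algebraMap K K' x⟯ :=
  (IntermediateField.equivMap k⟮x⟯ (IsScalarTower.toAlgHom k K K')).trans
    (IntermediateField.equivOfEq (by
      rw [adjoin_map, Set.image_singleton]; rfl))

theorem adjoinMapEquiv_coe (x : K) (z : k⟮x⟯) :
    (adjoinMapEquiv (K' := K') x z : K') = algebraMap K K' (z : K) := rfl

theorem finite_adjoin_map [FiniteDimensional K K'] (x : K) [FiniteDimensional k⟮x⟯ K] :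
    FiniteDimensional k⟮algebraMap K K' x⟯ K' ∧
    Module.finrank k⟮algebraMap K K' x⟯ K' = Module.finrank k⟮x⟯ K * Module.finrank K K' := by
  haveI : FiniteDimensional k⟮x⟯ K' := Module.Finite.trans K K'
  have hc : (algebraMap k⟮algebraMap K K' x⟯ K').comp
      (adjoinMapEquiv (K' := K') x).toRingEquiv.toRingHom =
      (RingEquiv.refl K').toRingHom.comp (algebraMap k⟮x⟯ K') :=
    RingHom.ext fun z => adjoinMapEquiv_coe x z
  refine ⟨Module.Finite.of_equiv_equiv (adjoinMapEquiv (K' := K') x).toRingEquiv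
    (RingEquiv.refl K') hc, ?_⟩
  rw [← Algebra.finrank_eq_of_equiv_equiv _ _ hc, Module.finrank_mul_finrank]

theorem IsFF.ext [FiniteDimensional K K'] (h : IsFF k K) : IsFF k K' :=
  let ⟨x, hx, _⟩ := h
  ⟨_, transcendental_map hx, (finite_adjoin_map x).1⟩

theorem exists_over (hF : IsFF k K) [FiniteDimensional K K'] (Q : Place k K') :
    ∃ (P : Place k K) (e : ℕ), 1 ≤ e ∧ IsOverWith Q P e := by
  let v := Q.1.comap (algebraMap K K')
  have hk : ∀ c : k, v (algebraMap k K c) ≤ 1 := fun c => by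
    show Q.1 (algebraMap K K' (algebraMap k K c)) ≤ 1
    rw [← IsScalarTower.algebraMap_apply]; exact Q.2.1 c
  have hnt : ∃ x, x ≠ 0 ∧ v x < 1 := by
    by_contra! h
    have h1 : ∀ x : K, Q.1 (algebraMap K K' x) ≤ 1 := fun x => by
      rcases eq_or_ne x 0 with rfl | hx
      · simp
      · have h1 : (1 : WithZero (Multiplicative ℤ)) ≤ v x⁻¹ := h x⁻¹ (inv_ne_zero hx)
        rw [map_inv₀] at h1
        exact (one_le_inv₀ (zero_lt_iff.mpr (by simpa [v] using hx))).mp h1
    obtain ⟨t, ht0, ht⟩ := exists_unif Q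
    have h2 : Q.1 t⁻¹ ≤ 1 := by
      obtain ⟨p, hp, hp0⟩ := IsIntegral.of_finite (R := K) t⁻¹
      rw [Polynomial.eval₂_eq_sum_range, Finset.sum_range_succ, hp.coeff_natDegree, map_one,
        one_mul] at hp0
      by_contra hgt
      rw [not_le] at hgt
      have hlt : Q.1 (∑ i ∈ Finset.range p.natDegree, algebraMap K K' (p.coeff i) * t⁻¹ ^ i) <
          Q.1 (t⁻¹ ^ p.natDegree) := by
        refine Valuation.map_sum_lt _ (val_ne_zero Q (pow_ne_zero _ (inv_ne_zero ht0))) fun i hi => ?_
        rw [map_mul, map_pow, map_pow]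
        exact lt_of_le_of_lt (mul_le_of_le_one_left' (h1 _))
          (pow_lt_pow_right₀ hgt (Finset.mem_range.mp hi))
      have := Valuation.map_add_eq_of_lt_right _ hlt
      rw [hp0, map_zero] at this
      exact val_ne_zero Q (pow_ne_zero _ (inv_ne_zero ht0)) this.symm
    rw [map_inv₀, ht, ← exp_neg, neg_neg, ← exp_zero, exp_le_exp] at h2
    omega
  obtain ⟨P, hP⟩ := exists_place_of_valuation hF hk hnt
  obtain ⟨t, ht0, ht⟩ := exists_unif P
  have htlt : ¬ (1 ≤ v t) := by
    intro h1
    have h2 : v t⁻¹ ≤ 1 := by rw [map_inv₀]; exact inv_le_one_of_one_le₀ h1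
    have := (hP t⁻¹).mpr h2
    rw [map_inv₀, ht, ← exp_neg, neg_neg, ← exp_zero, exp_le_exp] at this
    omega
  have ht' : algebraMap K K' t ≠ 0 := by simpa using ht0
  have hpos : 0 < Q.ord (algebraMap K K' t) :=
    (val_lt_one_iff Q ht').mp (not_le.mp htlt)
  refine ⟨P, (Q.ord (algebraMap K K' t)).toNat, by omega, fun x => ?_⟩
  rcases eq_or_ne x 0 with rfl | hx
  · rw [map_zero, map_zero, map_zero, zero_pow (by omega)]
  have hu : P.1 (x / t ^ P.ord x) = 1 := by
    rw [map_div₀, map_zpow₀, ht, val_eq_exp P hx, ← exp_zsmul, smul_neg, zsmul_one, Int.cast_eq]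
    simp
  have hu' : v (x / t ^ P.ord x) = 1 := by
    refine le_antisymm ((hP _).mp hu.le) ?_
    have := (hP (x / t ^ P.ord x)⁻¹).mp (by rw [map_inv₀, hu, inv_one])
    rw [map_inv₀] at this
    rcases eq_or_ne (v (x / t ^ P.ord x)) 0 with h0 | h0
    · exfalso
      exact div_ne_zero hx (zpow_ne_zero _ ht0) ((Valuation.zero_iff _).mp h0)
    · exact (inv_le_one₀ (zero_lt_iff.mpr h0)).mp this
  have hq : Q.1 (algebraMap K K' x) = Q.1 (algebraMap K K' t) ^ P.ord x := by
    have h3 : v x = v (x / t ^ P.ord x) * v t ^ P.ord x := by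
      rw [← map_zpow₀, ← map_mul, div_mul_cancel₀ _ (zpow_ne_zero _ ht0)]
    rw [hu', one_mul] at h3
    exact h3
  rw [hq, val_eq_exp Q ht', val_eq_exp P hx, ← exp_zsmul, ← exp_nsmul]
  congr 1
  rw [nsmul_eq_mul, smul_eq_mul, Int.toNat_of_nonneg hpos.le]
  ring

omit [IsScalarTower k K K'] in
theorem ord_over {Q : Place k K'} {P : Place k K} {e : ℕ} (h : IsOverWith Q P e) (x : K) :
    Q.ord (algebraMap K K' x) = e * P.ord x := by
  rcases eq_or_ne x 0 with rfl | hx
  · simp
  · exact ord_of_val_eq Q (by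
      rw [h x, val_eq_exp P hx, ← exp_nsmul, nsmul_eq_mul, mul_neg])

theorem over_pos (hF : IsFF k K) [FiniteDimensional K K'] {Q : Place k K'} {P : Place k K} {e : ℕ}
    (h : IsOverWith Q P e) : 1 ≤ e := by
  obtain ⟨P', e', he', h'⟩ := exists_over hF Q
  obtain ⟨t, ht0, ht⟩ := exists_unif P'
  have h1 := ord_over h t
  have h2 := ord_over h' t
  rw [ord_of_val_eq P' ht] at h2
  rcases Nat.eq_zero_or_pos e with rfl | he
  · simp [h2] at h1; omega
  · exact he

theorem over_unique (hF : IsFF k K) [FiniteDimensional K K'] {Q : Place k K'} {P P' : Place k K}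
    {e e' : ℕ} (h : IsOverWith Q P e) (h' : IsOverWith Q P' e') : P = P' ∧ e = e' := by
  have he := over_pos hF h
  have he' := over_pos hF h'
  have hP : P = P' := place_eq_of_le fun x hx => by
    have h1 := h x
    rw [h' x] at h1
    exact (pow_le_one_iff (by omega)).mp (h1 ▸ pow_le_one' hx e)
  subst hP
  obtain ⟨t, -, ht⟩ := exists_unif P
  have h1 := ord_over h t
  rw [ord_over h' t, ord_of_val_eq P ht] at h1
  exact ⟨rfl, by omega⟩

theorem ramIdx_eq (hF : IsFF k K) [FiniteDimensional K K'] {Q : Place k K'} {P : Place k K}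
    {e : ℕ} (h : IsOverWith Q P e) : ramIdx Q P = e := by
  classical
  have hov : IsOver Q P := ⟨e, h⟩
  rw [ramIdx, dif_pos hov]
  exact (over_unique hF (Nat.find_spec hov) h).2

theorem isOver_iff_one_lt (hF : IsFF k K) [FiniteDimensional K K'] {P : Place k K} {x : K}
    (hx : 1 < P.1 x) (hx' : ∀ P', P' ≠ P → P'.1 x ≤ 1) (Q : Place k K') :
    IsOver Q P ↔ 1 < Q.1 (algebraMap K K' x) := by
  constructor
  · rintro ⟨e, he⟩
    rw [he x]
    exact one_lt_pow' hx (by have := over_pos hF he; omega)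
  · intro h
    obtain ⟨P', e, -, he⟩ := exists_over hF Q
    rw [he x] at h
    have : P' = P := by
      by_contra hne
      exact h.not_ge (pow_le_one' (hx' P' hne) e)
    exact this ▸ ⟨e, he⟩

/-- A function with poles only at `P`. -/
theorem exists_poles_single (hF : IsFF k K) (P : Place k K) :
    ∃ x : K, Transcendental k x ∧ 1 < P.1 x ∧ (∀ P', P' ≠ P → P'.1 x ≤ 1) ∧
      ∃ m : ℕ, 1 ≤ m ∧ (poles x : Divisor k K) = Finsupp.single P (m : ℤ) := by
  classical
  have hd := deg_pos hF P
  let n : ℕ := genus k K + ell (0 : Divisor k K)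
  have hnot : ¬ L (Finsupp.single P (n : ℤ)) ≤ L (0 : Divisor k K) := fun hle => by
    have := L_finite hF (0 : Divisor k K)
    have h5 := Submodule.finrank_mono hle
    have h1 := riemann hF (Finsupp.single P (n : ℤ))
    have h2 : (n : ℤ) * 1 ≤ n * P.deg := mul_le_mul_of_nonneg_left (by omega) (by omega)
    rw [Divisor.deg_single] at h1
    simp only [ell, n] at h1 h5 h2
    omega
  obtain ⟨x, hx, hx0⟩ := SetLike.not_le_iff_exists.mp hnot
  have hxne : x ≠ 0 := fun e => hx0 (e ▸ zero_mem _)
  have hoff : ∀ P', P' ≠ P → P'.1 x ≤ 1 := fun P' hP' => by simpa [hP'] using hx P'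
  have hP : 1 < P.1 x := by
    by_contra h
    refine hx0 fun Q => ?_
    rw [Finsupp.coe_zero, Pi.zero_apply, exp_zero]
    rcases eq_or_ne Q P with rfl | hQ
    · exact not_lt.mp h
    · exact hoff Q hQ
  have hord := (one_lt_val_iff P hxne).mp hP
  refine ⟨x, transcendental_of_ord_ne_zero P (by omega), hP, hoff, (-P.ord x).toNat, by omega, ?_⟩
  ext Q
  rw [poles, Finsupp.mapRange_apply, div_apply hF]
  rcases eq_or_ne Q P with rfl | hQ
  · simp
  · have := (val_le_one_iff Q hxne).mp (hoff Q hQ)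
    simp [Finsupp.single_apply, Ne.symm hQ]
    omega

theorem over_finite (hF : IsFF k K) [FiniteDimensional K K'] (P : Place k K) :
    {Q : Place k K' | IsOver Q P}.Finite := by
  obtain ⟨x, hx, hxP, hxoff, -⟩ := exists_poles_single hF P
  have hx0 : x ≠ 0 := fun e => hx (e ▸ isAlgebraic_zero)
  refine (finite_zeros (hF.ext) (transcendental_inv (transcendental_map (K' := K') hx))).subset
    fun Q hQ => ?_
  show Q.1 (algebraMap K K' x)⁻¹ < 1
  rw [map_inv₀]
  exact inv_lt_one_of_one_lt₀ ((isOver_iff_one_lt hF hxP hxoff Q).mp hQ)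

open Classical in
theorem sum_ram_deg (hF : IsFF k K) [FiniteDimensional K K'] (P : Place k K)
    (Qs : Finset (Place k K')) (hQs : ∀ Q, Q ∈ Qs ↔ IsOver Q P) :
    ∑ Q ∈ Qs, ramIdx Q P * Q.deg = Module.finrank K K' * P.deg := by
  obtain ⟨x, hx, hxP, hxoff, m, hm, hpoles⟩ := exists_poles_single hF P
  have hF' : IsFF k K' := (hF.ext)
  have := hF.finite_adjoin hx
  have h1 := deg_poles hF hx
  rw [hpoles, Divisor.deg_single] at h1
  have h2 := deg_poles hF' (transcendental_map (K' := K') hx)
  rw [(finite_adjoin_map x).2] at h2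
  have hx0 : x ≠ 0 := fun e => hx (e ▸ isAlgebraic_zero)
  have hx' : algebraMap K K' x ≠ 0 := by simpa using hx0
  have hordP : P.ord x = -(m : ℤ) := by
    have := congrArg (fun D : Divisor k K => D P) hpoles
    simp [poles, div_apply hF] at this
    omega
  have hsupp : ∀ Q : Place k K', (poles (algebraMap K K' x) : Divisor k K') Q =
      if Q ∈ Qs then (ramIdx Q P : ℤ) * m else 0 := by
    intro Q
    rw [poles, Finsupp.mapRange_apply, div_apply hF']
    split_ifs with h
    · obtain ⟨e, he⟩ := (hQs Q).mp h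
      rw [ord_over he, hordP, ramIdx_eq hF he, mul_neg, neg_neg, max_eq_left (by positivity)]
    · have : ¬ IsOver Q P := mt (hQs Q).mpr h
      rw [isOver_iff_one_lt hF hxP hxoff, not_lt, val_le_one_iff Q hx'] at this
      omega
  have hsub : (poles (algebraMap K K' x) : Divisor k K').support ⊆ Qs := fun Q hQ => by
    by_contra h
    simp [Finsupp.mem_support_iff, hsupp, h] at hQ
  rw [Divisor.deg, Finsupp.sum_of_support_subset _ hsub _ (by simp)] at h2
  have h3 : (m : ℤ) * ∑ Q ∈ Qs, ((ramIdx Q P * Q.deg : ℕ) : ℤ) =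
      (Module.finrank K K' : ℤ) * ((m : ℤ) * P.deg) := by
    rw [h1, Finset.mul_sum, mul_comm (Module.finrank K K' : ℤ), ← Nat.cast_mul, ← h2]
    refine Finset.sum_congr rfl fun Q hQ => ?_
    rw [hsupp, if_pos hQ]
    push_cast
    ring
  rw [mul_left_comm] at h3
  have := mul_left_cancel₀ (by omega : (m : ℤ) ≠ 0) h3
  exact_mod_cast this

theorem exists_isOver (hF : IsFF k K) [FiniteDimensional K K'] (P : Place k K) :
    ∃ Q : Place k K', IsOver Q P := by
  have h := sum_ram_deg hF P (over_finite (K' := K') hF P).toFinset (fun Q => Set.Finite.mem_toFinset _)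
  by_contra! hne
  have hz : (over_finite (K' := K') hF P).toFinset = ∅ :=
    Finset.eq_empty_of_forall_notMem fun Q hQ => hne Q (((over_finite (K' := K') hF P).mem_toFinset).mp hQ : Q ∈ {Q | IsOver Q P})
  rw [hz, Finset.sum_empty] at h
  have := deg_pos hF P
  have : 0 < Module.finrank K K' := Module.finrank_pos
  rcases mul_eq_zero.mp h.symm with h' | h' <;> omega

theorem conorm_apply (hF : IsFF k K) [FiniteDimensional K K'] (D : Divisor k K)
    {Q : Place k K'} {P : Place k K} {e : ℕ} (h : IsOverWith Q P e) :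
    conorm K' D Q = e * D P := by
  classical
  simp only [conorm, Finsupp.sum, Finsupp.finsetSum_apply, Finsupp.smul_apply]
  rw [Finset.sum_eq_single P]
  · rw [dif_pos (over_finite hF P), Finsupp.finsetSum_apply,
      Finset.sum_eq_single_of_mem Q ((over_finite hF P).mem_toFinset.mpr (⟨e, h⟩ : IsOver Q P))
        (fun Q' _ hne => by rw [Finsupp.smul_apply, Finsupp.single_apply, if_neg hne, smul_zero])]
    simp [ramIdx_eq hF h, mul_comm]
  · intro P' _ hne
    rw [dif_pos (over_finite hF P'), Finsupp.finsetSum_apply, Finset.sum_eq_zero, smul_zero]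
    intro Q' hQ'
    obtain ⟨e', he'⟩ := (Set.Finite.mem_toFinset _).mp hQ'
    have : Q' ≠ Q := fun e => hne (over_unique hF (e ▸ he') h).1
    simp [Finsupp.single_apply, this]
  · intro hP
    simp [Finsupp.notMem_support_iff.mp hP]

theorem div_algebraMap (hF : IsFF k K) [FiniteDimensional K K'] (x : K) :
    FunFld.div k (algebraMap K K' x) = conorm K' (FunFld.div k x) := by
  ext Q
  obtain ⟨P, e, -, he⟩ := exists_over hF Q
  rw [div_apply (hF.ext), ord_over he, conorm_apply hF _ he, div_apply hF]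

theorem conorm_add (hF : IsFF k K) [FiniteDimensional K K'] (D E : Divisor k K) :
    conorm K' (D + E) = conorm K' D + conorm K' E := by
  ext Q
  obtain ⟨P, e, -, he⟩ := exists_over hF Q
  simp [conorm_apply hF _ he, mul_add]

theorem deg_conorm (hF : IsFF k K) [FiniteDimensional K K'] (D : Divisor k K) :
    (conorm K' D).deg = Module.finrank K K' * D.deg := by
  classical
  have hs : ∀ (P : Place k K) (n : ℤ),
      (conorm K' (Finsupp.single P n)).deg = Module.finrank K K' * (n * P.deg) := by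
    intro P n
    set Qs := (over_finite (K' := K') hF P).toFinset
    have hval : conorm K' (Finsupp.single P n) =
        ∑ Q ∈ Qs, Finsupp.single Q ((ramIdx Q P : ℤ) * n) := by
      ext Q
      obtain ⟨P', e, -, he⟩ := exists_over hF Q
      rw [conorm_apply hF _ he, Finsupp.finsetSum_apply]
      rcases eq_or_ne P P' with rfl | hne
      · rw [Finset.sum_eq_single_of_mem Q ((over_finite hF P).mem_toFinset.mpr (⟨e, he⟩ : IsOver Q P))
          (fun Q' _ hne => by rw [Finsupp.single_apply, if_neg hne]), ramIdx_eq hF he]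
        simp
      · rw [Finset.sum_eq_zero, Finsupp.single_apply, if_neg hne, mul_zero]
        intro Q' hQ'
        obtain ⟨e', he'⟩ := (Set.Finite.mem_toFinset _).mp hQ'
        have : Q' ≠ Q := fun e => hne (over_unique hF (e ▸ he') he).1
        simp [Finsupp.single_apply, this]
    have hsum : ∀ (s : Finset (Place k K')) (f : Place k K' → Divisor k K'),
        (∑ Q ∈ s, f Q).deg = ∑ Q ∈ s, (f Q).deg := by
      intro s f
      induction s using Finset.induction with
      | empty => simp
      | insert a s ha ih => rw [Finset.sum_insert ha, Finset.sum_insert ha, Divisor.deg_add, ih]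
    rw [hval, hsum, mul_comm n, ← mul_assoc, ← Nat.cast_mul,
      ← sum_ram_deg hF P Qs (fun Q => Set.Finite.mem_toFinset _), Nat.cast_sum, Finset.sum_mul]
    refine Finset.sum_congr rfl fun Q _ => ?_
    rw [Divisor.deg_single]
    push_cast
    ring
  induction D using Finsupp.induction with
  | zero => simp [conorm]
  | single_add a b f _ _ ih =>
    rw [conorm_add hF, Divisor.deg_add, Divisor.deg_add, Divisor.deg_single, hs, ih]
    ring

/-! ### residue degrees and automorphisms -/

theorem ResIndep.card_le {F L : Type*} [Field F] [Field L] [Algebra F L] (hF : IsFF F L)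
    {Q : Place F L} {m : ℕ} {a : Fin m → L} (h : ResIndep Q a) : m ≤ Q.deg := by
  have := residue_finite hF Q
  let b : Fin m → Q.O := fun i => ⟨a i, h.1 i⟩
  have hind : LinearIndependent F fun i => IsLocalRing.residue Q.O (b i) := by
    rw [Fintype.linearIndependent_iff]
    intro c hc
    have h1 : IsLocalRing.residue Q.O (∑ i, algebraMap F Q.O (c i) * b i) = 0 := by
      rw [map_sum]
      exact (Finset.sum_congr rfl fun i _ => (residue_smul Q (c i) (b i)).symm).trans hc
    rw [residue_eq_zero, AddSubmonoidClass.coe_finsetSum] at h1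
    exact congrFun (h.2 c (by
      simpa only [MulMemClass.coe_mul, coe_algebraMap_O, Algebra.smul_def] using h1))
  simpa [Place.deg] using hind.fintype_card_le_finrank

theorem exists_resIndep {F L : Type*} [Field F] [Field L] [Algebra F L] (hF : IsFF F L)
    (P : Place F L) : ∃ a : Fin P.deg → L, ResIndep P a := by
  have := residue_finite hF P
  choose a ha using fun i : Fin P.deg =>
    IsLocalRing.residue_surjective ((Module.finBasis F (Res P)) i)
  exact ⟨fun i => (a i : L), resIndep_of_residue P a (by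
    simp only [ha]; exact (Module.finBasis F (Res P)).linearIndependent)⟩

theorem deg_le_deg_over (hF : IsFF k K) [FiniteDimensional K K'] {Q : Place k K'} {P : Place k K}
    (h : IsOver Q P) : P.deg ≤ Q.deg := by
  obtain ⟨e, he⟩ := h
  obtain ⟨a, ha⟩ := exists_resIndep hF P
  have he1 := over_pos hF he
  refine ResIndep.card_le (Q := Q) hF.ext (a := fun i => algebraMap K K' (a i))
    ⟨fun i => by rw [he]; exact pow_le_one' (ha.1 i) e, fun c hc => ha.2 c ?_⟩
  by_contra hge
  rw [show (∑ i, c i • algebraMap K K' (a i)) = algebraMap K K' (∑ i, c i • a i) by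
    rw [map_sum]; exact Finset.sum_congr rfl fun i _ => (map_smul (IsScalarTower.toAlgHom k K K') (c i) (a i)).symm,
    he] at hc
  exact hc.not_ge (one_le_pow₀ (not_lt.mp hge))

/-- The place `Q ∘ σ`. -/
def placeComap {F L : Type*} [Field F] [Field L] [Algebra F L] (σ : L ≃ₐ[F] L) (Q : Place F L) :
    Place F L :=
  ⟨Q.1.comap (σ : L →+* L), fun c => by
      show Q.1 (σ (algebraMap F L c)) ≤ 1
      rw [σ.commutes]; exact Q.2.1 c,
    fun y => by obtain ⟨x, hx⟩ := Q.2.2 y; exact ⟨σ.symm x, by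
      show Q.1 (σ (σ.symm x)) = y
      rw [σ.apply_symm_apply]; exact hx⟩⟩

theorem placeComap_apply {F L : Type*} [Field F] [Field L] [Algebra F L] (σ : L ≃ₐ[F] L)
    (Q : Place F L) (x : L) : (placeComap σ Q).1 x = Q.1 (σ x) := rfl

theorem deg_placeComap {F L : Type*} [Field F] [Field L] [Algebra F L] (hF : IsFF F L)
    (σ : L ≃ₐ[F] L) (Q : Place F L) : (placeComap σ Q).deg = Q.deg := by
  refine le_antisymm ?_ ?_
  · obtain ⟨a, ha⟩ := exists_resIndep hF (placeComap σ Q)
    refine ResIndep.card_le hF (a := fun i => σ (a i)) ⟨ha.1, fun c hc => ha.2 c ?_⟩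
    rw [placeComap_apply, map_sum]
    simpa only [map_smul] using hc
  · obtain ⟨a, ha⟩ := exists_resIndep hF Q
    refine ResIndep.card_le hF (a := fun i => σ.symm (a i))
      ⟨fun i => by rw [placeComap_apply, σ.apply_symm_apply]; exact ha.1 i, fun c hc => ha.2 c ?_⟩
    simpa [placeComap_apply] using hc

theorem isOverWith_placeComap (σ : K' ≃ₐ[K] K') {Q : Place k K'} {P : Place k K} {e : ℕ}
    (h : IsOverWith Q P e) : IsOverWith (placeComap (σ.restrictScalars k) Q) P e := fun x => by
  show Q.1 (σ (algebraMap K K' x)) = _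
  rw [σ.commutes]
  exact h x

/-- Galois conjugacy of the places above a given one. -/
theorem exists_conj (hF : IsFF k K) [FiniteDimensional K K'] [IsGalois K K'] {Q₁ Q₂ : Place k K'}
    {P : Place k K} (h1 : IsOver Q₁ P) (h2 : IsOver Q₂ P) :
    ∃ σ : K' ≃ₐ[K] K', placeComap (σ.restrictScalars k) Q₁ = Q₂ := by
  classical
  by_contra! hne
  let c : (K' ≃ₐ[K] K') → Place k K' → Place k K' := fun σ => placeComap (σ.restrictScalars k)
  have hdisj : ∀ σ τ, c σ Q₁ ≠ c τ Q₂ := fun σ τ h => hne (σ * τ⁻¹) (by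
    apply Subtype.ext
    apply Valuation.ext
    intro x
    have h' := congrArg (fun R : Place k K' => R.1 ((τ⁻¹ : K' ≃ₐ[K] K') x)) h
    refine h'.trans ?_
    show Q₂.1 (τ ((τ⁻¹ : K' ≃ₐ[K] K') x)) = Q₂.1 x
    rw [← AlgEquiv.mul_apply, mul_inv_cancel, AlgEquiv.one_apply])
  let O₁ := Finset.univ.image fun σ => c σ Q₁
  let O₂ := Finset.univ.image fun σ => c σ Q₂
  obtain ⟨y, hy⟩ := exists_approx (O₁ ∪ O₂) (fun Q => if Q ∈ O₁ then 1 else 0) (fun _ => 1)
  have hexp : (exp (-1) : WithZero (Multiplicative ℤ)) < 1 := by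
    rw [← exp_zero, exp_lt_exp]; omega
  have hy2 : ∀ σ : K' ≃ₐ[K] K', Q₂.1 (σ y) < 1 := fun σ => by
    have := hy (c σ Q₂) (Finset.mem_union_right _ (Finset.mem_image_of_mem _ (Finset.mem_univ σ)))
    rw [if_neg, sub_zero] at this
    · exact this.trans_lt hexp
    · intro hmem
      obtain ⟨τ, -, hτ⟩ := Finset.mem_image.mp hmem
      exact hdisj τ σ hτ
  have hy1 : ∀ σ : K' ≃ₐ[K] K', Q₁.1 (σ y) = 1 := fun σ => by
    have hmem : c σ Q₁ ∈ O₁ := Finset.mem_image_of_mem _ (Finset.mem_univ σ)
    have := hy (c σ Q₁) (Finset.mem_union_left _ hmem)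
    rw [if_pos hmem] at this
    show (c σ Q₁).1 y = 1
    rw [show y = 1 + (y - 1) by ring,
      Valuation.map_add_eq_of_lt_left _ (by rw [map_one]; exact this.trans_lt hexp), map_one]
  obtain ⟨e₁, he₁⟩ := h1
  obtain ⟨e₂, he₂⟩ := h2
  have hN : Q₁.1 (algebraMap K K' (Algebra.norm K y)) = 1 := by
    rw [Algebra.norm_eq_prod_automorphisms, map_prod]
    exact Finset.prod_eq_one fun σ _ => hy1 σ
  have hN2 : Q₂.1 (algebraMap K K' (Algebra.norm K y)) < 1 := by
    rw [Algebra.norm_eq_prod_automorphisms, map_prod,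
      ← Finset.mul_prod_erase _ _ (Finset.mem_univ (1 : K' ≃ₐ[K] K'))]
    exact mul_lt_one_of_nonneg_of_lt_one_left zero_le' (hy2 1)
      (Finset.prod_le_one' fun σ _ => (hy2 σ).le)
  rw [he₁] at hN
  rw [he₂] at hN2
  have := over_pos hF he₁
  have := over_pos hF he₂
  rw [pow_eq_one_iff_left (by omega)] at hN
  rw [hN, one_pow] at hN2
  exact lt_irrefl _ hN2

end Groth.Agent.FFLib
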