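import Groth.Agent.FFLib.Geometric
import Groth.Agent.FFLib.Rational
import Groth.Agent.FFLib.Ext
import Mathlib.FieldTheory.PurelyInseparable.PerfectClosure

/-! Uniformisers at separable places. -/

namespace Groth.Agent.FFLib

open FunFld IntermediateField WithZero

variable {k K : Type*} [Field k] [Field K] [Algebra k K]

theorem mem_span_pow_of_mem_powField (p : ℕ) (hp : 1 ≤ p) {z : K} (hz : z ∈ powField k K p) :
    z ∈ Submodule.span k (Set.range fun y : K => y ^ p) := by
  set W := Submodule.span k (Set.range fun y : K => y ^ p)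
  have h1 : (1 : K) ∈ W := Submodule.subset_span ⟨1, one_pow p⟩
  have hmul : ∀ a ∈ W, ∀ b ∈ W, a * b ∈ W := by
    intro a ha b hb
    induction ha using Submodule.span_induction with
    | mem a ha =>
      induction hb using Submodule.span_induction with
      | mem b hb =>
        obtain ⟨a, rfl⟩ := ha
        obtain ⟨b, rfl⟩ := hb
        exact Submodule.subset_span ⟨a * b, mul_pow a b p⟩
      | zero => simp
      | add u v _ _ hu hv => rw [mul_add]; exact add_mem hu hv
      | smul c u _ hu => rw [mul_smul_comm]; exact W.smul_mem c hu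
    | zero => simp
    | add u v _ _ hu hv => rw [add_mul]; exact add_mem hu hv
    | smul c u _ hu => rw [smul_mul_assoc]; exact W.smul_mem c hu
  induction hz using IntermediateField.adjoin_induction with
  | mem a ha => exact Submodule.subset_span ha
  | algebraMap c => rw [Algebra.algebraMap_eq_smul_one]; exact W.smul_mem c h1
  | add a b _ _ ha hb => exact add_mem ha hb
  | inv a _ ha =>
    rcases eq_or_ne a 0 with rfl | h0
    · simp
    have hpow : ∀ n : ℕ, a ^ n ∈ W := fun n => by
      induction n with
      | zero => simpa using h1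
      | succ n ih => rw [pow_succ]; exact hmul _ ih _ ha
    have : a⁻¹ = a ^ (p - 1) * a⁻¹ ^ p := by
      obtain ⟨q, rfl⟩ : ∃ q, p = q + 1 := ⟨p - 1, by omega⟩
      rw [Nat.add_sub_cancel, pow_succ, ← mul_assoc, ← mul_pow, mul_inv_cancel₀ h0, one_pow, one_mul]
    rw [this]
    exact hmul _ (hpow _) _ (Submodule.subset_span ⟨a⁻¹, rfl⟩)
  | mul a b _ _ ha hb => exact hmul a ha b hb

/-- At a place with separable residue field the orders of `k(K^p)` are multiples of `p`. -/
theorem dvd_ord_of_mem_powField (hF : IsFF k K) (p : ℕ) [Fact p.Prime] [CharP K p] (P : Place k K)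
    [Algebra.IsSeparable k (IsLocalRing.ResidueField P.O)] {z : K} (hz : z ∈ powField k K p)
    (hz0 : z ≠ 0) : (p : ℤ) ∣ P.ord z := by
  classical
  have hp : p.Prime := Fact.out
  haveI : CharP k p := (algebraMap k K).charP (algebraMap k K).injective p
  haveI : ExpChar k p := .prime hp
  haveI : ExpChar K p := .prime hp
  haveI := residue_finite hF P
  obtain ⟨n, c, y, hy⟩ : ∃ (n : ℕ) (c : Fin n → k) (y : Fin n → K), z = ∑ j, c j • y j ^ p := by
    have := mem_span_pow_of_mem_powField p hp.one_le hz
    obtain ⟨n, c, g, hg⟩ := Submodule.mem_span_set'.mp this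
    choose y hy using fun j => (g j).2
    exact ⟨n, c, y, by rw [← hg]; exact Finset.sum_congr rfl fun j _ => by rw [← hy j]⟩
  obtain ⟨t, ht0, ht⟩ := exists_unif P
  -- a residue basis whose `p`-th powers are residually independent
  let b := Module.finBasis k (Res P)
  choose a ha using fun i => IsLocalRing.residue_surjective (b i)
  have hind : ResIndep P (fun i => (a i : K) ^ p) := by
    have h := resIndep_of_residue P (fun i => a i ^ p) (by
      simp only [map_pow, ha]
      have h' := LinearIndependent.map_pow_expChar_pow_of_isSeparable (F := k) p 1 b.linearIndependent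
      simp only [pow_one] at h'
      exact h')
    simpa only [SubmonoidClass.coe_pow] using h
  have happrox : ∀ (m : ℤ) (w : K), P.1 w ≤ exp (-m) → ∃ d : Fin (Module.finrank k (Res P)) → k,
      P.1 (w - t ^ m * ∑ i, d i • (a i : K)) ≤ exp (-(m + 1)) := by
    intro m w hw
    have htm : P.1 (t ^ m) = exp (-m) := by rw [map_zpow₀, ht, ← exp_zsmul]; simp
    have hu : P.1 (w / t ^ m) ≤ 1 := by
      rw [map_div₀, htm, div_le_one₀ (zero_lt_iff.mpr exp_ne_zero)]; exact hw
    refine ⟨b.repr (IsLocalRing.residue P.O ⟨_, hu⟩), ?_⟩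
    have h := (residue_eq_zero P
      (⟨_, hu⟩ - ∑ i, algebraMap k P.O (b.repr (IsLocalRing.residue P.O ⟨_, hu⟩) i) * a i)).mp (by
        rw [map_sub, map_sum, sub_eq_zero]
        conv_lhs => rw [← b.sum_repr (IsLocalRing.residue P.O ⟨_, hu⟩)]
        exact Finset.sum_congr rfl fun i _ => by rw [← residue_smul, ha]; rfl)
    simp only [AddSubgroupClass.coe_sub, AddSubmonoidClass.coe_finsetSum, MulMemClass.coe_mul,
      coe_algebraMap_O] at h
    set d := b.repr (IsLocalRing.residue P.O ⟨_, hu⟩)
    rw [show w - t ^ m * ∑ i, d i • (a i : K) =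
      t ^ m * (w / t ^ m - ∑ i, algebraMap k K (d i) * (a i : K)) by
        rw [mul_sub, mul_div_cancel₀ _ (zpow_ne_zero _ ht0)]
        simp only [Algebra.smul_def], map_mul, htm]
    rcases eq_or_ne (w / t ^ m - ∑ i, algebraMap k K (d i) * (a i : K)) 0 with e | e
    · rw [e, map_zero, mul_zero]; exact zero_le'
    rw [val_eq_exp P e, ← exp_zero, exp_lt_exp] at h
    rw [val_eq_exp P e, ← exp_add, exp_le_exp]
    omega
  -- raise the order of all `y j` until the leading term survives
  have key : ∀ (N : ℕ) (m : ℤ) (y : Fin n → K), z = ∑ j, c j • y j ^ p → (∀ j, P.1 (y j) ≤ exp (-m)) →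
      P.ord z < m * p + N → (p : ℤ) ∣ P.ord z := by
    intro N
    induction N with
    | zero =>
      intro m y hy hle hlt
      exfalso
      have h1 : P.1 z ≤ exp (-(m * p)) := by
        rw [hy]
        refine Valuation.map_sum_le _ fun j _ => ?_
        rw [Algebra.smul_def, map_mul, map_pow]
        refine (mul_le_mul' (P.2.1 _) (pow_le_pow_left₀ zero_le' (hle j) p)).trans_eq ?_
        rw [one_mul, ← exp_nsmul, nsmul_eq_mul]
        congr 1
        ring
      rw [val_eq_exp P hz0, exp_le_exp] at h1
      push_cast at hlt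
      omega
    | succ N ih =>
      intro m y hy hle hlt
      choose d hd using fun j => happrox m (y j) (hle j)
      set f : Fin (Module.finrank k (Res P)) → k := fun i => ∑ j, c j * d j i ^ p
      set r : Fin n → K := fun j => y j - t ^ m * ∑ i, d j i • (a i : K)
      have hsplit : z = (t ^ m) ^ p * ∑ i, f i • (a i : K) ^ p + ∑ j, c j • r j ^ p := by
        simp only [f, r, sub_pow_char, mul_pow, sum_pow_char, smul_sub, Finset.sum_sub_distrib,
          smul_pow, Finset.sum_smul, ← hy]
        rw [Finset.mul_sum, Finset.sum_congr rfl fun i _ => Finset.mul_sum _ _ _, Finset.sum_comm]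
        simp only [← mul_smul_comm, smul_smul, Finset.smul_sum, Finset.mul_sum]
        abel
      rcases eq_or_ne f 0 with hf | hf
      · rw [hf] at hsplit
        simp only [Pi.zero_apply, zero_smul, Finset.sum_const_zero, mul_zero, zero_add] at hsplit
        exact ih (m + 1) r hsplit hd (by
          push_cast at hlt ⊢
          have := hp.two_le
          nlinarith)
      · have hmain : P.1 ((t ^ m) ^ p * ∑ i, f i • (a i : K) ^ p) = exp (-(m * p)) := by
          rw [map_mul, hind.val_sum hf, mul_one, map_pow, map_zpow₀, ht, ← exp_zsmul, ← exp_nsmul]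
          congr 1
          simp
          ring
        have hrest : P.1 (∑ j, c j • r j ^ p) < exp (-(m * p)) := by
          refine (Valuation.map_sum_le _ fun j _ => ?_).trans_lt
            (show exp (-((m + 1) * p)) < exp (-(m * (p : ℤ))) by
              rw [exp_lt_exp]; have := hp.two_le; nlinarith)
          rw [Algebra.smul_def, map_mul, map_pow]
          refine (mul_le_mul' (P.2.1 _) (pow_le_pow_left₀ zero_le' (hd j) p)).trans_eq ?_
          rw [one_mul, ← exp_nsmul, nsmul_eq_mul]
          congr 1
          ring
        have := P.1.map_add_eq_of_lt_left (hrest.trans_eq hmain.symm)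
        rw [← hsplit, hmain] at this
        exact ⟨m, by rw [ord_of_val_eq P this]; ring⟩
  obtain ⟨m, hm⟩ : ∃ m : ℤ, ∀ j, P.1 (y j) ≤ exp (-m) := by
    refine ⟨-(∑ j, |P.ord (y j)|), fun j => ?_⟩
    rcases eq_or_ne (y j) 0 with e | e
    · rw [e, map_zero]; exact zero_le'
    rw [val_eq_exp P e, exp_le_exp, neg_neg]
    exact (neg_le_abs _).trans (Finset.single_le_sum (fun i _ => abs_nonneg (P.ord (y i))) (Finset.mem_univ j))
  exact key ((P.ord z - m * p).toNat + 1) m y hy hm (by omega)

/-- A uniformiser at a separable place has nonzero differential. -/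
theorem D_unif_ne_zero (hK : IsFunctionField k K) (hg : IsGeometric k K) (P : Place k K)
    [Algebra.IsSeparable k (IsLocalRing.ResidueField P.O)] {t : K} (ht : P.1 t = exp (-1 : ℤ)) :
    KaehlerDifferential.D k K t ≠ 0 := by
  have hord : P.ord t = 1 := ord_of_val_eq P ht
  obtain h0 | ⟨p, hp, hpk⟩ := CharP.exists' k
  · have htr := transcendental_of_ord_ne_zero P (x := t) (by omega)
    haveI := IsFF.finite_adjoin hK.1 htr
    haveI := h0
    haveI : CharZero k⟮t⟯ := charZero_of_injective_algebraMap (algebraMap k k⟮t⟯).injective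
    exact D_ne_zero hK htr inferInstance
  · haveI : CharP K p := charP_of_injective_algebraMap (algebraMap k K).injective p
    obtain ⟨x, hx, hsep⟩ := exists_separating_element hK hg
    intro hD
    have hmem := (powField_facts p hK hx hsep).2.2 t hD
    have := dvd_ord_of_mem_powField hK.1 p P hmem (fun e => by rw [e, map_zero] at ht; exact exp_ne_zero ht.symm)
    rw [hord] at this
    have h2 := Int.le_of_dvd one_pos this
    have := hp.out.two_le
    omega

end Groth.Agent.FFLib
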