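import Groth.Agent.FFLib.Small

/-! Bases by pole orders; genus one with a rational place. -/

namespace Groth.Agent.FFLib

open FunFld WithZero

variable {k K : Type*} [Field k] [Field K] [Algebra k K]

theorem linearIndependent_of_ord_injective {ι : Type*} [Fintype ι] (P : Place k K) (v : ι → K)
    (h0 : ∀ i, v i ≠ 0) (hinj : Function.Injective fun i => P.ord (v i)) :
    LinearIndependent k v := by
  classical
  rw [Fintype.linearIndependent_iff]
  intro c hc i
  by_contra hi
  let S := Finset.univ.filter fun j => c j ≠ 0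
  obtain ⟨j, hj, hmin⟩ := S.exists_min_image (fun j => P.ord (v j)) ⟨i, by simp [S, hi]⟩
  have hcj : c j ≠ 0 := (Finset.mem_filter.mp hj).2
  have hlt : ∀ l ∈ (Finset.univ : Finset ι) \ {j}, P.1 (c l • v l) < P.1 (c j • v j) := by
    intro l hl
    have hlj : l ≠ j := by simpa using hl
    rcases eq_or_ne (c l) 0 with h | h
    · rw [h, zero_smul, map_zero, val_smul P hcj]
      exact zero_lt_iff.mpr (val_ne_zero P (h0 j))
    · rw [val_smul P h, val_smul P hcj, val_eq_exp P (h0 l), val_eq_exp P (h0 j), exp_lt_exp]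
      have h1 := hmin l (by simp [S, h])
      have h2 : P.ord (v l) ≠ P.ord (v j) := fun e => hlj (hinj e)
      omega
  have hv := P.1.map_sum_eq_of_lt (f := fun l => c l • v l) (Finset.mem_univ j) hlt
  rw [hc, map_zero] at hv
  exact val_ne_zero P (smul_ne_zero hcj (h0 j)) hv.symm

theorem ell_single_of_genus_one (hK : IsFunctionField k K) (hg : genus k K = 1) {P : Place k K}
    (hP : P.deg = 1) {n : ℕ} (hn : 1 ≤ n) : ell (Finsupp.single P (n : ℤ)) = n := by
  have := ell_of_deg_gt hK (D := Finsupp.single P (n : ℤ)) (by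
    rw [Divisor.deg_single, hP, hg]; simp; omega)
  rw [Divisor.deg_single, hP, hg] at this
  omega

theorem mul_mem_L {D E : Divisor k K} {x y : K} (hx : x ∈ L D) (hy : y ∈ L E) : x * y ∈ L (D + E) :=
  fun Q => by rw [map_mul, Finsupp.add_apply, exp_add]; exact mul_le_mul' (hx Q) (hy Q)

theorem pow_mul_mem {P : Place k K} {f g : K} {a b : ℤ} {n : ℕ} {i : ℕ}
    (hf : f ∈ L (Finsupp.single P a)) (hg : g ∈ L (Finsupp.single P b)) (h : i * a + b ≤ n) :
    f ^ i * g ∈ L (Finsupp.single P (n : ℤ)) := by
  have hp : f ^ i ∈ L (Finsupp.single P ((i : ℤ) * a)) := by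
    induction i generalizing n with
    | zero => simp [mem_L]
    | succ i ih =>
      have := mul_mem_L (ih (n := (i * a + b).toNat) (Int.self_le_toNat _)) hf
      rw [← Finsupp.single_add] at this
      rw [pow_succ]
      push_cast
      rw [add_mul, one_mul]
      exact this
  have := mul_mem_L hp hg
  rw [← Finsupp.single_add] at this
  exact L_mono (Finsupp.single_le_single.mpr h) this

/-- `1, f, f², …, g, f g, …` is a basis of `L(nP)`. -/
theorem basis_L (hK : IsFunctionField k K) (hg1 : genus k K = 1) {P : Place k K} (hP : P.deg = 1)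
    {f g : K} (hf : f ∈ L (Finsupp.single P 2)) (hf2 : P.ord f = -2)
    (hg : g ∈ L (Finsupp.single P 3)) (hg3 : P.ord g = -3) {n : ℕ} (hn : 2 ≤ n) :
    LinearIndependent k
        (Sum.elim (fun i : Fin (n / 2 + 1) => f ^ (i : ℕ)) (fun i : Fin ((n - 1) / 2) => f ^ (i : ℕ) * g)) ∧
      Submodule.span k (Set.range
        (Sum.elim (fun i : Fin (n / 2 + 1) => f ^ (i : ℕ)) (fun i : Fin ((n - 1) / 2) => f ^ (i : ℕ) * g))) =
        L (Finsupp.single P (n : ℤ)) := by
  set v := Sum.elim (fun i : Fin (n / 2 + 1) => f ^ (i : ℕ))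
    (fun i : Fin ((n - 1) / 2) => f ^ (i : ℕ) * g)
  have hf0 : f ≠ 0 := fun e => by simp [e] at hf2
  have hg0 : g ≠ 0 := fun e => by simp [e] at hg3
  have hord : ∀ s, P.ord (v s) = Sum.elim (fun i : Fin (n / 2 + 1) => -2 * (i : ℤ))
      (fun i : Fin ((n - 1) / 2) => -2 * (i : ℤ) - 3) s := by
    rintro (i | i)
    · simp [v, ord_pow, hf2]; ring
    · simp [v, ord_mul P (pow_ne_zero _ hf0) hg0, ord_pow, hf2, hg3]; ring
  have hind : LinearIndependent k v := linearIndependent_of_ord_injective P v
    (by rintro (i | i) <;> simp [v, hf0, hg0]) (by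
      intro s t h
      simp only [hord] at h
      rcases s with i | i <;> rcases t with j | j <;> simp at h <;>
        first
          | (exfalso; omega)
          | (congr 1; exact Fin.ext (by omega)))
  refine ⟨hind, ?_⟩
  have := L_finite hK.1 (Finsupp.single P (n : ℤ))
  refine Submodule.eq_of_le_of_finrank_eq (Submodule.span_le.mpr ?_) ?_
  · rintro _ ⟨s, rfl⟩
    rcases s with i | i
    · have := pow_mul_mem (n := n) (i := (i : ℕ)) hf
        (g := (1 : K)) (b := 0) (by simp [mem_L]) (by have := i.2; push_cast; omega)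
      simpa [v] using this
    · exact pow_mul_mem hf hg (by have := i.2; push_cast; omega)
  · rw [finrank_span_eq_card hind]
    refine Eq.trans ?_ (ell_single_of_genus_one hK hg1 hP (by omega : 1 ≤ n)).symm
    simp
    omega

end Groth.Agent.FFLib
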