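import Mathlib.LinearAlgebra.Vandermonde
import Mathlib.RingTheory.Polynomial.Pochhammer
import Mathlib.Algebra.Polynomial.Derivative
import Mathlib.Algebra.Polynomial.RingDivision
import Mathlib.RingTheory.Coprime.Lemmas

/-! Wronskians of polynomials in characteristic zero. -/

namespace Groth.Agent.FFLib

open Polynomial Matrix

variable {k : Type*} [Field k] {n : ℕ}

/-- The Wronskian matrix. -/
noncomputable def wmat (p : Fin n → k[X]) : Matrix (Fin n) (Fin n) k[X] :=
  Matrix.of fun i j => derivative^[(j : ℕ)] (p i)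

theorem wmat_comb (M : Matrix (Fin n) (Fin n) k) {p q : Fin n → k[X]}
    (h : ∀ i, p i = ∑ l, M i l • q l) : wmat p = M.map Polynomial.C * wmat q := by
  ext1 i j
  rw [Matrix.mul_apply, wmat, Matrix.of_apply, h, ← Module.End.pow_apply, map_sum]
  refine Finset.sum_congr rfl fun l _ => ?_
  rw [map_smul, Module.End.pow_apply, smul_eq_C_mul]
  rfl

theorem coeff_det_of_natDegree_le (A : Matrix (Fin n) (Fin n) k[X]) (d : Fin n → ℕ)
    (hA : ∀ i j, (A i j).natDegree ≤ d i) :
    A.det.natDegree ≤ ∑ i, d i ∧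
    A.det.coeff (∑ i, d i) = (Matrix.of fun i j => (A i j).coeff (d i)).det := by
  classical
  have hprod : ∀ (s : Finset (Fin n)) (τ : Fin n → Fin n),
      (∏ i ∈ s, A i (τ i)).natDegree ≤ ∑ i ∈ s, d i ∧
      (∏ i ∈ s, A i (τ i)).coeff (∑ i ∈ s, d i) = ∏ i ∈ s, (A i (τ i)).coeff (d i) := by
    intro s τ
    induction s using Finset.induction with
    | empty => simp
    | insert a s ha ih =>
      rw [Finset.prod_insert ha, Finset.sum_insert ha, Finset.prod_insert ha]
      exact ⟨natDegree_mul_le.trans (add_le_add (hA _ _) ih.1),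
        by rw [coeff_mul_add_eq_of_natDegree_le (hA _ _) ih.1, ih.2]⟩
  have hexp : A.det = ∑ σ : Equiv.Perm (Fin n),
      Equiv.Perm.sign σ • ∏ i, A i (σ i) := by
    rw [← Matrix.det_transpose, Matrix.det_apply]
    rfl
  constructor
  · rw [hexp]
    refine natDegree_sum_le_of_forall_le _ _ fun σ _ => ?_
    exact (natDegree_smul_le _ _).trans (hprod _ σ).1
  · rw [hexp, finsetSum_coeff, ← Matrix.det_transpose, Matrix.det_apply]
    refine Finset.sum_congr rfl fun σ _ => ?_
    rw [coeff_smul, (hprod _ σ).2]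
    rfl

theorem prod_pow_eq {R : Type*} [CommMonoid R] (a : R) :
    ∏ j : Fin n, a ^ (j : ℕ) = a ^ (∑ j : Fin n, (j : ℕ)) :=
  Finset.prod_pow_eq_pow_sum _ _ _

/-- Orders of the `p i` at `a` force zeros of the Wronskian. -/
theorem pow_dvd_det_wmat (p : Fin n → k[X]) (a : k) (e : Fin n → ℕ)
    (he : ∀ i, (X - C a) ^ e i ∣ p i) :
    (X - C a) ^ ((∑ i, e i) - ∑ j : Fin n, (j : ℕ)) ∣ (wmat p).det := by
  have hcol := Matrix.det_mul_row (fun j : Fin n => (X - C a) ^ (j : ℕ)) (wmat p)
  rw [prod_pow_eq] at hcol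
  have hdiv : ∀ (i : Fin n) (j : Fin n), (X - C a) ^ e i ∣ (X - C a) ^ (j : ℕ) * wmat p i j := fun i j => by
    refine (pow_dvd_pow _ (by omega : e i ≤ (j : ℕ) + (e i - j))).trans ?_
    rw [pow_add]
    exact mul_dvd_mul_left _ (pow_sub_dvd_iterate_derivative_of_pow_dvd _ (he i))
  choose N hN using hdiv
  have hrow := Matrix.det_mul_column (fun i => (X - C a) ^ e i) (Matrix.of N)
  rw [Finset.prod_pow_eq_pow_sum] at hrow
  have heq : (X - C a) ^ (∑ i, e i) * (Matrix.of N).det =
      (X - C a) ^ (∑ j : Fin n, (j : ℕ)) * (wmat p).det := by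
    rw [← hrow, ← hcol]
    congr 1
    ext1 i j
    exact (hN i j).symm
  rcases le_or_gt (∑ i, e i) (∑ j : Fin n, (j : ℕ)) with hle | hlt
  · rw [Nat.sub_eq_zero_of_le hle, pow_zero]; exact one_dvd _
  · refine (mul_dvd_mul_iff_left (pow_ne_zero (∑ j : Fin n, (j : ℕ)) (X_sub_C_ne_zero a))).mp ?_
    rw [← pow_add, Nat.add_sub_cancel' hlt.le, ← heq]
    exact dvd_mul_right _ _

/-- Distinct degrees force a nonzero Wronskian of the expected degree. -/
theorem det_wmat_ne_zero [CharZero k] (p : Fin n → k[X]) (hp : ∀ i, p i ≠ 0)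
    (hd : Function.Injective fun i => (p i).natDegree) :
    (wmat p).det ≠ 0 ∧
      (wmat p).det.natDegree + ∑ j : Fin n, (j : ℕ) ≤ ∑ i, (p i).natDegree := by
  classical
  let A : Matrix (Fin n) (Fin n) k[X] := Matrix.of fun i j => X ^ (j : ℕ) * wmat p i j
  have hA : ∀ i j, (A i j).natDegree ≤ (p i).natDegree := fun i j => by
    simp only [A, Matrix.of_apply]
    rcases lt_or_ge (p i).natDegree (j : ℕ) with h | h
    · rw [wmat, Matrix.of_apply, iterate_derivative_eq_zero h, mul_zero, natDegree_zero]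
      exact Nat.zero_le _
    · refine natDegree_mul_le.trans ?_
      rw [natDegree_X_pow]
      have := natDegree_iterate_derivative (p i) (j : ℕ)
      rw [wmat, Matrix.of_apply]
      omega
  have hco : ∀ i j, (A i j).coeff (p i).natDegree =
      (p i).leadingCoeff * (descPochhammer k (j : ℕ)).eval ((p i).natDegree : k) := fun i j => by
    simp only [A, Matrix.of_apply, wmat]
    rw [descPochhammer_eval_eq_descFactorial, coeff_X_pow_mul']
    split_ifs with h
    · rw [coeff_iterate_derivative, Nat.sub_add_cancel h, nsmul_eq_mul, mul_comm, leadingCoeff]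
    · rw [Nat.descFactorial_eq_zero_iff_lt.mpr (not_le.mp h)]
      simp
  obtain ⟨hdeg, hcoeff⟩ := coeff_det_of_natDegree_le A (fun i => (p i).natDegree) hA
  have hne : A.det.coeff (∑ i, (p i).natDegree) ≠ 0 := by
    rw [hcoeff]
    have e : (Matrix.of fun i j => (A i j).coeff (p i).natDegree) = Matrix.of (fun i j =>
        (p i).leadingCoeff * (Matrix.of fun i (j : Fin n) =>
          (descPochhammer k (j : ℕ)).eval ((p i).natDegree : k)) i j) := by
      ext1 i j; exact hco i j
    rw [e, Matrix.det_mul_column, ← Matrix.det_eval_matrixOfPolynomials_eq_det_vandermonde _ _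
      (fun j => descPochhammer_natDegree k (j : ℕ)) (fun j => monic_descPochhammer k (j : ℕ))]
    refine mul_ne_zero (Finset.prod_ne_zero_iff.mpr fun i _ => leadingCoeff_ne_zero.mpr (hp i)) ?_
    rw [det_vandermonde_ne_zero_iff]
    exact fun a b h => hd (Nat.cast_injective h)
  have hAdet : A.det = X ^ (∑ j : Fin n, (j : ℕ)) * (wmat p).det := by
    rw [← prod_pow_eq]
    exact Matrix.det_mul_row (fun j : Fin n => (X : k[X]) ^ (j : ℕ)) (wmat p)
  have hW : (wmat p).det ≠ 0 := fun h => hne (by rw [hAdet, h, mul_zero, coeff_zero])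
  refine ⟨hW, ?_⟩
  rw [hAdet, natDegree_mul (pow_ne_zero _ X_ne_zero) hW, natDegree_X_pow] at hdeg
  omega

/-- The polynomial Plücker inequality. -/
theorem sum_orders_le [CharZero k] (pB : Fin n → k[X]) (hp : ∀ i, pB i ≠ 0)
    (hd : Function.Injective fun i => (pB i).natDegree) (S : Finset k) (pR : k → Fin n → k[X])
    (e : k → Fin n → ℕ) (he : ∀ a ∈ S, ∀ i, (X - C a) ^ e a i ∣ pR a i)
    (hspan : ∀ a ∈ S, ∀ i, pB i ∈ Submodule.span k (Set.range (pR a))) :
    (∑ a ∈ S, ((∑ i, e a i) - ∑ j : Fin n, (j : ℕ))) + ∑ j : Fin n, (j : ℕ) ≤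
      ∑ i, (pB i).natDegree := by
  obtain ⟨hW, hdeg⟩ := det_wmat_ne_zero pB hp hd
  have hdvd : ∀ a ∈ S, (X - C a) ^ ((∑ i, e a i) - ∑ j : Fin n, (j : ℕ)) ∣ (wmat pB).det := by
    intro a ha
    choose M hM using fun i => (Submodule.mem_span_range_iff_exists_fun k).mp (hspan a ha i)
    rw [wmat_comb (Matrix.of M) fun i => (hM i).symm, Matrix.det_mul]
    exact (pow_dvd_det_wmat (pR a) a (e a) (he a ha)).mul_left _
  have hcop : (S : Set k).Pairwise
      (fun a b => IsCoprime ((X - C a) ^ ((∑ i, e a i) - ∑ j : Fin n, (j : ℕ)))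
        ((X - C b) ^ ((∑ i, e b i) - ∑ j : Fin n, (j : ℕ)))) :=
    fun a _ b _ hab => ((isCoprime_X_sub_C_of_isUnit_sub (sub_ne_zero.mpr hab).isUnit)).pow
  have hall := Finset.prod_dvd_of_coprime hcop hdvd
  have hle := natDegree_le_of_dvd hall hW
  rw [natDegree_prod _ _ fun a _ => pow_ne_zero _ (X_sub_C_ne_zero a)] at hle
  simp only [natDegree_pow, natDegree_X_sub_C, mul_one] at hle
  omega

end Groth.Agent.FFLib
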