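import Groth.Agent.FFLib.Weights
import Groth.Agent.FFLib.Elliptic
import Groth.Agent.FFLib.Ext
import Groth.Agent.FFLib.Wronskian

/-! The Plücker inequality in genus zero. -/

namespace Groth.Agent.FFLib

open FunFld WithZero Polynomial

variable {k K : Type*} [Field k] [Field K] [Algebra k K]

theorem IsSeries.exists_adapted {D : Divisor k K} {V : Submodule k K} {d r : ℕ}
    (h : IsSeries D V d r) (R : Place k K) :
    ∃ (e : Fin (r + 1) → ℕ) (v : Fin (r + 1) → K), Function.Injective e ∧ ∑ i, e i = vsum D V d R ∧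
      (∀ i, v i ∈ V ∧ v i ≠ 0 ∧ R.ord (v i) + D R = e i ∧ e i ≤ d) ∧
      V ≤ Submodule.span k (Set.range v) := by
  classical
  have hF := h.hK.1
  have := h.finite
  obtain ⟨hfin, hcard⟩ := ordSet_finite_card hF (h.deg_one R) V (n := D R) fun x hx => h.le hx R
  rw [h.dim, Set.ncard_eq_toFinset_card _ hfin] at hcard
  let σ := (hfin.toFinset.equivFinOfCardEq hcard).symm
  have hrep : ∀ i, ∃ x ∈ V, x ≠ 0 ∧ R.ord x = (σ i).1 := fun i => hfin.mem_toFinset.mp (σ i).2
  choose v hvV hv0 hvo using hrep
  have hlow : ∀ i, 0 ≤ (σ i).1 + D R := fun i => by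
    have := (mem_L_iff_ord (hv0 i)).mp (h.le (hvV i)) R
    rw [hvo] at this
    omega
  have hmem : ∀ (i) (m : ℕ), (m : ℤ) ≤ (σ i).1 + D R →
      v i ∈ V ⊓ L (D - Finsupp.single R (m : ℤ)) := fun i m hm => by
    refine ⟨hvV i, (mem_L_sub_single (by omega)).mpr ⟨h.le (hvV i), ?_⟩⟩
    rw [val_le_exp_iff R (hv0 i), hvo]
    omega
  let e : Fin (r + 1) → ℕ := fun i => ((σ i).1 + D R).toNat
  have hed : ∀ i, e i ≤ d := fun i => by
    by_contra hlt
    have := h.vdim_eq_zero R (not_le.mp hlt)
    have := h.finite_inf (L (D - Finsupp.single R (e i : ℤ)))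
    have hm := hmem i (e i) (Int.toNat_of_nonneg (hlow i)).le
    rw [Submodule.finrank_eq_zero.mp (by assumption : vdim D V R (e i) = 0)] at hm
    exact hv0 i hm
  have hinj : Function.Injective fun i => R.ord (v i) := fun a b hab => by
    simp only [hvo] at hab
    exact σ.injective (Subtype.ext hab)
  refine ⟨e, v, fun a b hab => σ.injective (Subtype.ext ?_), ?_, fun i => ⟨hvV i, hv0 i, ?_, hed i⟩, ?_⟩
  · have := hlow a
    have := hlow b
    simp only [e] at hab
    omega
  · have hcount : ∀ m : ℕ, 1 ≤ m → vdim D V R m = (Finset.univ.filter fun i => m ≤ e i).card := by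
      intro m hm
      have := h.finite_inf (L (D - Finsupp.single R (m : ℤ)))
      obtain ⟨hfin', hcard'⟩ := ordSet_finite_card hF (h.deg_one R)
        (V ⊓ L (D - Finsupp.single R (m : ℤ))) (n := D R) fun x hx => h.le hx.1 R
      rw [vdim, ← hcard', Set.ncard_eq_toFinset_card _ hfin']
      refine (Finset.card_bij (fun i _ => (σ i).1) (fun i hi => ?_) (fun a _ b _ hab =>
        σ.injective (Subtype.ext hab)) fun t ht => ?_).symm
      · refine hfin'.mem_toFinset.mpr ⟨v i, hmem i m ?_, hv0 i, hvo i⟩
        have := (Finset.mem_filter.mp hi).2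
        simp only [e] at this
        omega
      · obtain ⟨x, ⟨hxV, hxL⟩, hx0, rfl⟩ := hfin'.mem_toFinset.mp ht
        have hxs : R.ord x ∈ hfin.toFinset := hfin.mem_toFinset.mpr ⟨x, hxV, hx0, rfl⟩
        have he : (σ (σ.symm ⟨_, hxs⟩)).1 = R.ord x := by rw [Equiv.apply_symm_apply]
        refine ⟨σ.symm ⟨_, hxs⟩, Finset.mem_filter.mpr ⟨Finset.mem_univ _, ?_⟩, he⟩
        have := (val_le_exp_iff R hx0 _).mp ((mem_L_sub_single (by omega)).mp hxL).2
        show m ≤ ((σ (σ.symm ⟨_, hxs⟩)).1 + D R).toNat
        rw [he]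
        omega
    rw [vsum, Finset.sum_congr rfl fun m _ => hcount (m + 1) (by omega)]
    simp only [Finset.card_filter]
    rw [Finset.sum_comm]
    refine Finset.sum_congr rfl fun i _ => ?_
    rw [← Finset.card_filter,
      show (Finset.range d).filter (fun m => m + 1 ≤ e i) = Finset.range (e i) by
        ext m; simp; have := hed i; omega,
      Finset.card_range]
  · show R.ord (v i) + D R = (((σ i).1 + D R).toNat : ℤ)
    rw [hvo, Int.toNat_of_nonneg (hlow i)]
  · have hind := linearIndependent_of_ord_injective R v hv0 hinj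
    refine le_of_eq (Submodule.eq_of_le_of_finrank_eq (Submodule.span_le.mpr ?_) ?_).symm
    · rintro _ ⟨i, rfl⟩; exact hvV i
    · rw [finrank_span_eq_card hind, h.dim, Fintype.card_fin]

/-- A coordinate with a simple pole at `B` only. -/
theorem exists_coord (hK : IsFunctionField k K) (hg : genus k K = 0) {B : Place k K}
    (hB : B.deg = 1) :
    ∃ x : K, B.ord x = -1 ∧ ∀ R : Place k K, R ≠ B → 0 ≤ R.ord x := by
  classical
  have h := ell_of_deg_gt hK (D := Finsupp.single B 1) (by
    rw [Divisor.deg_single, hB, hg]; simp)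
  rw [Divisor.deg_single, hB, hg] at h
  have hnot : ¬ L (Finsupp.single B (1 : ℤ)) ≤ L (0 : Divisor k K) := fun hle => by
    have := L_finite hK.1 (0 : Divisor k K)
    have := Submodule.finrank_mono hle
    have h1 := ell_zero hK
    simp only [ell] at h h1 this
    omega
  obtain ⟨x, hx, hx0⟩ := SetLike.not_le_iff_exists.mp hnot
  have hxne : x ≠ 0 := fun e => hx0 (e ▸ zero_mem _)
  have hord := (mem_L_iff_ord hxne).mp hx
  refine ⟨x, ?_, fun R hR => by simpa [Ne.symm hR] using hord R⟩
  by_contra hh
  refine hx0 ((mem_L_iff_ord hxne).mpr fun Q => ?_)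
  by_cases hQ : B = Q
  · subst hQ; have := hord B; simp at this ⊢; omega
  · simpa [hQ] using hord Q

theorem exists_value (hF : IsFF k K) {R : Place k K} (hR : R.deg = 1) {x : K} (hx : R.1 x ≤ 1) :
    ∃ a : k, R.1 (x - algebraMap k K a) < 1 := by
  classical
  by_contra! hne
  have hind : ResIndep R (fun i : Fin 2 => if i = 0 then (1 : K) else x) := by
    refine ⟨fun i => by dsimp only; split <;> simp [hx], fun c hc => ?_⟩
    simp only [Fin.sum_univ_two, ↓reduceIte, one_ne_zero] at hc
    by_contra hc0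
    by_cases h1 : c 1 = 0
    · have h0 : c 0 ≠ 0 := fun h0 => hc0 (funext fun i => by fin_cases i <;> simp [h0, h1])
      rw [h1, zero_smul, add_zero, val_smul R h0, map_one] at hc
      exact lt_irrefl _ hc
    · rw [show c 0 • (1 : K) + c 1 • x = c 1 • (x - algebraMap k K (-c 0 / c 1)) by
        have : algebraMap k K (c 1) ≠ 0 := by simpa using h1
        simp only [Algebra.smul_def, map_div₀, map_neg]
        field_simp
        ring, val_smul R h1] at hc
      exact hc.not_ge (hne _)
  have := ResIndep.card_le hF hind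
  omega

theorem ord_aeval_pole {B : Place k K} {x : K} (hx : B.ord x = -1) {p : k[X]} (hp : p ≠ 0) :
    aeval x p ≠ 0 ∧ B.ord (aeval x p) = -(p.natDegree : ℤ) := by
  have hx0 : x ≠ 0 := fun e => by simp [e] at hx
  have hval : ∀ i : ℕ, B.1 (x ^ i) = exp (i : ℤ) := fun i => by
    rw [val_eq_exp B (pow_ne_zero _ hx0), ord_pow, hx]; simp
  have hc : p.coeff p.natDegree ≠ 0 := leadingCoeff_ne_zero.mpr hp
  have hlt : ∀ i ∈ Finset.range (p.natDegree + 1) \ {p.natDegree},
      B.1 (p.coeff i • x ^ i) < B.1 (p.coeff p.natDegree • x ^ p.natDegree) := fun i hi => by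
    simp only [Finset.mem_sdiff, Finset.mem_range, Finset.mem_singleton] at hi
    rw [val_smul B hc, hval]
    rcases eq_or_ne (p.coeff i) 0 with h | h
    · simp [h]
    · rw [val_smul B h, hval, exp_lt_exp]; omega
  have hv := B.1.map_sum_eq_of_lt (f := fun i => p.coeff i • x ^ i)
    (Finset.mem_range.mpr (Nat.lt_succ_self p.natDegree)) hlt
  rw [← aeval_eq_sum_range, val_smul B hc, hval] at hv
  exact ⟨fun e => by rw [e, map_zero] at hv; exact exp_ne_zero hv.symm,
    ord_of_val_eq B (by rw [hv, neg_neg])⟩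

theorem ord_aeval_point {R : Place k K} {x : K} {a : k} (hx : R.ord (x - algebraMap k K a) = 1)
    (hx1 : R.1 x ≤ 1) {p : k[X]} (hp : p ≠ 0) (_hp' : aeval x p ≠ 0) :
    R.ord (aeval x p) = p.rootMultiplicity a := by
  obtain ⟨q, hq, hndvd⟩ := exists_eq_pow_rootMultiplicity_mul_and_not_dvd p hp a
  have hqa : q.eval a ≠ 0 := fun h => hndvd (dvd_iff_isRoot.mpr h)
  obtain ⟨s, hs⟩ : (X - C a) ∣ q - C (q.eval a) := dvd_iff_isRoot.mpr (by simp)
  have he : aeval x p = (x - algebraMap k K a) ^ (p.rootMultiplicity a) * aeval x q := by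
    conv_lhs => rw [hq]
    simp
  have hx0 : x - algebraMap k K a ≠ 0 := fun h => by simp [h] at hx
  have hv : R.1 (aeval x q) = 1 := by
    rw [show aeval x q = algebraMap k K (q.eval a) + (x - algebraMap k K a) * aeval x s by
      have := congrArg (aeval x) hs
      simp at this
      linear_combination this]
    rw [Valuation.map_add_eq_of_lt_left, val_algebraMap R hqa]
    rw [val_algebraMap R hqa, map_mul]
    exact mul_lt_one_of_nonneg_of_lt_one_left zero_le' ((val_lt_one_iff R hx0).mpr (by omega))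
      (val_aeval_le_one R.2.1 hx1 s)
  have hq0 : aeval x q ≠ 0 := fun h => by simp [h] at hv
  rw [he, ord_mul R (pow_ne_zero _ hx0) hq0, ord_pow, hx, ord_of_val_eq R (n := 0) (by simpa using hv)]
  ring

/-- Plücker: the weights at a finite set of places add up to at most `(r+1)(d-r)`. -/
theorem plucker [CharZero k] {D : Divisor k K} {V : Submodule k K} {d r : ℕ} (h : IsSeries D V d r)
    (hg : genus k K = 0) (B : Place k K) (S : Finset (Place k K)) (hBS : B ∉ S) :
    (∑ R ∈ S, vsum D V d R) + vsum D V d B + tri r ≤ (r + 1) * d + S.card * tri r := by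
  classical
  have hK := h.hK
  have hF : IsFF k K := hK.1
  obtain ⟨x, hxB, hxR⟩ := exists_coord hK hg (h.deg_one B)
  have hx0 : x ≠ 0 := fun e => by simp [e] at hxB
  have htr : Transcendental k x := transcendental_of_ord_ne_zero B (by omega)
  have hle1 : ∀ R, R ≠ B → R.1 x ≤ 1 := fun R hR => (val_le_one_iff R hx0).mpr (hxR R hR)
  -- values
  let val : Place k K → k := fun R =>
    if hR : R ≠ B then (exists_value hF (h.deg_one R) (hle1 R hR)).choose else 0
  have hval : ∀ R, R ≠ B → R.1 (x - algebraMap k K (val R)) < 1 := fun R hR => by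
    simp only [val, dif_pos hR]
    exact (exists_value hF (h.deg_one R) (hle1 R hR)).choose_spec
  have hsimple : ∀ R, R ≠ B → R.ord (x - algebraMap k K (val R)) = 1 ∧
      ∀ Q, Q ≠ B → Q ≠ R → ¬ Q.1 (x - algebraMap k K (val R)) < 1 := by
    intro R hR
    set y := x - algebraMap k K (val R) with hy
    have hy0 : y ≠ 0 := fun e => htr (by
      rw [show x = algebraMap k K (val R) from sub_eq_zero.mp e]; exact isAlgebraic_algebraMap _)
    have hyB : B.ord y = -1 := by
      have hp := ord_aeval_pole hxB (X_sub_C_ne_zero (val R))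
      simpa [hy] using hp.2
    have hyoff : ∀ Q, Q ≠ B → 0 ≤ Q.ord y := fun Q hQ => (val_le_one_iff Q hy0).mp
      ((Q.1.map_sub _ _).trans (max_le (hle1 Q hQ) (Q.2.1 _)))
    have htop := poles_eq_single hF hyB hyoff
    have hpos : 0 < R.ord y := (val_lt_one_iff R hy0).mp (hval R hR)
    have hzero : (zeros y : Divisor k K) = Finsupp.single R 1 := by
      have hd : FunFld.Divisor.deg (zeros y : Divisor k K) = 1 := by
        have hty : Transcendental k y := transcendental_of_ord_ne_zero B (by omega)
        rw [deg_zeros hF hty, ← deg_poles hF hty, htop, Divisor.deg_single, h.deg_one]; norm_num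
      refine (deg_eq_of_le hF (fun Q => ?_) (by rw [hd, Divisor.deg_single, h.deg_one]; norm_num)).symm
      simp only [zeros, Finsupp.mapRange_apply, div_apply hF]
      rcases eq_or_ne Q R with rfl | hQ
      · simp; omega
      · simp [hQ, Ne.symm hQ]
    refine ⟨?_, fun Q hQB hQR hlt => ?_⟩
    · have := congrArg (fun D : Divisor k K => D R) hzero
      simp [zeros, div_apply hF] at this
      omega
    · have := congrArg (fun D : Divisor k K => D Q) hzero
      simp [zeros, div_apply hF, Ne.symm hQR] at this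
      have := (val_lt_one_iff Q hy0).mp hlt
      omega
  have hinjS : Set.InjOn val S := fun R hR R' hR' heq => by
    by_contra hne
    have h1 : R ≠ B := fun e => hBS (e ▸ hR)
    have h2 : R' ≠ B := fun e => hBS (e ▸ hR')
    exact (hsimple R h1).2 R' h2 (Ne.symm hne) (heq ▸ hval R' h2)
  -- normalise the divisor
  obtain ⟨z, hz0, hz⟩ : ∃ z : K, z ≠ 0 ∧ D - Finsupp.single B (d : ℤ) + FunFld.div k z = 0 := by
    have hd : (D - Finsupp.single B (d : ℤ)).deg = 0 := by
      rw [Divisor.deg_sub, Divisor.deg_single, h.deg_one, h.hD]; simp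
    refine exists_div_of_deg_zero hF hd ?_
    have := ell_of_deg_gt hK (D := D - Finsupp.single B (d : ℤ)) (by rw [hd, hg]; norm_num)
    rw [hd, hg] at this
    omega
  have hzord : ∀ R, R.ord z = (Finsupp.single B (d : ℤ) : Divisor k K) R - D R := fun R => by
    have := congrArg (fun E : Divisor k K => E R) hz
    simp [div_apply hF] at this
    omega
  have hLB : Submodule.span k (Set.range fun i : Fin (d + 1) => x ^ (i : ℕ)) =
      L (Finsupp.single B (d : ℤ)) := by
    have := L_finite hF (Finsupp.single B (d : ℤ))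
    refine Submodule.eq_of_le_of_finrank_eq (Submodule.span_le.mpr ?_) ?_
    · rintro _ ⟨i, rfl⟩
      refine (mem_L_iff_ord (pow_ne_zero _ hx0)).mpr fun R => ?_
      rw [ord_pow]
      rcases eq_or_ne R B with rfl | hR
      · rw [hxB]; simp; omega
      · simpa [hR] using mul_nonneg (Int.natCast_nonneg (i : ℕ)) (hxR R hR)
    · have hli : LinearIndependent k fun i : Fin (d + 1) => x ^ (i : ℕ) :=
        (linearIndependent_powers htr).comp (fun i : Fin (d + 1) => (i : ℕ)) Fin.val_injective
      rw [finrank_span_eq_card hli]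
      have := ell_of_deg_gt hK (D := Finsupp.single B (d : ℤ)) (by
        rw [Divisor.deg_single, h.deg_one, hg]; simp; omega)
      rw [Divisor.deg_single, h.deg_one, hg] at this
      simp only [ell] at this
      simp
      omega
  have hpoly : ∀ w ∈ V, ∃ p : k[X], aeval x p = w / z := fun w hw => by
    have hm : w / z ∈ Submodule.span k (Set.range fun i : Fin (d + 1) => x ^ (i : ℕ)) := by
      rw [hLB]
      rcases eq_or_ne w 0 with rfl | hw0
      · simp
      refine (mem_L_iff_ord (div_ne_zero hw0 hz0)).mpr fun R => ?_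
      rw [div_eq_mul_inv, ord_mul R hw0 (inv_ne_zero hz0), ord_inv, hzord]
      have := (mem_L_iff_ord hw0).mp (h.le hw) R
      omega
    obtain ⟨c, hc⟩ := (Submodule.mem_span_range_iff_exists_fun k).mp hm
    exact ⟨∑ i, C (c i) * X ^ (i : ℕ), by simp [← hc, Algebra.smul_def]⟩
  choose! P hP using hpoly
  have hinjA := transcendental_iff_injective.mp htr
  have hP0 : ∀ w ∈ V, w ≠ 0 → P w ≠ 0 := fun w hw hw0 e => by
    have := hP w hw
    rw [e, map_zero] at this
    exact div_ne_zero hw0 hz0 this.symm
  choose e v hein hesum hev hespan using fun R : Place k K => h.exists_adapted R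
  have hordP : ∀ R i, R.ord (aeval x (P (v R i))) =
      (e R i : ℤ) - (Finsupp.single B (d : ℤ) : Divisor k K) R := fun R i => by
    obtain ⟨hV, h0, ho, -⟩ := hev R i
    rw [hP _ hV, div_eq_mul_inv, ord_mul R h0 (inv_ne_zero hz0), ord_inv, hzord]
    omega
  have hdegB : ∀ i, ((P (v B i)).natDegree : ℤ) = (d : ℤ) - e B i := fun i => by
    obtain ⟨hV, h0, -, -⟩ := hev B i
    have h2 := hordP B i
    rw [(ord_aeval_pole hxB (hP0 _ hV h0)).2, Finsupp.single_eq_same] at h2
    omega
  let pR : k → Fin (r + 1) → k[X] := fun a i =>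
    if ha : ∃ R ∈ S, val R = a then P (v ha.choose i) else 0
  let eR : k → Fin (r + 1) → ℕ := fun a i =>
    if ha : ∃ R ∈ S, val R = a then e ha.choose i else 0
  have hchoose : ∀ R ∈ S, ∀ (ha : ∃ R' ∈ S, val R' = val R), ha.choose = R := fun R hR ha =>
    hinjS ha.choose_spec.1 hR ha.choose_spec.2
  have hpR : ∀ R ∈ S, pR (val R) = (fun i => P (v R i)) ∧ eR (val R) = e R := fun R hR => by
    have ha : ∃ R' ∈ S, val R' = val R := ⟨R, hR, rfl⟩
    constructor <;> funext i
    · simp only [pR, dif_pos ha, hchoose R hR ha]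
    · simp only [eR, dif_pos ha, hchoose R hR ha]
  have main := sum_orders_le (fun i => P (v B i)) (fun i => hP0 _ (hev B i).1 (hev B i).2.1)
    (fun a b hab => hein B (by
      have h1 := hdegB a
      have h2 := hdegB b
      simp only at hab
      omega)) (S.image val) pR eR
    (fun a ha i => by
      obtain ⟨R, hR, rfl⟩ := Finset.mem_image.mp ha
      have hRB : R ≠ B := fun e => hBS (e ▸ hR)
      rw [(hpR R hR).1, (hpR R hR).2]
      obtain ⟨hV, h0, -, -⟩ := hev R i
      have hp0 := hP0 _ hV h0
      rw [← le_rootMultiplicity_iff hp0]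
      have h2 := hordP R i
      rw [ord_aeval_point (hsimple R hRB).1 (hle1 R hRB) hp0 (by rw [hP _ hV]; exact div_ne_zero h0 hz0),
        Finsupp.single_apply, if_neg (Ne.symm hRB)] at h2
      omega)
    (fun a ha i => by
      obtain ⟨R, hR, rfl⟩ := Finset.mem_image.mp ha
      rw [(hpR R hR).1]
      obtain ⟨c, hc⟩ := (Submodule.mem_span_range_iff_exists_fun k).mp (hespan R (hev B i).1)
      refine (Submodule.mem_span_range_iff_exists_fun k).mpr ⟨c, hinjA ?_⟩
      rw [map_sum, hP _ (hev B i).1, ← hc, div_eq_mul_inv, Finset.sum_mul]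
      refine Finset.sum_congr rfl fun l _ => ?_
      rw [map_smul, hP _ (hev R l).1, smul_mul_assoc, div_eq_mul_inv])
  have hT : ∑ j : Fin (r + 1), (j : ℕ) = tri r := by
    rw [Fin.sum_univ_eq_sum_range (fun j => j)]
    have h2 := Finset.sum_range_id_mul_two (r + 1)
    rw [Nat.add_sub_cancel] at h2
    have := two_mul_tri r
    have e' : (r + 1) * r = r * (r + 1) := mul_comm _ _
    omega
  rw [hT, Finset.sum_image hinjS] at main
  rw [Finset.sum_congr rfl fun R hR => show (∑ i, eR (val R) i) - tri r = vsum D V d R - tri r by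
    rw [(hpR R hR).2, hesum]] at main
  have hB : (∑ i, (P (v B i)).natDegree) + vsum D V d B = (r + 1) * d := by
    rw [← hesum B, ← Finset.sum_add_distrib, Finset.sum_congr rfl fun i _ =>
      show (P (v B i)).natDegree + e B i = d by have := hdegB i; omega]
    simp
  have hsum : ∑ R ∈ S, vsum D V d R ≤ (∑ R ∈ S, (vsum D V d R - tri r)) + S.card * tri r := by
    rw [← smul_eq_mul, ← Finset.sum_const, ← Finset.sum_add_distrib]
    exact Finset.sum_le_sum fun R _ => by omega
  omega

end Groth.Agent.FFLib
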