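import Groth.Agent.FFLib.Place
import Groth.Agent.OmegaField.Basis
import Groth.Prelude.Def_W4bk4goldsch23FF
import Mathlib.FieldTheory.SeparablyGenerated
import Mathlib.FieldTheory.KummerPolynomial
import Mathlib.FieldTheory.IsAlgClosed.AlgebraicClosure
import Mathlib.LinearAlgebra.TensorProduct.Basis
import Mathlib.RingTheory.AdjoinRoot
import Mathlib.RingTheory.Polynomial.IsIntegral

/-! Geometric function fields: separating elements, differentials, `p`-th powers. -/

namespace Groth.Agent.FFLib

open FunFld IntermediateField TensorProduct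

universe u v

variable {k : Type u} {K : Type v} [Field k] [Field K] [Algebra k K]

/-- In a geometric extension `p`-th powers of independent elements are independent. -/
theorem linearIndepOn_pow_of_isGeometric (hg : IsGeometric k K) (p : ℕ) [Fact p.Prime] [CharP k p]
    (s : Finset K) (hs : LinearIndepOn k _root_.id (s : Set K)) :
    LinearIndepOn k (fun x : K => x ^ p) (s : Set K) := by
  classical
  rw [linearIndepOn_finset_iff]
  intro c hc
  let kbar := AlgebraicClosure k
  haveI : CharP kbar p := charP_of_injective_algebraMap (algebraMap k kbar).injective p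
  let r : K → kbar := fun x => (frobeniusEquiv kbar p).symm (algebraMap k kbar (c x))
  have hr : ∀ x, r x ^ p = algebraMap k kbar (c x) := fun x =>
    (frobeniusEquiv kbar p).apply_symm_apply _
  let F : IntermediateField k kbar := adjoin k ((s.image r : Finset kbar) : Set kbar)
  have hFfin : FiniteDimensional k F :=
    IntermediateField.finiteDimensional_adjoin fun a _ => Algebra.IsIntegral.isIntegral a
  letI : Field (F ⊗[k] K) := (hg F hFfin).toField
  let d : ↥s → F := fun x => ⟨r x, subset_adjoin k _ (Finset.mem_coe.mpr (Finset.mem_image_of_mem r x.2))⟩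
  haveI : CharP (F ⊗[k] K) p :=
    charP_of_injective_algebraMap (algebraMap k (F ⊗[k] K)).injective p
  let z : F ⊗[k] K := ∑ x : ↥s, d x ⊗ₜ[k] (x : K)
  have hz : z ^ p = 0 := by
    rw [sum_pow_char]
    have : ∀ x : ↥s, (d x ⊗ₜ[k] (x : K)) ^ p = (1 : F) ⊗ₜ[k] (c x • (x : K) ^ p) := fun x => by
      rw [Algebra.TensorProduct.tmul_pow, show d x ^ p = algebraMap k F (c x) from Subtype.ext (hr x),
        Algebra.algebraMap_eq_smul_one, TensorProduct.smul_tmul]
    rw [Finset.sum_congr rfl fun x _ => this x, ← TensorProduct.tmul_sum,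
      Finset.sum_coe_sort s fun x => c x • x ^ p, hc, TensorProduct.tmul_zero]
  have hz0 : z = 0 := (pow_eq_zero_iff (Fact.out : p.Prime).ne_zero).mp hz
  let b := Module.Free.chooseBasis k F
  have hcoord : ∀ j, ∑ x : ↥s, b.repr (d x) j • (x : K) = 0 := fun j => by
    have h := congrArg ((TensorProduct.lid k K).toLinearMap ∘ₗ TensorProduct.map (b.coord j) LinearMap.id) hz0
    simpa [z, map_sum] using h
  intro x hx
  have hli : LinearIndependent k (fun y : ↥s => (y : K)) := hs
  have hrepr : ∀ j, b.repr (d ⟨x, hx⟩) j = 0 := fun j =>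
    Fintype.linearIndependent_iff.mp hli (fun y => b.repr (d y) j) (hcoord j) ⟨x, hx⟩
  have hdx : r x = 0 := congrArg Subtype.val (b.repr.map_eq_zero_iff.mp (Finsupp.ext hrepr))
  have hcx := hr x
  rw [hdx, zero_pow (Fact.out : p.Prime).ne_zero] at hcx
  exact (map_eq_zero (algebraMap k kbar)).mp hcx.symm

/-- A geometric function field has a separating element. -/
theorem exists_separating_element (hK : IsFunctionField k K) (hg : IsGeometric k K) :
    ∃ x : K, Transcendental k x ∧ Algebra.IsSeparable k⟮x⟯ K := by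
  classical
  obtain ⟨y, hy, hfin⟩ := id hK.1
  haveI : Algebra.EssFiniteType k k⟮y⟯ := essFiniteType_iff.mpr (by
    simpa using IntermediateField.fg_adjoin_finset ({y} : Finset K))
  haveI : Algebra.EssFiniteType k K := Algebra.EssFiniteType.comp k k⟮y⟯ K
  obtain ⟨s, hs, hsep⟩ : ∃ s : Finset K, IsTranscendenceBasis k ((↑) : s → K) ∧
      Algebra.IsSeparable (adjoin k (s : Set K)) K := by
    obtain h0 | ⟨p, hp, hpk⟩ := CharP.exists' k
    · haveI := h0
      exact exists_isTranscendenceBasis_and_isSeparable_of_perfectField k K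
    · haveI : ExpChar k p := .prime hp.out
      exact exists_isTranscendenceBasis_and_isSeparable_of_linearIndepOn_pow_of_essFiniteType
        p hp.out fun t ht => linearIndepOn_pow_of_isGeometric hg p t ht
  have hyb : IsTranscendenceBasis k (fun _ : Fin 1 => y) := by
    refine (AlgebraicIndependent.isTranscendenceBasis_iff_isAlgebraic
      (algebraicIndependent_unique_type_iff.mpr hy)).mpr ?_
    rw [← isAlgebraic_adjoin_iff_top, Set.range_const]
    haveI : Algebra.IsAlgebraic k⟮y⟯ K := Algebra.IsAlgebraic.of_finite _ _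
    exact ‹_›
  have hcard := hs.lift_cardinalMk_eq hyb
  simp at hcard
  obtain ⟨x, rfl⟩ := Finset.card_eq_one.mp hcard
  refine ⟨x, ?_, ?_⟩
  · exact (hs.1.transcendental ⟨x, by simp⟩)
  · rwa [Finset.coe_singleton] at hsep

/-- Differentials of a geometric function field: a separating element gives a basis. -/
theorem exists_basis_D (hK : IsFunctionField k K) {x : K} (hx : Transcendental k x)
    (hsep : Algebra.IsSeparable k⟮x⟯ K) :
    ∃ b : Module.Basis (Fin 1) K (Ω[K⁄k]), b 0 = KaehlerDifferential.D k K x := by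
  haveI : Algebra.IsSeparable (adjoin k (Set.range fun _ : Fin 1 => x)) K := by
    rwa [Set.range_const]
  obtain ⟨b, hb⟩ := OmegaField.exists_basis k K (fun _ : Fin 1 => x)
    (algebraicIndependent_unique_type_iff.mpr hx) inferInstance
  exact ⟨b, hb 0⟩

theorem D_ne_zero (hK : IsFunctionField k K) {x : K} (hx : Transcendental k x)
    (hsep : Algebra.IsSeparable k⟮x⟯ K) : KaehlerDifferential.D k K x ≠ 0 := by
  obtain ⟨b, hb⟩ := exists_basis_D hK hx hsep
  exact hb ▸ b.ne_zero 0

/-- The field `k(K^p)`. -/
abbrev powField (k K : Type*) [Field k] [Field K] [Algebra k K] (p : ℕ) : IntermediateField k K :=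
  adjoin k (Set.range fun y : K => y ^ p)

theorem pow_mem_powField (p : ℕ) (a : K) : a ^ p ∈ powField k K p := subset_adjoin _ _ ⟨a, rfl⟩

theorem D_eq_zero_of_mem (p : ℕ) [CharP K p] {z : K} (hz : z ∈ powField k K p) :
    KaehlerDifferential.D k K z = 0 := by
  induction hz using IntermediateField.adjoin_induction with
  | mem a ha =>
    obtain ⟨a, rfl⟩ := ha
    show KaehlerDifferential.D k K (a ^ p) = 0
    rw [Derivation.leibniz_pow, ← Nat.cast_smul_eq_nsmul K, CharP.cast_eq_zero, zero_smul]
  | algebraMap c => exact Derivation.map_algebraMap _ c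
  | add a b _ _ ha hb => rw [map_add, ha, hb, add_zero]
  | inv a _ ha =>
    rw [Derivation.leibniz_inv, ha, smul_zero]
  | mul a b _ _ ha hb => rw [Derivation.leibniz, ha, hb, smul_zero, smul_zero, add_zero]

variable (p : ℕ) [Fact p.Prime] [CharP K p]

/-- Degree over `k(K^p)`. -/
theorem powField_facts (hK : IsFunctionField k K) {x : K} (hx : Transcendental k x)
    (hsep : Algebra.IsSeparable k⟮x⟯ K) :
    Module.finrank (powField k K p) K = p ∧ (powField k K p)⟮x⟯ = ⊤ ∧
      ∀ z : K, KaehlerDifferential.D k K z = 0 → z ∈ powField k K p := by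
  classical
  have hp : p.Prime := Fact.out
  set M := powField k K p
  have hxM : x ∉ M := fun h => D_ne_zero hK hx hsep (D_eq_zero_of_mem p h)
  haveI hpi : IsPurelyInseparable M K := by
    haveI : ExpChar K p := .prime hp
    haveI : ExpChar M p := (algebraMap M K).expChar (algebraMap M K).injective p
    rw [isPurelyInseparable_iff_pow_mem M p]
    exact fun a => ⟨1, ⟨⟨a ^ p, pow_mem_powField p a⟩, by simp⟩⟩
  have htop : M⟮x⟯ = ⊤ := by
    haveI : IsPurelyInseparable M⟮x⟯ K := IsPurelyInseparable.tower_top M M⟮x⟯ K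
    have hle : k⟮x⟯ ≤ M⟮x⟯.restrictScalars k :=
      adjoin_simple_le_iff.mpr (mem_adjoin_simple_self M x)
    haveI : Algebra.IsSeparable M⟮x⟯ K := by
      letI := (IntermediateField.inclusion hle).toRingHom.toAlgebra
      haveI : IsScalarTower k⟮x⟯ (M⟮x⟯.restrictScalars k) K :=
        IsScalarTower.of_algebraMap_eq fun _ => rfl
      exact (Algebra.isSeparable_tower_top_of_isSeparable k⟮x⟯ (M⟮x⟯.restrictScalars k) K :)
    have := IsPurelyInseparable.surjective_algebraMap_of_isSeparable M⟮x⟯ K
    exact eq_top_iff.mpr fun a _ => by obtain ⟨b, rfl⟩ := this a; exact b.2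
  have hirr : Irreducible (Polynomial.X ^ p - Polynomial.C (⟨x ^ p, pow_mem_powField p x⟩ : M)) :=
    X_pow_sub_C_irreducible_of_prime hp fun b hb => hxM (by
      have h := congrArg Subtype.val hb
      rw [SubmonoidClass.coe_pow] at h
      have h' : ((b : K) - x) ^ p = 0 := by rw [sub_pow_char, h, sub_self]
      exact sub_eq_zero.mp ((pow_eq_zero_iff hp.ne_zero).mp h') ▸ b.2)
  have hmin : minpoly M x = Polynomial.X ^ p - Polynomial.C (⟨x ^ p, pow_mem_powField p x⟩ : M) :=
    (minpoly.eq_of_irreducible_of_monic hirr (by simp) (Polynomial.monic_X_pow_sub_C _ hp.ne_zero)).symm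
  have hint : IsIntegral M x :=
    ⟨Polynomial.X ^ p - Polynomial.C (⟨x ^ p, pow_mem_powField p x⟩ : M),
      Polynomial.monic_X_pow_sub_C _ hp.ne_zero, by rw [← Polynomial.aeval_def]; simp⟩
  have hfin : Module.finrank M K = p := by
    rw [← IntermediateField.finrank_top', ← htop, adjoin.finrank hint, hmin,
      Polynomial.natDegree_X_pow_sub_C]
  refine ⟨hfin, htop, fun z hz => ?_⟩
  have hz' : z ∈ Submodule.span M (Set.range fun i : Fin p => x ^ (i : ℕ)) := by
    have := (adjoin.powerBasis hint).basis.mem_span ⟨z, htop ▸ IntermediateField.mem_top⟩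
    rw [Submodule.mem_span_range_iff_exists_fun]
    have hd : (adjoin.powerBasis hint).dim = p := by
      rw [adjoin.powerBasis_dim, hmin, Polynomial.natDegree_X_pow_sub_C]
    obtain ⟨c, hc⟩ := Submodule.mem_span_range_iff_exists_fun M |>.mp this
    refine ⟨fun i => c (i.cast hd.symm), ?_⟩
    have hc' := congrArg Subtype.val hc
    rw [IntermediateField.coe_sum] at hc'
    refine Eq.trans ?_ hc'
    refine Fintype.sum_equiv (finCongr hd.symm) _ _ fun i => ?_
    simp [adjoin.powerBasis_gen]
  obtain ⟨c, hc⟩ := Submodule.mem_span_range_iff_exists_fun M |>.mp hz'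
  have hsum : (∑ i : Fin p, ((c i : K) * ((i : ℕ) : K)) * x ^ ((i : ℕ) - 1)) •
      KaehlerDifferential.D k K x = 0 := by
    rw [Finset.sum_smul, ← hz, ← hc, map_sum]
    refine Finset.sum_congr rfl fun i _ => ?_
    rw [IntermediateField.smul_def, smul_eq_mul, Derivation.leibniz, D_eq_zero_of_mem p (c i).2,
      smul_zero, add_zero, Derivation.leibniz_pow, ← Nat.cast_smul_eq_nsmul K, smul_smul, smul_smul,
      mul_assoc]
  have hzero := (smul_eq_zero.mp hsum).resolve_right (D_ne_zero hK hx hsep)
  have hli : LinearIndependent M fun i : Fin p => x ^ (i : ℕ) := by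
    have h := linearIndependent_pow (K := M) x
    have hd : p = (minpoly M x).natDegree := by rw [hmin, Polynomial.natDegree_X_pow_sub_C]
    exact h.comp (Fin.cast hd) (Fin.cast_injective _)
  have hci : ∀ i : Fin p, (i : ℕ) ≠ 0 → c i = 0 := by
    intro i hi
    let e : Fin p → M := fun j => if h : (j : ℕ) + 1 < p then
      c ⟨(j : ℕ) + 1, h⟩ * (((j : ℕ) + 1 : ℕ) : M) else 0
    have he : ∑ j : Fin p, e j • x ^ (j : ℕ) = 0 := by
      rw [← hzero]
      obtain ⟨q, rfl⟩ : ∃ q, p = q + 1 := ⟨p - 1, by have := hp.two_le; omega⟩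
      rw [Fin.sum_univ_castSucc, Fin.sum_univ_succ]
      simp only [e, Fin.val_castSucc, Fin.val_last, lt_irrefl, dite_false, zero_smul, add_zero,
        Fin.val_zero, Nat.cast_zero, mul_zero, zero_mul, zero_add, Fin.val_succ, Nat.add_sub_cancel]
      refine Finset.sum_congr rfl fun j _ => ?_
      rw [dif_pos (by omega)]
      simp only [IntermediateField.smul_def, smul_eq_mul]
      push_cast
      rfl
    have := Fintype.linearIndependent_iff.mp hli e he ⟨(i : ℕ) - 1, by omega⟩
    simp only [e] at this
    rw [dif_pos (show ((i : ℕ) - 1) + 1 < p by omega)] at this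
    have hi' : (⟨(i : ℕ) - 1 + 1, by omega⟩ : Fin p) = i := Fin.ext (by simp; omega)
    rw [hi', mul_eq_zero] at this
    refine this.resolve_right fun h0 => ?_
    have h1 := congrArg (algebraMap M K) h0
    rw [map_natCast, map_zero] at h1
    rw [CharP.cast_eq_zero_iff K p] at h1
    have := Nat.le_of_dvd (by omega) h1
    omega
  rw [← hc, Finset.sum_eq_single_of_mem ⟨0, hp.pos⟩ (Finset.mem_univ _) fun i _ hi => by
    rw [hci i (fun e => hi (Fin.ext e)), zero_smul]]
  simp [IntermediateField.smul_def]

/-- Elements with nonzero differential are separating. -/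
theorem isSeparable_of_notMem (hK : IsFunctionField k K) {x : K} (hx : Transcendental k x)
    (hsep : Algebra.IsSeparable k⟮x⟯ K) {z : K} (hz : z ∉ powField k K p) :
    Algebra.IsSeparable k⟮z⟯ K := by
  classical
  have hp : p.Prime := Fact.out
  obtain ⟨hfin, -, -⟩ := powField_facts p hK hx hsep
  have hztr : Transcendental k z := fun h => by
    obtain ⟨c, rfl⟩ := hK.2 z h
    exact hz (IntermediateField.algebraMap_mem _ c)
  haveI := IsFF.finite_adjoin hK.1 hztr
  haveI : ExpChar k⟮z⟯ p := (algebraMap k⟮z⟯ K).expChar (algebraMap k⟮z⟯ K).injective p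
  set S := separableClosure k⟮z⟯ K
  haveI : IsPurelyInseparable S K := separableClosure.isPurelyInseparable _ _
  haveI : ExpChar S p := (algebraMap S K).expChar (algebraMap S K).injective p
  haveI : ExpChar K p := .prime hp
  let W : ℕ → Subfield K := fun n => Subfield.closure ((S : Set K) ∪ Set.range fun a : K => a ^ p ^ n)
  have hSW : ∀ n, (S : Set K) ⊆ W n := fun n => Set.subset_union_left.trans Subfield.subset_closure
  have hbase : W 1 = ⊤ := by
    haveI : FiniteDimensional (powField k K p) K :=
      Module.finite_of_finrank_pos (by rw [hfin]; exact hp.pos)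
    have htop : (powField k K p)⟮z⟯ = ⊤ := by
      have hint : IsIntegral (powField k K p) z := IsIntegral.of_finite _ _
      have hdvd : Module.finrank (powField k K p) (powField k K p)⟮z⟯ ∣ p :=
        Dvd.intro _ ((Module.finrank_mul_finrank (powField k K p) (powField k K p)⟮z⟯ K).trans hfin)
      rcases hp.eq_one_or_self_of_dvd _ hdvd with h | h
      · exfalso
        rw [IntermediateField.finrank_eq_one_iff, adjoin_simple_eq_bot_iff, mem_bot] at h
        obtain ⟨b, rfl⟩ := h
        exact hz b.2
      · exact eq_of_le_of_finrank_eq le_top (by rw [h, finrank_top', hfin])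
    rw [eq_top_iff]
    intro a _
    have ha : a ∈ (powField k K p)⟮z⟯ := htop ▸ IntermediateField.mem_top
    rw [← IntermediateField.mem_toSubfield, adjoin_toSubfield] at ha
    refine (Subfield.closure_le.mpr ?_) ha
    rintro b (⟨⟨c, hc⟩, rfl⟩ | rfl)
    · rw [powField, ← IntermediateField.mem_toSubfield, adjoin_toSubfield] at hc
      refine (Subfield.closure_le.mpr ?_) hc
      rintro w (⟨d, rfl⟩ | ⟨d, rfl⟩)
      · exact hSW 1 (S.algebraMap_mem ⟨algebraMap k K d, IntermediateField.algebraMap_mem _ d⟩)
      · exact Subfield.subset_closure (Or.inr ⟨d, by simp⟩)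
    · exact hSW 1 (S.algebraMap_mem ⟨b, mem_adjoin_simple_self k b⟩)
  have hall : ∀ n, W n = ⊤ := by
    intro n
    induction n with
    | zero =>
      exact eq_top_iff.mpr fun a _ => Subfield.subset_closure (Or.inr ⟨a, by simp⟩)
    | succ n ih =>
      rw [eq_top_iff, ← ih]
      refine Subfield.closure_le.mpr (Set.union_subset (hSW _) ?_)
      rintro _ ⟨a, rfl⟩
      have : (⊤ : Subfield K) ≤ (W (n + 1)).comap (iterateFrobenius K p n) := by
        rw [← hbase]
        refine Subfield.closure_le.mpr ?_
        rintro b (hb | ⟨c, rfl⟩)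
        · show iterateFrobenius K p n b ∈ W (n + 1)
          rw [iterateFrobenius_def]
          exact pow_mem (hSW _ hb) _
        · show iterateFrobenius K p n (c ^ p ^ 1) ∈ W (n + 1)
          rw [iterateFrobenius_def, ← pow_mul, ← pow_add]
          exact Subfield.subset_closure (Or.inr ⟨c, by rw [Nat.add_comm 1 n]⟩)
      have := this (show a ∈ ⊤ from trivial)
      rwa [Subfield.mem_comap, iterateFrobenius_def] at this
  haveI : FiniteDimensional S K := FiniteDimensional.right k⟮z⟯ S K
  obtain ⟨n, hn⟩ : ∃ n, ∀ a : K, a ^ p ^ n ∈ S := by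
    let b := Module.finBasis S K
    choose m hm using fun i => IsPurelyInseparable.pow_mem (F := S) p (b i)
    refine ⟨Finset.univ.sup m, fun a => ?_⟩
    rw [← b.sum_repr a, ← iterateFrobenius_def, map_sum]
    refine sum_mem fun i _ => ?_
    rw [iterateFrobenius_def, IntermediateField.smul_def, smul_eq_mul, mul_pow]
    refine mul_mem (pow_mem (b.repr a i).2 _) ?_
    obtain ⟨j, hj⟩ := Nat.exists_eq_add_of_le (Finset.le_sup (f := m) (Finset.mem_univ i))
    rw [hj, pow_add, pow_mul]
    obtain ⟨c, hc⟩ := hm i
    exact pow_mem (hc ▸ c.2) _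
  rw [← separableClosure.eq_top_iff, eq_top_iff]
  intro a _
  have : W n ≤ S.toSubfield := Subfield.closure_le.mpr (Set.union_subset le_rfl (by
    rintro _ ⟨b, rfl⟩; exact hn b))
  exact this (by rw [hall n]; trivial)

omit [Fact p.Prime] [CharP K p]

/-- A finite separable extension of the constants stays a field. -/
theorem isField_tensor_of_isSeparable (hK : IsFunctionField k K) (k' : Type u) [Field k']
    [Algebra k k'] [FiniteDimensional k k'] [Algebra.IsSeparable k k'] :
    IsField (k' ⊗[k] K) := by
  classical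
  let pb := Field.powerBasisOfFiniteOfSeparable k k'
  set g := minpoly k pb.gen
  have hint : IsIntegral k pb.gen := IsIntegral.of_finite _ _
  have hgm : g.Monic := minpoly.monic hint
  have hirr : Irreducible (g.map (algebraMap k K)) := by
    have hg1 : g.map (algebraMap k K) ≠ 1 := fun e => by
      have := congrArg Polynomial.natDegree e
      rw [Polynomial.natDegree_map, Polynomial.natDegree_one] at this
      exact (minpoly.natDegree_pos hint).ne' this
    refine ((hgm.map _).irreducible_iff_natDegree).mpr ⟨hg1, fun f₁ f₂ h₁ h₂ heq => ?_⟩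
    have hdvd : f₁ ∣ g.map (algebraMap k K) := Dvd.intro _ heq
    obtain ⟨q, hq⟩ : ∃ q : Polynomial k, q.map (algebraMap k K) = f₁ := by
      rw [← Polynomial.mem_lifts, Polynomial.lifts_iff_coeff_lifts]
      exact fun i => hK.2 _ (Polynomial.isIntegral_coeff_of_dvd g f₁ hgm h₁ hdvd i).isAlgebraic
    have hq2 : q ∣ g := (Polynomial.map_dvd_map' (algebraMap k K)).mp (hq ▸ hdvd)
    rcases ((minpoly.irreducible hint).dvd_iff).mp hq2 with h | h
    · left
      rw [← hq, Polynomial.natDegree_map, Polynomial.natDegree_eq_zero_of_isUnit h]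
    · right
      have h1 : f₁.natDegree = g.natDegree := by
        rw [← hq, Polynomial.natDegree_map]
        exact Polynomial.natDegree_eq_of_degree_eq (Polynomial.degree_eq_degree_of_associated h).symm
      have h3 := congrArg Polynomial.natDegree heq
      rw [h₁.natDegree_mul h₂, Polynomial.natDegree_map, h1] at h3
      omega
  haveI : Fact (Irreducible (g.map (algebraMap k K))) := ⟨hirr⟩
  let L := AdjoinRoot (g.map (algebraMap k K))
  have hroot : Polynomial.aeval (AdjoinRoot.root (g.map (algebraMap k K)) : L) (minpoly k pb.gen) = 0 := by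
    rw [← Polynomial.aeval_map_algebraMap K, AdjoinRoot.aeval_eq, AdjoinRoot.mk_self]
  let ψ : k' →ₐ[k] L := pb.lift (AdjoinRoot.root (g.map (algebraMap k K))) hroot
  let Φ : K ⊗[k] k' →ₐ[K] L :=
    Algebra.TensorProduct.lift (Algebra.ofId K L) ψ fun _ _ => Commute.all _ _
  have hsurj : Function.Surjective Φ.toLinearMap := by
    intro w
    induction w using AdjoinRoot.induction_on with
    | ih q =>
      refine ⟨Polynomial.aeval ((1 : K) ⊗ₜ[k] pb.gen) q, ?_⟩
      show Φ _ = _
      rw [← Polynomial.aeval_algHom_apply,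
        show Φ ((1 : K) ⊗ₜ[k] pb.gen) = AdjoinRoot.root (g.map (algebraMap k K)) by simp [Φ, ψ],
        AdjoinRoot.aeval_eq]
  have hdim : Module.finrank K (K ⊗[k] k') = Module.finrank K L := by
    rw [Module.finrank_baseChange, (AdjoinRoot.powerBasis hirr.ne_zero).finrank,
      AdjoinRoot.powerBasis_dim, Polynomial.natDegree_map, pb.finrank, PowerBasis.natDegree_minpoly]
  haveI : FiniteDimensional K L := (AdjoinRoot.powerBasis hirr.ne_zero).finite
  have hbij : Function.Bijective Φ :=
    ⟨(LinearMap.injective_iff_surjective_of_finrank_eq_finrank hdim).mpr hsurj, hsurj⟩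
  exact MulEquiv.isField (Field.toIsField L)
    ((Algebra.TensorProduct.comm k k' K).toMulEquiv.trans (AlgEquiv.ofBijective Φ hbij).toMulEquiv)

end Groth.Agent.FFLib
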