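import Groth.Agent.FFLib.Place
import Mathlib.RingTheory.Valuation.LocalSubring
import Mathlib.RingTheory.Polynomial.Basic
import Mathlib.RingTheory.Valuation.IsTrivialOn

/-! Every proper valuation ring of `K` containing `k` is that of a place; existence of zeros. -/

namespace Groth.Agent.FFLib

open FunFld IntermediateField WithZero Polynomial

variable {k K : Type*} [Field k] [Field K] [Algebra k K]

/-- Linear independence over `k(x)` from vanishing of constant coefficients. -/
theorem linearIndependent_adjoin {ι : Type*} [Fintype ι] {x : K} (hx : Transcendental k x)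
    {z : ι → K} (h : ∀ p : ι → k[X], ∑ i, aeval x (p i) * z i = 0 → ∀ i, (p i).coeff 0 = 0) :
    LinearIndependent k⟮x⟯ z := by
  classical
  have hx0 : x ≠ 0 := fun e => hx (e ▸ isAlgebraic_zero)
  have key : ∀ (N : ℕ) (p : ι → k[X]), (∀ i, (p i).natDegree ≤ N) →
      ∑ i, aeval x (p i) * z i = 0 → ∀ i, p i = 0 := by
    intro N
    induction N with
    | zero =>
      intro p hd hs i
      rw [eq_C_of_natDegree_le_zero (hd i), h p hs i, map_zero]
    | succ N ih =>
      intro p hd hs i
      have h0 := h p hs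
      have hp : ∀ i, p i = Polynomial.X * (p i).divX := fun i => by
        conv_lhs => rw [← X_mul_divX_add (p i), h0 i, map_zero, add_zero]
      have hq : ∑ i, aeval x (p i).divX * z i = 0 := by
        refine (mul_eq_zero.mp ?_).resolve_left hx0
        rw [Finset.mul_sum, ← hs]
        refine Finset.sum_congr rfl fun i _ => ?_
        conv_rhs => rw [hp i, map_mul, aeval_X]
        ring
      have := ih (fun i => (p i).divX) (fun i => by
        show (p i).divX.natDegree ≤ N
        rw [natDegree_divX_eq_natDegree_tsub_one]; have := hd i; omega) hq i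
      rw [hp i, this, mul_zero]
  rw [Fintype.linearIndependent_iff]
  intro g hg i
  have := fun i => (mem_adjoin_simple_iff k (g i : K)).mp (g i).2
  choose r s hrs using this
  let s' : ι → k[X] := fun i => if s i = 0 then 1 else s i
  let r' : ι → k[X] := fun i => if s i = 0 then 0 else r i
  have hs' : ∀ i, s' i ≠ 0 := fun i => by simp only [s']; split <;> simp [*]
  have hg' : ∀ i, (g i : K) = aeval x (r' i) / aeval x (s' i) := fun i => by
    simp only [r', s']; split <;> simp [hrs, *]
  have hne : ∀ p : k[X], p ≠ 0 → aeval x p ≠ 0 := fun p hp e => hp (transcendental_iff.mp hx p e)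
  let p : ι → k[X] := fun i => r' i * ∏ j ∈ Finset.univ.erase i, s' j
  have hp : ∀ i, aeval x (p i) = (g i : K) * aeval x (∏ j, s' j) := fun i => by
    rw [hg' i, ← Finset.mul_prod_erase Finset.univ s' (Finset.mem_univ i)]
    simp only [p, map_mul]
    field_simp [hne _ (hs' i)]
  have hsum : ∑ i, aeval x (p i) * z i = 0 := by
    have : ∑ i, (g i : K) * z i = 0 := by simpa [IntermediateField.smul_def] using hg
    simp only [hp]
    calc _ = aeval x (∏ j, s' j) * ∑ i, (g i : K) * z i := by
          rw [Finset.mul_sum]; exact Finset.sum_congr rfl fun i _ => by ring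
      _ = 0 := by rw [this, mul_zero]
  have hzero := key (Finset.univ.sup fun i => (p i).natDegree) p
    (fun i => Finset.le_sup (f := fun i => (p i).natDegree) (Finset.mem_univ i)) hsum i
  have hr : r' i = 0 := by
    simpa [p, mul_eq_zero, Finset.prod_eq_zero_iff, hs'] using hzero
  apply Subtype.ext
  rw [hg' i, hr, map_zero, zero_div]; rfl

variable {Γ : Type*} [LinearOrderedCommGroupWithZero Γ] {v : Valuation K Γ}

theorem transcendental_of_lt_one (hk : ∀ c : k, v (algebraMap k K c) ≤ 1) {x : K} (hx0 : x ≠ 0)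
    (hx : v x < 1) : Transcendental k x := by
  have : v.IsTrivialOn k := ⟨fun c hc => le_antisymm (hk c) <| by
    have h2 := hk c⁻¹
    rwa [map_inv₀, map_inv₀, inv_le_one₀ (zero_lt_iff.mpr (by simp [hc]))] at h2⟩
  exact Valuation.transcendental_of_ne_one (v := v) k x hx0 hx.ne

theorem val_aeval_le_one (hk : ∀ c : k, v (algebraMap k K c) ≤ 1) {x : K} (hx : v x ≤ 1)
    (p : k[X]) : v (aeval x p) ≤ 1 := by
  rw [aeval_eq_sum_range]
  refine Valuation.map_sum_le _ fun i _ => ?_
  rw [Algebra.smul_def, map_mul, map_pow]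
  exact mul_le_one' (hk _) (pow_le_one₀ zero_le hx)

/-- A strictly increasing chain of values in `[v x, 1)` has length at most `[K : k(x)]`. -/
theorem chain_card_le (hk : ∀ c : k, v (algebraMap k K c) ≤ 1) {x : K} (hx : Transcendental k x)
    [FiniteDimensional k⟮x⟯ K] {n : ℕ} (y : Fin n → K) (h1 : ∀ i, v (y i) < 1)
    (hle : ∀ i, v x ≤ v (y i)) (hy : StrictMono fun i => v (y i)) :
    n ≤ Module.finrank k⟮x⟯ K := by
  classical
  have hx0 : x ≠ 0 := fun e => hx (e ▸ isAlgebraic_zero)
  have hvx : 0 < v x := zero_lt_iff.mpr (by simpa using hx0)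
  suffices LinearIndependent k⟮x⟯ y by simpa using this.fintype_card_le_finrank
  refine linearIndependent_adjoin hx fun p hp i => ?_
  by_contra hi
  let S := Finset.univ.filter fun i => (p i).coeff 0 ≠ 0
  have hS : S.Nonempty := ⟨i, by simp [S, hi]⟩
  obtain ⟨j, hjS, hjmax⟩ := S.exists_max_image id hS
  have hxlt : v x < 1 := (hle j).trans_lt (h1 j)
  have hdec : ∀ l, aeval x (p l) = x * aeval x (p l).divX + algebraMap k K ((p l).coeff 0) := by
    intro l; conv_lhs => rw [← X_mul_divX_add (p l), map_add, map_mul, aeval_X, aeval_C]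
  have hlt : ∀ l, v (x * aeval x (p l).divX) ≤ v x := fun l => by
    rw [map_mul]; exact mul_le_of_le_one_right' (val_aeval_le_one hk hxlt.le _)
  have hju : v (aeval x (p j) * y j) = v (y j) := by
    have hc : (p j).coeff 0 ≠ 0 := by simpa [S] using hjS
    have hc1 : v (algebraMap k K ((p j).coeff 0)) = 1 := by
      refine le_antisymm (hk _) ?_
      have h2 := hk ((p j).coeff 0)⁻¹
      rwa [map_inv₀, map_inv₀, inv_le_one₀ (zero_lt_iff.mpr (by simp [hc]))] at h2
    rw [map_mul, hdec j, Valuation.map_add_eq_of_lt_right v, hc1, one_mul]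
    rw [hc1]; exact (hlt j).trans_lt hxlt
  have hrest : v (∑ l ∈ Finset.univ.erase j, aeval x (p l) * y l) < v (y j) := by
    refine Valuation.map_sum_lt _ (by exact (hvx.trans_le (hle j)).ne') fun l hl => ?_
    have hlj := (Finset.mem_erase.mp hl).1
    rcases lt_or_gt_of_ne hlj with h | h
    · rw [map_mul]
      exact (mul_le_of_le_one_left' (val_aeval_le_one hk hxlt.le _)).trans_lt (hy h)
    · have h0 : (p l).coeff 0 = 0 := by
        by_contra h0
        exact absurd (hjmax l (by simp [S, h0])) (not_le.mpr h)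
      rw [map_mul, hdec l, h0, map_zero, add_zero]
      calc v (x * aeval x (p l).divX) * v (y l) ≤ v x * v (y l) := mul_le_mul_left (hlt l) _
        _ < v x := mul_lt_of_lt_one_right hvx (h1 l)
        _ ≤ v (y j) := hle j
  have := Finset.add_sum_erase Finset.univ (fun l => aeval x (p l) * y l) (Finset.mem_univ j)
  rw [hp] at this
  apply_fun v at this
  rw [Valuation.map_add_eq_of_lt_left v (hju ▸ hrest), hju, map_zero] at this
  exact (hvx.trans_le (hle j)).ne' this

/-- A nontrivial valuation trivial on `k` has a value generating all values. -/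
theorem exists_generator (hF : IsFF k K) (hk : ∀ c : k, v (algebraMap k K c) ≤ 1)
    (hnt : ∃ x, x ≠ 0 ∧ v x < 1) :
    ∃ t : K, v t < 1 ∧ t ≠ 0 ∧ ∀ y : K, y ≠ 0 → ∃ n : ℤ, v y = v t ^ n := by
  classical
  obtain ⟨x, hx0, hx⟩ := hnt
  have bound : ∀ x : K, x ≠ 0 → v x < 1 → ∀ (n : ℕ) (y : Fin n → K), (∀ i, v (y i) < 1) →
      (∀ i, v x ≤ v (y i)) → StrictMono (fun i => v (y i)) →
      n ≤ Module.finrank k⟮x⟯ K := fun x h0 h n y =>
    have := hF.finite_adjoin (transcendental_of_lt_one hk h0 h)
    chain_card_le hk (transcendental_of_lt_one hk h0 h) y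
  have hfin : (Set.range v ∩ Set.Ico (v x) 1).Finite := by
    by_contra hinf
    obtain ⟨S, hS, hcard⟩ :=
      Set.Infinite.exists_subset_card_eq hinf (Module.finrank k⟮x⟯ K + 1)
    let e := S.orderEmbOfFin hcard
    have he : ∀ i, e i ∈ Set.range v ∩ Set.Ico (v x) 1 := fun i =>
      hS (S.orderEmbOfFin_mem hcard i)
    choose y hy using fun i => (he i).1
    have := bound x hx0 hx _ y (fun i => (hy i).symm ▸ (he i).2.2)
      (fun i => (hy i).symm ▸ (he i).2.1) (by simpa [hy] using e.strictMono)
    omega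
  obtain ⟨_, ⟨⟨t, rfl⟩, ht1, ht2⟩, htmax⟩ :=
    hfin.toFinset.exists_max_image id ⟨v x, by simp [hx]⟩ |>.imp fun a ha =>
      (⟨hfin.mem_toFinset.mp ha.1, fun b hb => ha.2 b (hfin.mem_toFinset.mpr hb)⟩ :
        a ∈ Set.range v ∩ Set.Ico (v x) 1 ∧ ∀ b ∈ Set.range v ∩ Set.Ico (v x) 1, b ≤ a)
  have ht0 : 0 < v t := lt_of_lt_of_le (zero_lt_iff.mpr (by simpa using hx0)) ht1
  have hmax : ∀ y, v y < 1 → v y ≤ v t := fun y hy => by
    by_contra! h
    exact absurd (htmax (v y) ⟨⟨y, rfl⟩, ht1.trans h.le, hy⟩) (not_le.mpr h)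
  refine ⟨t, ht2, fun e => by simp [e] at ht0, ?_⟩
  have hnat : ∀ y : K, y ≠ 0 → v y ≤ 1 → ∃ n : ℕ, v y = v t ^ n := by
    intro y hy0 hy1
    by_cases hy : v y < 1
    · let N := Module.finrank k⟮y⟯ K
      have hex : ∃ n, ¬ v y ≤ v t ^ n := by
        refine ⟨N + 1, fun h => ?_⟩
        have := bound y hy0 hy (N + 1) (fun i => t ^ (N + 1 - (i : ℕ))) (fun i => by
            rw [map_pow]; exact pow_lt_one₀ zero_le ht2 (by omega))
          (fun i => by
            rw [map_pow]; exact h.trans (pow_le_pow_of_le_one zero_le ht2.le (by omega)))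
          (fun i j hij => by
            simp only [map_pow]
            exact pow_lt_pow_right_of_lt_one₀ ht0 ht2 (by omega))
        omega
      have hn := Nat.find_spec hex
      obtain ⟨n, hn'⟩ : ∃ n, Nat.find hex = n + 1 := by
        refine Nat.exists_eq_succ_of_ne_zero fun h => ?_
        rw [h, pow_zero] at hn; exact hn hy1
      have hle : v y ≤ v t ^ n := not_not.mp (Nat.find_min hex (hn' ▸ n.lt_succ_self))
      refine ⟨n, le_antisymm hle ?_⟩
      by_contra! hlt
      have h3 : v (y / t ^ n) < 1 := by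
        rw [map_div₀, map_pow, div_lt_one₀ (pow_pos ht0 n)]; exact hlt
      have h4 := hmax _ h3
      rw [map_div₀, map_pow, div_le_iff₀ (pow_pos ht0 n), mul_comm, ← pow_succ, ← hn'] at h4
      exact hn h4
    · exact ⟨0, by rw [pow_zero]; exact le_antisymm hy1 (not_lt.mp hy)⟩
  intro y hy0
  rcases le_total (v y) 1 with h | h
  · obtain ⟨n, hn⟩ := hnat y hy0 h
    exact ⟨n, by simpa using hn⟩
  · obtain ⟨n, hn⟩ := hnat y⁻¹ (inv_ne_zero hy0) (by rw [map_inv₀]; exact inv_le_one_of_one_le₀ h)
    refine ⟨-n, ?_⟩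
    rw [map_inv₀] at hn
    rw [zpow_neg, zpow_natCast, ← hn, inv_inv]

/-- A nontrivial valuation of `K`, trivial on `k`, is equivalent to a place. -/
theorem exists_place_of_valuation (hF : IsFF k K) (hk : ∀ c : k, v (algebraMap k K c) ≤ 1)
    (hnt : ∃ x, x ≠ 0 ∧ v x < 1) : ∃ P : Place k K, ∀ x, P.1 x ≤ 1 ↔ v x ≤ 1 := by
  classical
  obtain ⟨t, ht1, ht0, hgen⟩ := exists_generator hF hk hnt
  have hvt : 0 < v t := zero_lt_iff.mpr (by simpa using ht0)
  have hanti : StrictAnti fun n : ℤ => v t ^ n := zpow_right_strictAnti₀ hvt ht1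
  let e : K → ℤ := fun y => if h : y = 0 then 0 else (hgen y h).choose
  have he : ∀ y, y ≠ 0 → v y = v t ^ e y := fun y h => by
    simp only [e, dif_neg h]; exact (hgen y h).choose_spec
  have heq : ∀ y, y ≠ 0 → ∀ n : ℤ, v y = v t ^ n → e y = n := fun y h n hn =>
    hanti.injective ((he y h).symm.trans hn)
  let w : Valuation K (WithZero (Multiplicative ℤ)) :=
    { toFun := fun y => if y = 0 then 0 else exp (-(e y))
      map_zero' := by simp
      map_one' := by simp [heq 1 one_ne_zero 0 (by simp)]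
      map_mul' := fun a b => by
        rcases eq_or_ne a 0 with ha | ha
        · simp [ha]
        rcases eq_or_ne b 0 with hb | hb
        · simp [hb]
        have : e (a * b) = e a + e b :=
          heq _ (mul_ne_zero ha hb) _ (by rw [map_mul, he a ha, he b hb, zpow_add₀ hvt.ne'])
        simp only [if_neg ha, if_neg hb, if_neg (mul_ne_zero ha hb), this, ← exp_add]
        congr 1; ring
      map_add_le_max' := fun a b => by
        rcases eq_or_ne a 0 with ha | ha
        · simp [ha]
        rcases eq_or_ne b 0 with hb | hb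
        · simp [hb]
        rcases eq_or_ne (a + b) 0 with hab | hab
        · simp [hab]
        simp only [if_neg ha, if_neg hb, if_neg hab, le_max_iff, exp_le_exp, neg_le_neg_iff]
        have h := v.map_add a b
        rw [le_max_iff, he a ha, he b hb, he _ hab] at h
        exact h.imp hanti.le_iff_ge.mp hanti.le_iff_ge.mp }
  have hw : ∀ y, y ≠ 0 → w y = exp (-(e y)) := fun y h => if_neg h
  have hle : ∀ y, w y ≤ 1 ↔ v y ≤ 1 := by
    intro y
    rcases eq_or_ne y 0 with hy | hy
    · simp [hy]
    · rw [hw y hy, ← exp_zero, exp_le_exp, he y hy]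
      conv_rhs => rw [← zpow_zero (v t), hanti.le_iff_ge]
      omega
  refine ⟨⟨w, fun c => (hle _).mpr (hk c), fun a => ?_⟩, hle⟩
  rcases eq_or_ne a 0 with ha | ha
  · exact ⟨0, by simp [ha]⟩
  · refine ⟨t ^ (-log a), ?_⟩
    rw [hw _ (zpow_ne_zero _ ht0),
      heq _ (zpow_ne_zero _ ht0) (-log a) (by rw [map_zpow₀]), neg_neg, exp_log ha]

theorem exists_place_of_valuationSubring (hF : IsFF k K) (V : ValuationSubring K)
    (hk : ∀ c : k, algebraMap k K c ∈ V) (hV : V ≠ ⊤) : ∃ P : Place k K, P.O = V := by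
  obtain ⟨x, hx⟩ : ∃ x, x ∉ V := by
    by_contra! h
    exact hV (SetLike.ext fun x => iff_of_true (h x) trivial)
  have hx0 : x ≠ 0 := fun e => hx (e ▸ V.zero_mem)
  have hnt : ∃ y, y ≠ 0 ∧ V.valuation y < 1 := ⟨x⁻¹, inv_ne_zero hx0, by
    rw [map_inv₀, inv_lt_one₀ (zero_lt_iff.mpr (by simpa using hx0))]
    exact not_le.mp fun h => hx ((V.valuation_le_one_iff x).mp h)⟩
  obtain ⟨P, hP⟩ := exists_place_of_valuation (v := V.valuation) hF
    (fun c => (V.valuation_le_one_iff _).mpr (hk c)) hnt
  exact ⟨P, SetLike.ext fun y => (hP y).trans (V.valuation_le_one_iff y)⟩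

/-- If `x` is transcendental it has a zero, and one containing any given subring where it is not a
unit. -/
theorem exists_place_zero (hF : IsFF k K) {x : K} (hx : Transcendental k x) :
    ∃ P : Place k K, P.1 x < 1 := by
  let A : Subring K := (Algebra.adjoin k {x}).toSubring
  let a : A := ⟨x, Algebra.subset_adjoin rfl⟩
  have hI : Ideal.span {a} ≠ ⊤ := by
    intro h
    rw [Ideal.span_singleton_eq_top] at h
    obtain ⟨⟨b, hb⟩, hab⟩ := isUnit_iff_exists_inv.mp h
    obtain ⟨p, rfl⟩ : ∃ p : k[X], aeval x p = b := by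
      have : b ∈ Algebra.adjoin k {x} := hb
      rw [Algebra.adjoin_singleton_eq_range_aeval] at this
      exact this
    have h1 : x * aeval x p = 1 := congrArg Subtype.val hab
    have := transcendental_iff.mp hx (Polynomial.X * p - 1) (by simp [h1])
    simpa using congrArg (Polynomial.coeff · 0) this
  obtain ⟨V, hA, hV⟩ := Ideal.image_subset_nonunits_valuationSubring _ hI
  have hx0 : x ≠ 0 := fun e => hx (e ▸ isAlgebraic_zero)
  have hxV : x ∈ V.nonunits := hV ⟨a, Ideal.subset_span rfl, rfl⟩
  rw [ValuationSubring.mem_nonunits_iff] at hxV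
  have hk : ∀ c : k, algebraMap k K c ∈ V := fun c => hA ((Algebra.adjoin k {x}).algebraMap_mem c)
  obtain ⟨P, hP⟩ := exists_place_of_valuation (v := V.valuation) hF
    (fun c => (V.valuation_le_one_iff _).mpr (hk c)) ⟨x, hx0, hxV⟩
  refine ⟨P, lt_of_not_ge fun h => ?_⟩
  have : P.1 x⁻¹ ≤ 1 := by rw [map_inv₀]; exact inv_le_one_of_one_le₀ h
  rw [hP, map_inv₀, inv_le_one₀ (zero_lt_iff.mpr (by simpa using hx0))] at this
  exact absurd this (not_le.mpr hxV)

theorem exists_place_pole (hF : IsFF k K) {x : K} (hx : Transcendental k x) :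
    ∃ P : Place k K, 1 < P.1 x := by
  obtain ⟨P, hP⟩ := exists_place_zero hF (x := x⁻¹) fun h => hx (by simpa using h.inv)
  refine ⟨P, ?_⟩
  rw [map_inv₀] at hP
  exact (inv_lt_one₀ (zero_lt_iff.mpr (val_ne_zero P fun e => hx (by rw [e]; exact isAlgebraic_zero)))).mp hP

theorem transcendental_of_val_ne_one (P : Place k K) {x : K} (hx0 : x ≠ 0) (hx : P.1 x ≠ 1) :
    Transcendental k x := by
  have : P.1.IsTrivialOn k := ⟨fun c hc => val_algebraMap P hc⟩
  exact Valuation.transcendental_of_ne_one (v := P.1) k x hx0 hx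

end Groth.Agent.FFLib
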