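import Groth.Agent.FFLib.Schmidt
import Mathlib.RingTheory.PowerSeries.Basic

/-! The numerator of the zeta series. -/

namespace Groth.Agent.FFLib

open FunFld WithZero

variable {k K : Type*} [Field k] [Field K] [Algebra k K]

theorem ell_congr (hF : IsFF k K) {D E : Divisor k K} (h : D - E ∈ prinDivs k K) : ell D = ell E := by
  obtain ⟨z, hz, hz'⟩ := (mem_prinDivs hF).mp h
  rw [show D = E + FunFld.div k z by rw [hz']; abel, ell_add_div hF E hz]

theorem deg_zsmul (n : ℤ) (D : Divisor k K) : (n • D).deg = n * D.deg :=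
  (map_zsmul (degHom k K) n D).trans (smul_eq_mul _ _)

variable (D₁ : Divisor k K) [Fintype (Pic0 k K)]

/-- `∑_c q^{ℓ(n D₁ + c)}`. -/
noncomputable def secSum (n : ℤ) : ℚ :=
  ∑ c : Pic0 k K, (Nat.card k : ℚ) ^ ell (n • D₁ + rep c)

variable {D₁}

theorem secSum_neg (hF : IsFF k K) (h1 : D₁.deg = 1) {n : ℤ} (hn : n < 0) :
    secSum D₁ n = classNum k K := by
  have : ∀ c : Pic0 k K, ell (n • D₁ + rep c) = 0 := fun c => ell_eq_zero_of_deg_neg hF (by
    rw [Divisor.deg_add, deg_zsmul, deg_rep, h1]; omega)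
  simp [secSum, this, classNum_eq]

theorem secSum_symm [Finite k] (hK : IsFunctionField k K) (h1 : D₁.deg = 1) (n : ℤ) :
    secSum D₁ n =
      (Nat.card k : ℚ) ^ (n + 1 - genus k K) * secSum D₁ (2 * (genus k K : ℤ) - 2 - n) := by
  have hF := hK.1
  obtain ⟨C, hC⟩ := exists_canonical hK
  have hq : (Nat.card k : ℚ) ≠ 0 := by
    have : 0 < Nat.card k := Nat.card_pos
    positivity
  have hd : (C - (2 * (genus k K : ℤ) - 2) • D₁).deg = 0 := by
    rw [Divisor.deg_sub, deg_zsmul, deg_canonical hK hC, h1]; ring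
  let c₀ : Pic0 k K := QuotientAddGroup.mk (⟨_, mem_ker_degHom.mpr hd⟩ : (degHom k K).ker)
  rw [secSum, secSum, Finset.mul_sum,
    ← (Equiv.subLeft c₀).sum_comp (fun c => (Nat.card k : ℚ) ^ (n + 1 - genus k K) *
      (Nat.card k : ℚ) ^ ell ((2 * (genus k K : ℤ) - 2 - n) • D₁ + rep c))]
  refine Finset.sum_congr rfl fun c _ => ?_
  have hrr := riemann_roch hK hC (n • D₁ + rep c)
  rw [Divisor.deg_add, deg_zsmul, deg_rep, h1, mul_one, add_zero] at hrr
  have he : ell (C - (n • D₁ + rep c)) =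
      ell ((2 * (genus k K : ℤ) - 2 - n) • D₁ + rep (Equiv.subLeft c₀ c)) := by
    refine ell_congr hF ?_
    have hd' : (C - (2 * (genus k K : ℤ) - 2) • D₁ - rep c).deg = 0 := by
      rw [Divisor.deg_sub, hd, deg_rep, sub_zero]
    have h : (QuotientAddGroup.mk (⟨_, mem_ker_degHom.mpr hd'⟩ : (degHom k K).ker) : Pic0 k K) =
        Equiv.subLeft c₀ c := by
      show _ = c₀ - c
      conv_rhs => rw [← QuotientAddGroup.out_eq' c]
      rfl
    rw [show C - (n • D₁ + rep c) - ((2 * (genus k K : ℤ) - 2 - n) • D₁ + rep (Equiv.subLeft c₀ c)) =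
      C - (2 * (genus k K : ℤ) - 2) • D₁ - rep c - rep (Equiv.subLeft c₀ c) by
        rw [sub_smul (2 * (genus k K : ℤ) - 2) n D₁]; abel]
    exact (mk_eq_iff _ _).mp h
  rw [← he, ← zpow_natCast, ← zpow_natCast (Nat.card k : ℚ) (ell (C - (n • D₁ + rep c))),
    ← zpow_add₀ hq, hrr]

/-- `a(n)` for integer `n`. -/
noncomputable def effCountZ (k K : Type*) [Field k] [Field K] [Algebra k K] (n : ℤ) : ℤ :=
  if n < 0 then 0 else effDivCount k K n.toNat

theorem effCountZ_formula [Finite k] (hK : IsFunctionField k K) (h1 : D₁.deg = 1) (n : ℤ) :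
    ((Nat.card k : ℚ) - 1) * effCountZ k K n = secSum D₁ n - classNum k K := by
  rcases lt_or_ge n 0 with hn | hn
  · rw [effCountZ, if_pos hn, secSum_neg hK.1 h1 hn]; simp
  · obtain ⟨m, rfl⟩ : ∃ m : ℕ, n = m := ⟨n.toNat, (Int.toNat_of_nonneg hn).symm⟩
    have h := effDivCount_formula hK m (D := (m : ℤ) • D₁) (by rw [deg_zsmul, h1, mul_one])
    rw [effCountZ, if_neg (not_lt.mpr hn), Int.toNat_natCast]
    have h' := congrArg (Int.cast : ℤ → ℚ) h
    push_cast at h'
    rw [secSum]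
    exact_mod_cast h'

theorem coeff_numerZ (n : ℕ) :
    PowerSeries.coeff n (numerZ k K) = effCountZ k K n -
      (1 + (Nat.card k : ℤ)) * effCountZ k K (n - 1) + (Nat.card k : ℤ) * effCountZ k K (n - 2) := by
  have e : numerZ k K = zetaZ k K - PowerSeries.X * (PowerSeries.C (1 + (Nat.card k : ℤ)) * zetaZ k K) +
      PowerSeries.X * (PowerSeries.X * (PowerSeries.C (Nat.card k : ℤ) * zetaZ k K)) := by
    rw [numerZ, map_add, map_one]; ring
  have hc : ∀ m : ℕ, PowerSeries.coeff m (zetaZ k K) = effCountZ k K m := fun m => by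
    rw [zetaZ, PowerSeries.coeff_mk, effCountZ, if_neg (by omega), Int.toNat_natCast]
  have hneg : ∀ m : ℤ, m < 0 → effCountZ k K m = 0 := fun m hm => if_pos hm
  rw [e]
  generalize 1 + (Nat.card k : ℤ) = a
  generalize (Nat.card k : ℤ) = b
  have hc0 : PowerSeries.constantCoeff (zetaZ k K) = effCountZ k K 0 := by
    rw [← PowerSeries.coeff_zero_eq_constantCoeff_apply, hc]; rfl
  rcases n with _ | _ | n
  · simp [hc0, hneg]
  · simp [hc, hc0, hneg, PowerSeries.coeff_succ_X_mul, PowerSeries.coeff_zero_eq_constantCoeff_apply]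
  · simp only [map_add, map_sub, PowerSeries.coeff_succ_X_mul, PowerSeries.coeff_C_mul, hc]
    push_cast
    ring_nf

theorem coeff_numerZ_formula [Finite k] (hK : IsFunctionField k K) (h1 : D₁.deg = 1) (n : ℕ) :
    ((Nat.card k : ℚ) - 1) * (PowerSeries.coeff n (numerZ k K) : ℤ) =
      secSum D₁ n - (1 + (Nat.card k : ℚ)) * secSum D₁ ((n : ℤ) - 1) +
        (Nat.card k : ℚ) * secSum D₁ ((n : ℤ) - 2) := by
  rw [coeff_numerZ]
  push_cast
  linear_combination effCountZ_formula hK h1 (n : ℤ) -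
    (1 + (Nat.card k : ℚ)) * effCountZ_formula hK h1 ((n : ℤ) - 1) +
    (Nat.card k : ℚ) * effCountZ_formula hK h1 ((n : ℤ) - 2)

omit [Fintype (Pic0 k K)] in
theorem effDivCount_zero (hF : IsFF k K) : effDivCount k K 0 = 1 := by
  refine Nat.card_eq_one_iff_exists.mpr ⟨⟨0, le_rfl, by simp⟩, fun E => Subtype.ext ?_⟩
  exact (deg_eq_of_le hF E.2.1 (by simp [E.2.2])).symm

theorem numerZ_functional [Finite k] (hK : IsFunctionField k K) (h1 : D₁.deg = 1) (i j : ℕ)
    (hij : j + i = 2 * genus k K) :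
    (((PowerSeries.coeff j (numerZ k K) : ℤ)) : ℚ) =
      (Nat.card k : ℚ) ^ ((genus k K : ℤ) - i) * (((PowerSeries.coeff i (numerZ k K) : ℤ)) : ℚ) := by
  have hq : (Nat.card k : ℚ) ≠ 0 := by
    have : 0 < Nat.card k := Nat.card_pos
    positivity
  have hq1 : (Nat.card k : ℚ) - 1 ≠ 0 := by
    have : 1 < Nat.card k := Finite.one_lt_card
    rw [sub_ne_zero]; exact_mod_cast this.ne'
  set g := genus k K
  set q := (Nat.card k : ℚ)
  refine mul_left_cancel₀ hq1 ?_
  rw [mul_left_comm, coeff_numerZ_formula hK h1, coeff_numerZ_formula hK h1,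
    secSum_symm hK h1 (j : ℤ), secSum_symm hK h1 ((j : ℤ) - 1), secSum_symm hK h1 ((j : ℤ) - 2)]
  rw [show (2 * (g : ℤ) - 2 - j) = (i : ℤ) - 2 by omega,
    show (2 * (g : ℤ) - 2 - ((j : ℤ) - 1)) = (i : ℤ) - 1 by omega,
    show (2 * (g : ℤ) - 2 - ((j : ℤ) - 2)) = (i : ℤ) by omega,
    show (j : ℤ) + 1 - g = ((g : ℤ) - i) + 1 by omega,
    show (j : ℤ) - 1 + 1 - g = ((g : ℤ) - i) by omega,
    show (j : ℤ) - 2 + 1 - g = ((g : ℤ) - i) - 1 by omega,
    zpow_add_one₀ hq, zpow_sub_one₀ hq]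
  field_simp
  ring

theorem numerZ_vanish [Finite k] (hK : IsFunctionField k K) (h1 : D₁.deg = 1) (n : ℕ)
    (hn : 2 * genus k K < n) : PowerSeries.coeff n (numerZ k K) = 0 := by
  have hq : (Nat.card k : ℚ) ≠ 0 := by
    have : 0 < Nat.card k := Nat.card_pos
    positivity
  have hq1 : (Nat.card k : ℚ) - 1 ≠ 0 := by
    have : 1 < Nat.card k := Finite.one_lt_card
    rw [sub_ne_zero]; exact_mod_cast this.ne'
  have h := coeff_numerZ_formula hK h1 n
  rw [secSum_symm hK h1 (n : ℤ), secSum_symm hK h1 ((n : ℤ) - 1), secSum_symm hK h1 ((n : ℤ) - 2),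
    secSum_neg hK.1 h1 (by omega), secSum_neg hK.1 h1 (by omega), secSum_neg hK.1 h1 (by omega),
    show (n : ℤ) + 1 - genus k K = ((n : ℤ) - genus k K) + 1 by omega,
    show (n : ℤ) - 1 + 1 - genus k K = ((n : ℤ) - genus k K) by omega,
    show (n : ℤ) - 2 + 1 - genus k K = ((n : ℤ) - genus k K) - 1 by omega,
    zpow_add_one₀ hq, zpow_sub_one₀ hq] at h
  field_simp at h
  have h' : ((Nat.card k : ℚ) - 1) * ((PowerSeries.coeff n (numerZ k K) : ℤ) : ℚ) = 0 := by
    linear_combination h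
  exact_mod_cast (mul_eq_zero.mp h').resolve_left hq1

end Groth.Agent.FFLib
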