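import Groth.Agent.FFLib.ZetaCount
import Mathlib.FieldTheory.Finite.Extension
import Mathlib.RingTheory.Polynomial.GaussLemma
import Mathlib.RingTheory.AdjoinRoot
import Mathlib.GroupTheory.Archimedean

/-! Divisors of degree one over a finite constant field (F. K. Schmidt). -/

namespace Groth.Agent.FFLib

open FunFld WithZero Polynomial

theorem exists_irreducible_natDegree (k : Type*) [Field k] [Finite k] {r : ℕ} (hr : r.Prime) :
    ∃ f : k[X], f.Monic ∧ Irreducible f ∧ f.natDegree = r := by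
  obtain ⟨p, hp⟩ := CharP.exists k
  have : Fact p.Prime := ⟨CharP.char_is_prime k p⟩
  have : NeZero r := ⟨hr.ne_zero⟩
  have hfin := FiniteField.finrank_extension k p r
  obtain ⟨a, ha⟩ : ∃ a : FiniteField.Extension k p r, a ∉ Set.range (algebraMap k _) := by
    by_contra! h
    have e : k ≃ₗ[k] FiniteField.Extension k p r := LinearEquiv.ofBijective (Algebra.linearMap k _)
      ⟨(algebraMap k _).injective, h⟩
    rw [← e.finrank_eq, Module.finrank_self] at hfin
    exact hr.one_lt.ne hfin
  have hi : IsIntegral k a := IsIntegral.of_finite k a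
  refine ⟨minpoly k a, minpoly.monic hi, minpoly.irreducible hi, ?_⟩
  have hdvd := minpoly.degree_dvd hi
  rw [hfin] at hdvd
  have h2 := minpoly.two_le_natDegree_iff hi |>.mpr (by simpa using ha)
  exact ((Nat.dvd_prime hr).mp hdvd).resolve_left (by omega)

variable {k K : Type*} [Field k] [Field K] [Algebra k K]

theorem irreducible_map (hK : IsFunctionField k K) {f : k[X]} (hm : f.Monic) (hi : Irreducible f) :
    Irreducible (f.map (algebraMap k K)) := by
  have hne : f.map (algebraMap k K) ≠ 1 := fun h => by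
    have h' := congrArg Polynomial.natDegree h
    rw [natDegree_map, natDegree_one] at h'
    exact hi.natDegree_pos.ne' h'
  rw [irreducible_of_monic (hm.map _) hne]
  intro a b ha hb hab
  have hlift : ∀ c : K[X], c.Monic → c ∣ f.map (algebraMap k K) →
      ∃ c' : k[X], c'.map (algebraMap k K) = c ∧ c'.Monic := by
    intro c hc hd
    have h1 := integralClosure.mem_lifts_of_monic_of_dvd_map K hm hc hd
    have h2 : c ∈ lifts (algebraMap k K) := by
      rw [lifts_iff_coeff_lifts] at h1 ⊢
      intro n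
      obtain ⟨z, hz⟩ := h1 n
      exact hz ▸ hK.2 _ z.2.isAlgebraic
    obtain ⟨c', e, -, hc'⟩ := lifts_and_natDegree_eq_and_monic h2 hc
    exact ⟨c', e, hc'⟩
  obtain ⟨a', rfl, ha'⟩ := hlift a ha ⟨b, hab.symm⟩
  obtain ⟨b', rfl, hb'⟩ := hlift b hb ⟨_, by rw [mul_comm, hab]⟩
  rw [← Polynomial.map_mul] at hab
  have he := map_injective _ (algebraMap k K).injective hab
  rcases hi.isUnit_or_isUnit he.symm with h | h
  · exact Or.inl (by rw [ha'.eq_one_of_isUnit h, Polynomial.map_one])
  · exact Or.inr (by rw [hb'.eq_one_of_isUnit h, Polynomial.map_one])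

variable {K' : Type*} [Field K'] [Algebra K K'] [Algebra k K'] [IsScalarTower k K K']

theorem exists_two_places [Finite k] [FiniteDimensional K K'] (hF : IsFF k K) {f : k[X]}
    (hm : f.Monic) (hi : Irreducible f) {r : ℕ} (hr : r.Prime) (hdeg : f.natDegree = r)
    (hK' : Module.finrank K K' = r) {α : K'} (hα : aeval α f = 0) (σ : K' ≃ₐ[K] K')
    (hσ : σ α = α ^ Nat.card k) (P : Place k K) (hP : r ∣ P.deg) :
    ∃ Q₁ Q₂ : Place k K', Q₁ ≠ Q₂ ∧ (IsOver Q₁ P ∧ Q₁.deg = P.deg) ∧ IsOver Q₂ P ∧ Q₂.deg = P.deg := by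
  classical
  have hF' : IsFF k K' := hF.ext
  have hmin : f = minpoly k α := minpoly.eq_of_irreducible_of_monic hi hα hm
  have hfrob : ∀ m : ℕ, (σ ^ m) α = α ^ (Nat.card k ^ m) := fun m => by
    induction m with
    | zero => simp
    | succ m ih => rw [pow_succ', AlgEquiv.mul_apply, ih, map_pow, hσ, ← pow_mul, ← pow_succ']
  have hne : ∀ m : ℕ, 0 < m → m < r → α ^ (Nat.card k ^ m) ≠ α := fun m h0 hlt h => by
    have hd : f ∣ X ^ (Nat.card k) ^ m - X := hmin ▸ minpoly.dvd k α (by simp [h])
    have := Nat.le_of_dvd h0 (hdeg ▸ hi.natDegree_dvd_of_dvd_X_pow_card_pow_sub_X hd)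
    omega
  have halg : IsAlgebraic k α := ⟨f, hm.ne_zero, hα⟩
  have hval : ∀ (R : Place k K') (z : K'), IsAlgebraic k z → z ≠ 0 → R.1 z = 1 := fun R z hz hz0 =>
    by_contra fun h => transcendental_of_val_ne_one R hz0 h hz
  obtain ⟨Q, e, he⟩ := exists_isOver (K' := K') hF P
  -- the residue of `α` is the residue of an element of `K`
  obtain ⟨c, hc1, hc⟩ : ∃ c : K, P.1 c ≤ 1 ∧ Q.1 (α - algebraMap K K' c) < 1 := by
    have hfinR := residue_finite hF P
    have : Finite (Res P) := Module.finite_of_finite k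
    have := Fintype.ofFinite (Res P)
    have hcard : Fintype.card (Res P) = Nat.card k ^ P.deg := by
      rw [Fintype.card_eq_nat_card, Module.natCard_eq_pow_finrank (K := k)]; rfl
    have hsX : ((X ^ Fintype.card (Res P) - X : k[X]).map (algebraMap k (Res P))).Splits :=
      (FiniteField.isSplittingField_sub (Res P) k).splits
    have hne0 : (X ^ Fintype.card (Res P) - X : k[X]) ≠ 0 :=
      FiniteField.X_pow_card_sub_X_ne_zero k Fintype.one_lt_card
    have hdvd : f ∣ (X ^ Fintype.card (Res P) - X : k[X]) := by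
      rw [hcard]
      exact hi.natDegree_dvd_iff_dvd_X_pow_card_pow_sub_X.mp (hdeg ▸ hP)
    have hs : (f.map (algebraMap k (Res P))).Splits :=
      hsX.of_dvd ((Polynomial.map_ne_zero_iff (algebraMap k (Res P)).injective).mpr hne0)
        (Polynomial.map_dvd _ hdvd)
    let s : Res P → P.O := Function.surjInv IsLocalRing.residue_surjective
    let R := (f.map (algebraMap k (Res P))).roots
    let g : P.O[X] := f.map (algebraMap k P.O) - (R.map fun a => X - C (s a)).prod
    have hg : g.map (IsLocalRing.residue P.O) = 0 := by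
      simp only [g, Polynomial.map_sub, Polynomial.map_multiset_prod, Multiset.map_map,
        Function.comp_def, Polynomial.map_X, Polynomial.map_C, Polynomial.map_map, s,
        Function.surjInv_eq IsLocalRing.residue_surjective]
      rw [sub_eq_zero]
      exact hs.eq_prod_roots_of_monic (hm.map _)
    let φ : P.O →+* K' := (algebraMap K K').comp P.O.subtype
    have hφ : ∀ x : P.O, Q.1 (φ x) ≤ 1 := fun x => by
      show Q.1 (algebraMap K K' x.1) ≤ 1
      rw [he]
      exact pow_le_one' x.2 e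
    have hα1 : Q.1 α ≤ 1 := by
      rcases eq_or_ne α 0 with h | h
      · simp [h]
      · exact (hval Q α halg h).le
    have hlt : Q.1 (eval₂ φ α g) < 1 := by
      rw [eval₂_eq_sum_range]
      refine Valuation.map_sum_lt _ one_ne_zero fun i _ => ?_
      have hci : P.1 (g.coeff i : K) < 1 := by
        rw [← residue_eq_zero, ← coeff_map, hg, coeff_zero]
      rw [map_mul, map_pow]
      refine mul_lt_one_of_nonneg_of_lt_one_left zero_le' ?_ (pow_le_one' hα1 i)
      show Q.1 (algebraMap K K' (g.coeff i : K)) < 1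
      rw [he]
      exact pow_lt_one₀ zero_le' hci (by have := over_pos hF he; omega)
    have hev : eval₂ φ α g = -((R.map fun a => α - φ (s a)).prod) := by
      simp only [g, eval₂_sub]
      rw [eval₂_map, show φ.comp (algebraMap k P.O) = algebraMap k K' from
        RingHom.ext fun a => (IsScalarTower.algebraMap_apply k K K' a).symm, ← aeval_def, hα, zero_sub,
        ← coe_eval₂RingHom, map_multiset_prod, Multiset.map_map]
      simp [Function.comp_def]
    rw [hev, Valuation.map_neg, map_multiset_prod, Multiset.map_map] at hlt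
    by_contra! hall
    refine hlt.not_ge (Multiset.one_le_prod fun x hx => ?_)
    obtain ⟨a, -, rfl⟩ := Multiset.mem_map.mp hx
    exact hall _ (s a).2
  let Qi : ℕ → Place k K' := fun i => placeComap ((σ ^ i).restrictScalars k) Q
  have hover : ∀ i, IsOverWith (Qi i) P e := fun i => isOverWith_placeComap _ he
  have hdegQ : ∀ i, (Qi i).deg = Q.deg := fun i => deg_placeComap hF' _ Q
  have hdist : ∀ i j, i < j → j < r → Qi i ≠ Qi j := fun i j hij hj h => by
    have h' : Q.1 ((σ ^ i) ((σ ^ i).symm (α - algebraMap K K' c))) =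
        Q.1 ((σ ^ j) ((σ ^ i).symm (α - algebraMap K K' c))) :=
      congrArg (fun R : Place k K' => R.1 ((σ ^ i).symm (α - algebraMap K K' c))) h
    rw [show σ ^ j = σ ^ (j - i) * σ ^ i by rw [← pow_add, Nat.sub_add_cancel hij.le],
      AlgEquiv.mul_apply, AlgEquiv.apply_symm_apply, map_sub (σ ^ (j - i)), AlgEquiv.commutes, hfrob] at h'
    rw [h'] at hc
    have hd : Q.1 (α ^ (Nat.card k ^ (j - i)) - α) < 1 := by
      rw [show α ^ (Nat.card k ^ (j - i)) - α = (α ^ (Nat.card k ^ (j - i)) - algebraMap K K' c) -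
        (α - algebraMap K K' c) by ring]
      exact (Q.1.map_sub _ _).trans_lt (max_lt hc (h' ▸ hc))
    refine hd.ne (hval Q _ ((halg.pow _).sub halg) (sub_ne_zero.mpr (hne _ (by omega) (by omega))))
  have hinj : Set.InjOn Qi ↑(Finset.range r) := fun i hi' j hj' h => by
    simp only [Finset.coe_range, Set.mem_Iio] at hi' hj'
    rcases lt_trichotomy i j with hlt | he' | hgt
    · exact absurd h (hdist i j hlt hj')
    · exact he'
    · exact absurd h.symm (hdist j i hgt hi')
  have hQdeg : Q.deg = P.deg := by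
    refine le_antisymm ?_ (deg_le_deg_over hF ⟨e, he⟩)
    have hsum := sum_ram_deg hF P (over_finite (K' := K') hF P).toFinset
      (fun Q' => (over_finite (K' := K') hF P).mem_toFinset)
    have hsub : (Finset.range r).image Qi ⊆ (over_finite (K' := K') hF P).toFinset := fun Q' hQ' => by
      obtain ⟨i, -, rfl⟩ := Finset.mem_image.mp hQ'
      exact (over_finite (K' := K') hF P).mem_toFinset.mpr (⟨e, hover i⟩ : IsOver _ P)
    have hle := Finset.sum_le_sum_of_subset (f := fun Q' => ramIdx Q' P * Q'.deg) hsub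
    rw [hsum, hK', Finset.sum_image hinj] at hle
    simp only [ramIdx_eq hF (hover _), hdegQ, Finset.sum_const, Finset.card_range, smul_eq_mul] at hle
    have := over_pos hF he
    have h2 := Nat.le_of_mul_le_mul_left hle hr.pos
    have h3 : 1 * Q.deg ≤ e * Q.deg := Nat.mul_le_mul_right _ this
    omega
  exact ⟨Qi 0, Qi 1, hdist 0 1 Nat.one_pos hr.one_lt, ⟨⟨e, hover 0⟩, by rw [hdegQ, hQdeg]⟩,
    ⟨e, hover 1⟩, by rw [hdegQ, hQdeg]⟩

omit [Field K'] [Algebra K K'] [Algebra k K'] [IsScalarTower k K K'] in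
theorem effDivCount_lower [Finite k] (hK : IsFunctionField k K) {m : ℕ} {D : Divisor k K}
    (hD : D.deg = m) (hm : genus k K ≤ m) :
    Nat.card k ^ (m - genus k K) ≤ effDivCount k K m := by
  have hq : 2 ≤ Nat.card k := Finite.one_lt_card
  have hE := natCard_effClass_mul hK D
  have hr := riemann hK.1 D
  have hfinE := finite_effective (k := k) hK.1 (m : ℤ)
  have hle : Nat.card (EffClass D) ≤ effDivCount k K m := by
    refine Nat.card_le_card_of_injective (fun E => (⟨E.1, E.2.1, ?_⟩ :
      {E : Divisor k K // 0 ≤ E ∧ E.deg = (m : ℤ)})) fun a b h => Subtype.ext (congrArg Subtype.val h :)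
    obtain ⟨z, -, hz⟩ := (mem_prinDivs hK.1).mp E.2.2
    have := congrArg Divisor.deg hz
    rw [deg_div hK.1, Divisor.deg_sub] at this
    omega
  obtain ⟨t, ht⟩ : ∃ t, t = m - genus k K := ⟨_, rfl⟩
  rw [← ht]
  refine le_trans ?_ hle
  have h1 : Nat.card k ^ (t + 1) - 1 ≤ Nat.card k ^ ell D - 1 :=
    Nat.sub_le_sub_right (Nat.pow_le_pow_right (by omega) (by omega)) 1
  rw [← hE, pow_succ] at h1
  refine Nat.le_of_mul_le_mul_right ?_ (by omega : 0 < Nat.card k - 1)
  rw [Nat.mul_sub, mul_one]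
  have := Nat.one_le_pow t (Nat.card k) (by omega)
  omega

omit [Field K'] [Algebra K K'] [Algebra k K'] [IsScalarTower k K K'] in
theorem effDivCount_upper [Finite k] (hF : IsFF k K) (m : ℕ) :
    effDivCount k K m ≤ Nat.card (Pic0 k K) * Nat.card k ^ (m + ell (0 : Divisor k K)) := by
  classical
  have hq : 0 < Nat.card k := Nat.card_pos
  rcases isEmpty_or_nonempty {D : Divisor k K // 0 ≤ D ∧ D.deg = (m : ℤ)} with hemp | ⟨⟨E₀, -, hE₀⟩⟩
  · rw [effDivCount, Nat.card_of_isEmpty]; exact Nat.zero_le _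
  have := finite_pic0 (k := k) hF
  have := Fintype.ofFinite (Pic0 k K)
  rw [effDivCount_eq_sum hF m hE₀, Nat.card_eq_fintype_card (α := Pic0 k K), ← Finset.card_univ,
    ← smul_eq_mul, ← Finset.sum_const]
  refine Finset.sum_le_sum fun c _ => ?_
  rcases isEmpty_or_nonempty (EffClass (E₀ + rep c)) with h | ⟨⟨B, hB0, hB⟩⟩
  · rw [Nat.card_of_isEmpty]; exact Nat.zero_le _
  obtain ⟨w, hw, hBw⟩ := (mem_prinDivs hF).mp hB
  have hdegB : B.deg = m := by
    have := congrArg Divisor.deg hBw
    rw [deg_div hF, Divisor.deg_sub, Divisor.deg_add, deg_rep, hE₀] at this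
    omega
  have hz : ∀ E : EffClass (E₀ + rep c), ∃ z : K, z ∈ L B ∧ B + FunFld.div k z = E.1 := fun E => by
    obtain ⟨z, hz, hEz⟩ := (mem_prinDivs hF).mp E.2.2
    have he : B + FunFld.div k (z * w⁻¹) = E.1 := by
      rw [div_mul hF hz (inv_ne_zero hw), div_inv hF, hEz, hBw]; abel
    refine ⟨z * w⁻¹, (mem_L_iff_ord (mul_ne_zero hz (inv_ne_zero hw))).mpr fun P => ?_, he⟩
    have h0 : (0 : ℤ) ≤ E.1 P := E.2.1 P
    rw [← he, Finsupp.add_apply, div_apply hF] at h0
    omega
  choose z hzL hz using hz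
  have := L_finite hF B
  have : Finite (L B) := Module.finite_of_finite k
  refine (Nat.card_le_card_of_injective (fun E => (⟨z E, hzL E⟩ : L B)) fun a b h =>
    Subtype.ext ?_).trans ?_
  · have h' : z a = z b := congrArg Subtype.val h
    rw [← hz a, ← hz b, h']
  · rw [Module.natCard_eq_pow_finrank (K := k)]
    refine Nat.pow_le_pow_right hq ?_
    have h := (ell_le_of_le hF hB0).2
    simp only [Divisor.deg_zero, hdegB] at h
    show ell B ≤ _
    omega

omit [Field K'] [Algebra K K'] [Algebra k K'] [IsScalarTower k K K'] in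
/-- F. K. Schmidt: there is a divisor of degree one. -/
theorem exists_deg_one [Finite k] (hK : IsFunctionField k K) :
    ∃ D : Divisor k K, D.deg = 1 := by
  classical
  have hF : IsFF k K := hK.1
  by_contra hno
  obtain ⟨δ, hδ⟩ := Int.subgroup_cyclic (degHom k K).range
  have hmem : ∀ D : Divisor k K, δ ∣ D.deg := fun D => by
    have : degHom k K D ∈ (degHom k K).range := ⟨D, rfl⟩
    rw [hδ, AddSubgroup.mem_closure_singleton] at this
    obtain ⟨n, hn⟩ := this
    exact ⟨n, show degHom k K D = _ by rw [← hn, smul_eq_mul, mul_comm]⟩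
  obtain ⟨D₁, hD₁⟩ : δ ∈ (degHom k K).range := by
    rw [hδ]; exact AddSubgroup.subset_closure rfl
  obtain ⟨P₀⟩ := exists_place hF
  have hdP : ∀ P : Place k K, δ.natAbs ∣ P.deg := fun P => by
    have := hmem (Finsupp.single P 1)
    rw [Divisor.deg_single, one_mul] at this
    exact Int.natAbs_dvd_natAbs.mpr this |>.trans (by simp)
  have hδ1 : δ.natAbs ≠ 1 := fun h => by
    rcases Int.natAbs_eq δ with e | e <;> rw [h, Nat.cast_one] at e
    · exact hno ⟨D₁, show degHom k K D₁ = 1 by rw [hD₁, e]⟩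
    · exact hno ⟨-D₁, by rw [Divisor.deg_neg, show D₁.deg = δ from hD₁, e, neg_neg]⟩
  obtain ⟨r, hr, hrδ⟩ := Nat.exists_prime_and_dvd hδ1
  obtain ⟨f, hm, hi, hdeg⟩ := exists_irreducible_natDegree k hr
  have : Fact (Irreducible (f.map (algebraMap k K))) := ⟨irreducible_map hK hm hi⟩
  let K₁ := AdjoinRoot (f.map (algebraMap k K))
  let α : K₁ := AdjoinRoot.root _
  have : FiniteDimensional K K₁ :=
    (AdjoinRoot.powerBasis (Polynomial.map_ne_zero hm.ne_zero)).finite
  have hrank : Module.finrank K K₁ = r := by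
    rw [(AdjoinRoot.powerBasis (Polynomial.map_ne_zero hm.ne_zero)).finrank,
      AdjoinRoot.powerBasis_dim, natDegree_map, hdeg]
  have hα : aeval α f = 0 := by
    rw [← aeval_map_algebraMap K α f, AdjoinRoot.aeval_eq, AdjoinRoot.mk_self]
  have hα' : (f.map (algebraMap k K)).eval₂ (Algebra.ofId K K₁) (α ^ Nat.card k) = 0 := by
    have := Fintype.ofFinite k
    rw [show ((Algebra.ofId K K₁ : K →ₐ[K] K₁) : K →+* K₁) = algebraMap K K₁ from rfl, ← aeval_def,
      aeval_map_algebraMap, Nat.card_eq_fintype_card]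
    have hexp : expand k (Fintype.card k) f = f ^ Fintype.card k := FiniteField.expand_card f
    have h2 := congrArg (aeval α) hexp
    rw [expand_aeval, map_pow, hα, zero_pow Fintype.card_ne_zero] at h2
    exact h2
  let σ₀ : K₁ →ₐ[K] K₁ := AdjoinRoot.liftAlgHom _ (Algebra.ofId K K₁) (α ^ Nat.card k) hα'
  let σ : K₁ ≃ₐ[K] K₁ := AlgEquiv.ofBijective σ₀
    ⟨σ₀.toRingHom.injective, LinearMap.surjective_of_injective (f := σ₀.toLinearMap) σ₀.toRingHom.injective⟩
  have hσ : σ α = α ^ Nat.card k := AdjoinRoot.liftAlgHom_root _ (Algebra.ofId K K₁) (α ^ Nat.card k) hα'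
  have hF' : IsFF k K₁ := hF.ext
  choose Q₁ Q₂ hne h1 h2 using fun P : Place k K =>
    exists_two_places hF hm hi hr hdeg hrank hα σ hσ P (hrδ.trans (hdP P))
  have hbelow : ∀ {P P' : Place k K} {R : Place k K₁}, IsOver R P → IsOver R P' → P = P' :=
    fun ⟨_, a⟩ ⟨_, b⟩ => (over_unique hF a b).1
  have i1 : Function.Injective Q₁ := fun P P' h => hbelow (h1 P).1 (h ▸ (h1 P').1)
  have i2 : Function.Injective Q₂ := fun P P' h => hbelow (h2 P).1 (h ▸ (h2 P').1)
  have hdisj : ∀ P P', Q₁ P ≠ Q₂ P' := fun P P' h => by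
    obtain rfl := hbelow (h1 P).1 (h ▸ (h2 P').1)
    exact hne P h
  let Ψ : Divisor k K → Divisor k K → Divisor k K₁ := fun A B => A.mapDomain Q₁ + B.mapDomain Q₂
  have hΨ1 : ∀ A B P, Ψ A B (Q₁ P) = A P := fun A B P => by
    simp only [Ψ, Finsupp.add_apply, Finsupp.mapDomain_apply i1]
    rw [Finsupp.mapDomain_notin_range _ _ (fun ⟨P', h⟩ => hdisj P P' h.symm), add_zero]
  have hΨ2 : ∀ A B P, Ψ A B (Q₂ P) = B P := fun A B P => by
    simp only [Ψ, Finsupp.add_apply, Finsupp.mapDomain_apply i2]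
    rw [Finsupp.mapDomain_notin_range _ _ (fun ⟨P', h⟩ => hdisj P' P h), zero_add]
  have hdegmap : ∀ (A : Divisor k K) (Q : Place k K → Place k K₁), (∀ P, (Q P).deg = P.deg) →
      FunFld.Divisor.deg (A.mapDomain Q) = A.deg := fun A Q hQ => by
    rw [Divisor.deg, Finsupp.sum_mapDomain_index (by simp) (fun _ _ _ => by ring)]
    exact Finsupp.sum_congr fun P _ => by rw [hQ]
  -- counting
  set g := genus k K
  set c₀ := ell (0 : Divisor k K₁)
  set q := Nat.card k
  have hq : 2 ≤ q := Finite.one_lt_card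
  set d := P₀.deg
  have hd : 0 < d := deg_pos hF P₀
  let N : ℕ := Nat.card (Pic0 k K₁) * q ^ (c₀ + 2 * g) + 1
  let n : ℕ := 2 * g + N
  have hcount : ∀ j : Fin N, q ^ (n * d - 2 * g) ≤
      effDivCount k K ((g + j) * d) * effDivCount k K ((n - (g + j)) * d) := fun j => by
    have hj := j.2
    have a1 : g ≤ (g + j) * d :=
      le_trans (by omega) (Nat.le_mul_of_pos_right _ hd)
    have a2 : g ≤ (n - (g + j)) * d := le_trans (by omega) (Nat.le_mul_of_pos_right _ hd)
    refine le_trans ?_ (Nat.mul_le_mul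
      (effDivCount_lower hK (D := Finsupp.single P₀ ((g + j : ℕ) : ℤ)) (by rw [Divisor.deg_single]; push_cast; rfl) a1)
      (effDivCount_lower hK (D := Finsupp.single P₀ ((n - (g + j) : ℕ) : ℤ)) (by rw [Divisor.deg_single]; push_cast; rfl) a2))
    rw [← pow_add]
    refine Nat.pow_le_pow_right (by omega) ?_
    have : n * d = (g + j) * d + (n - (g + j)) * d := by
      rw [← Nat.add_mul, Nat.add_sub_cancel' (by omega)]
    omega
  have fin : ∀ m : ℤ, Finite {D : Divisor k K // 0 ≤ D ∧ D.deg = m} := finite_effective hF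
  have fin1 : Finite {D : Divisor k K₁ // 0 ≤ D ∧ D.deg = ((n * d : ℕ) : ℤ)} :=
    finite_effective hF' _
  let S := Σ j : Fin N, {D : Divisor k K // 0 ≤ D ∧ D.deg = (((g + j) * d : ℕ) : ℤ)} ×
    {D : Divisor k K // 0 ≤ D ∧ D.deg = (((n - (g + j)) * d : ℕ) : ℤ)}
  have hS : Nat.card S ≤ effDivCount k K₁ (n * d) := by
    refine Nat.card_le_card_of_injective (fun s => (⟨Ψ s.2.1.1 s.2.2.1, ?_, ?_⟩ :
      {D : Divisor k K₁ // 0 ≤ D ∧ D.deg = ((n * d : ℕ) : ℤ)})) ?_
    · intro R
      simp only [Ψ, Finsupp.coe_zero, Pi.zero_apply, Finsupp.add_apply]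
      refine add_nonneg ?_ ?_ <;>
      · rw [Finsupp.mapDomain, Finsupp.sum_apply]
        refine Finset.sum_nonneg fun P _ => ?_
        dsimp only
        rw [Finsupp.single_apply]
        split
        · first | exact s.2.1.2.1 P | exact s.2.2.2.1 P
        · exact le_rfl
    · rw [Divisor.deg_add, hdegmap _ _ fun P => (h1 P).2, hdegmap _ _ fun P => (h2 P).2, s.2.1.2.2,
        s.2.2.2.2, ← Nat.cast_add, ← Nat.add_mul, Nat.add_sub_cancel' (by have := s.1.2; omega)]
    · rintro ⟨j, A, B⟩ ⟨j', A', B'⟩ h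
      have hv := congrArg Subtype.val h
      have hA : A.1 = A'.1 := Finsupp.ext fun P => by
        have := congrArg (fun D : Divisor k K₁ => D (Q₁ P)) hv
        simpa only [hΨ1] using this
      have hB : B.1 = B'.1 := Finsupp.ext fun P => by
        have := congrArg (fun D : Divisor k K₁ => D (Q₂ P)) hv
        simpa only [hΨ2] using this
      have hj : j = j' := by
        have h3 : (((g + j) * d : ℕ) : ℤ) = (((g + j') * d : ℕ) : ℤ) := by
          rw [← A.2.2, ← A'.2.2, hA]
        have h4 := Nat.eq_of_mul_eq_mul_right hd (Int.ofNat_inj.mp h3)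
        exact Fin.ext (by omega)
      subst hj
      obtain rfl : A = A' := Subtype.ext hA
      obtain rfl : B = B' := Subtype.ext hB
      rfl
  have hlow : N * q ^ (n * d - 2 * g) ≤ Nat.card S := by
    rw [Nat.card_sigma]
    calc N * q ^ (n * d - 2 * g) = ∑ _j : Fin N, q ^ (n * d - 2 * g) := by simp
      _ ≤ _ := Finset.sum_le_sum fun j _ => by rw [Nat.card_prod]; exact hcount j
  have hfinal := hlow.trans (hS.trans (effDivCount_upper hF' (n * d)))
  have hn : 2 * g ≤ n * d := le_trans (by omega) (Nat.le_mul_of_pos_right n hd)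
  rw [show n * d + c₀ = (n * d - 2 * g) + (c₀ + 2 * g) by omega, pow_add, mul_comm (q ^ (n * d - 2 * g)),
    ← mul_assoc] at hfinal
  have h5 := Nat.le_of_mul_le_mul_right hfinal (pow_pos (by omega) _)
  simp only [N, q] at h5
  omega

end Groth.Agent.FFLib
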