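import Mathlib.LinearAlgebra.FiniteDimensional.Lemmas
import Mathlib.LinearAlgebra.Isomorphisms

/-! Relative dimension of nested subspaces of a possibly infinite-dimensional space. -/

namespace Groth.Agent.FFLib

open Submodule

variable {k V W : Type*} [Field k] [AddCommGroup V] [Module k V] [AddCommGroup W] [Module k W]

/-- The image of `B` modulo `A`. -/
abbrev relQ (A B : Submodule k V) : Submodule k (V ⧸ A) := B.map A.mkQ

/-- `A ≤ B` and `B / A` has finite dimension `n`. -/
def RelDim (A B : Submodule k V) (n : ℕ) : Prop :=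
  A ≤ B ∧ FiniteDimensional k (relQ A B) ∧ Module.finrank k (relQ A B) = n

noncomputable def relQEquiv (A B : Submodule k V) :
    (B ⧸ A.submoduleOf B) ≃ₗ[k] relQ A B :=
  (Submodule.quotEquivOfEq _ _ (by rw [LinearMap.ker_comp, ker_mkQ]; rfl)).trans
    ((A.mkQ.comp B.subtype).quotKerEquivRange.trans
      (LinearEquiv.ofEq _ _ (by rw [LinearMap.range_comp, range_subtype])))

theorem RelDim.le {A B : Submodule k V} {n : ℕ} (h : RelDim A B n) : A ≤ B := h.1

theorem RelDim.eq {A B : Submodule k V} {n m : ℕ} (h : RelDim A B n) (h' : RelDim A B m) : n = m :=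
  h.2.2.symm.trans h'.2.2

theorem RelDim.finite_quotient {A B : Submodule k V} {n : ℕ} (h : RelDim A B n) :
    FiniteDimensional k (B ⧸ A.submoduleOf B) :=
  have := h.2.1
  Module.Finite.equiv (relQEquiv A B).symm

theorem RelDim.finrank_quotient {A B : Submodule k V} {n : ℕ} (h : RelDim A B n) :
    Module.finrank k (B ⧸ A.submoduleOf B) = n :=
  (relQEquiv A B).finrank_eq.trans h.2.2

theorem relDim_refl (A : Submodule k V) : RelDim A A 0 := by
  have h : relQ A A = ⊥ := mkQ_map_self A
  refine ⟨le_rfl, ?_, ?_⟩ <;> rw [h]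
  · infer_instance
  · exact finrank_bot k _

theorem relDim_bot_iff {B : Submodule k V} {n : ℕ} :
    RelDim ⊥ B n ↔ FiniteDimensional k B ∧ Module.finrank k B = n := by
  have e : B ≃ₗ[k] relQ ⊥ B := equivMapOfInjective _
    (LinearMap.ker_eq_bot.mp (ker_mkQ _)) B
  refine ⟨fun h => ?_, fun h => ⟨bot_le, ?_, ?_⟩⟩
  · have := h.2.1; exact ⟨Module.Finite.equiv e.symm, e.finrank_eq.trans h.2.2⟩
  · have := h.1; exact Module.Finite.equiv e
  · exact e.finrank_eq.symm.trans h.2

theorem RelDim.trans {A B C : Submodule k V} {n m : ℕ} (h₁ : RelDim A B n) (h₂ : RelDim B C m) :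
    RelDim A C (n + m) := by
  refine ⟨h₁.1.trans h₂.1, ?_⟩
  let f : relQ A C →ₗ[k] V ⧸ B := (factor h₁.1).domRestrict (relQ A C)
  have hr : LinearMap.range f = relQ B C := by
    rw [LinearMap.range_domRestrict, ← Submodule.map_comp, factor_comp_mk]
  have hk : LinearMap.ker f = (relQ A B).comap (relQ A C).subtype := by
    ext ⟨x, hx⟩
    obtain ⟨c, hc, rfl⟩ := hx
    simp only [LinearMap.mem_ker, f, LinearMap.domRestrict_apply, mem_comap, subtype_apply,
      relQ, mem_map]
    rw [factor_mk, mkQ_apply, Quotient.mk_eq_zero]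
    refine ⟨fun h => ⟨c, h, rfl⟩, ?_⟩
    rintro ⟨b, hb, hbc⟩
    rw [mkQ_apply, mkQ_apply, Submodule.Quotient.eq] at hbc
    simpa using sub_mem hb (h₁.1 hbc)
  have e : LinearMap.ker f ≃ₗ[k] relQ A B :=
    (LinearEquiv.ofEq _ _ hk).trans (comapSubtypeEquivOfLe (Submodule.map_mono h₂.1))
  have := h₁.2.1
  have := h₂.2.1
  have : FiniteDimensional k (LinearMap.ker f) := Module.Finite.equiv e.symm
  have : FiniteDimensional k (relQ A C ⧸ LinearMap.ker f) :=
    Module.Finite.equiv ((f.quotKerEquivRange.trans (LinearEquiv.ofEq _ _ hr)).symm)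
  have hfin : FiniteDimensional k (relQ A C) :=
    Module.Finite.of_submodule_quotient (LinearMap.ker f)
  refine ⟨hfin, ?_⟩
  rw [← f.finrank_range_add_finrank_ker, e.finrank_eq, (LinearEquiv.ofEq _ _ hr).finrank_eq,
    h₁.2.2, h₂.2.2, add_comm]

/-- Relative dimension bounded by a map whose kernel is the smaller space. -/
theorem relDim_of_ker {A B : Submodule k V} (hAB : A ≤ B) (f : B →ₗ[k] W)
    (hf : LinearMap.ker f = A.submoduleOf B) [FiniteDimensional k (LinearMap.range f)] :
    RelDim A B (Module.finrank k (LinearMap.range f)) := by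
  let e := ((relQEquiv A B).symm.trans (quotEquivOfEq _ _ hf.symm)).trans f.quotKerEquivRange
  exact ⟨hAB, Module.Finite.equiv e.symm, e.finrank_eq⟩

end Groth.Agent.FFLib
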