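import Groth.Agent.FFLib.Exists
import Groth.Agent.FFLib.RelDim

/-! Residue fields, `A(D)`, `L(D)`, the fundamental inequality. -/

namespace Groth.Agent.FFLib

open FunFld IntermediateField WithZero Polynomial

variable {k K : Type*} [Field k] [Field K] [Algebra k K]

abbrev Res (P : Place k K) : Type _ := IsLocalRing.ResidueField P.O

theorem mem_O_iff (P : Place k K) (x : K) : x ∈ P.O ↔ P.1 x ≤ 1 := Iff.rfl

theorem residue_eq_zero (P : Place k K) (x : P.O) :
    IsLocalRing.residue P.O x = 0 ↔ P.1 x < 1 := by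
  rw [IsLocalRing.residue_eq_zero_iff, IsLocalRing.mem_maximalIdeal, mem_nonunits_iff]
  exact Valuation.Integer.not_isUnit_iff_valuation_lt_one

theorem residue_algebraMap (P : Place k K) (c : k) :
    algebraMap k (Res P) c = IsLocalRing.residue P.O (algebraMap k P.O c) := rfl

theorem coe_algebraMap_O (P : Place k K) (c : k) :
    ((algebraMap k P.O c : P.O) : K) = algebraMap k K c := rfl

theorem residue_smul (P : Place k K) (c : k) (x : P.O) :
    c • IsLocalRing.residue P.O x = IsLocalRing.residue P.O (algebraMap k P.O c * x) := by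
  rw [Algebra.smul_def, map_mul, residue_algebraMap]

/-- Elements with residues linearly independent over `k`. -/
def ResIndep (P : Place k K) {ι : Type*} [Fintype ι] (a : ι → K) : Prop :=
  (∀ i, P.1 (a i) ≤ 1) ∧ ∀ c : ι → k, P.1 (∑ i, c i • a i) < 1 → c = 0

theorem ResIndep.val_sum {P : Place k K} {ι : Type*} [Fintype ι] {a : ι → K} (h : ResIndep P a)
    {c : ι → k} (hc : c ≠ 0) : P.1 (∑ i, c i • a i) = 1 := by
  refine le_antisymm (Valuation.map_sum_le _ fun i _ => ?_) (not_lt.mp fun hlt => hc (h.2 c hlt))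
  rw [Algebra.smul_def, map_mul]
  exact mul_le_one' (P.2.1 _) (h.1 i)

theorem resIndep_of_residue (P : Place k K) {ι : Type*} [Fintype ι] (a : ι → P.O)
    (h : LinearIndependent k (fun i => IsLocalRing.residue P.O (a i))) :
    ResIndep P (fun i => (a i : K)) := by
  refine ⟨fun i => (a i).2, fun c hc => funext (Fintype.linearIndependent_iff.mp h c ?_)⟩
  refine (Finset.sum_congr rfl fun i _ => residue_smul P (c i) (a i)).trans ?_
  rw [← map_sum, residue_eq_zero]
  rw [AddSubmonoidClass.coe_finsetSum]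
  simpa only [MulMemClass.coe_mul, coe_algebraMap_O, Algebra.smul_def] using hc

theorem sum_ord_mul_card_le (S : Finset (Place k K)) {x : K} (hx : Transcendental k x)
    [FiniteDimensional k⟮x⟯ K] (e : Place k K → ℕ) (he : ∀ P ∈ S, P.1 x ≤ exp (-(e P : ℤ)))
    (he1 : ∀ P ∈ S, 1 ≤ e P) (m : Place k K → ℕ) (a : ∀ P : Place k K, Fin (m P) → K)
    (ha : ∀ P ∈ S, ResIndep P (a P)) :
    ∑ P ∈ S, e P * m P ≤ Module.finrank k⟮x⟯ K := by
  classical
  have ht := fun (P : Place k K) (j : ℕ) => exists_val_eq_exp P (-(j : ℤ))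
  choose t ht0 ht using ht
  let M : Place k K → ℤ := fun P => e P
  have hz : ∀ (q : (P : S) × (Fin (e P.1) × Fin (m P.1))), ∃ z : K, ∀ P ∈ S,
      P.1 (z - (if P = q.1.1 then a q.1.1 q.2.2 * t q.1.1 q.2.1 else 0)) ≤ exp (-(M P)) := fun q =>
    exists_approx S _ M
  choose z hz using hz
  suffices h : LinearIndependent k⟮x⟯ z by
    have := h.fintype_card_le_finrank
    simpa [Fintype.card_sigma, Finset.sum_attach S (fun P => e P * m P),
      ← Finset.attach_eq_univ] using this
  have hxlt : ∀ P ∈ S, P.1 x ≤ 1 := fun P hP => (he P hP).trans (by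
    rw [← exp_zero, exp_le_exp]; omega)
  have hmain : ∀ (q : (P : S) × (Fin (e P.1) × Fin (m P.1))),
      q.1.1.1 (a q.1.1 q.2.2 * t q.1.1 q.2.1) ≤ exp (-((q.2.1 : ℕ) : ℤ)) := fun q => by
    rw [map_mul, ht]
    exact mul_le_of_le_one_left' ((ha _ q.1.2).1 _)
  have hzle : ∀ q, ∀ P ∈ S, P.1 (z q) ≤ 1 := by
    intro q P hP
    rw [show z q = (z q - (if P = q.1.1 then a q.1.1 q.2.2 * t q.1.1 q.2.1 else 0)) +
      (if P = q.1.1 then a q.1.1 q.2.2 * t q.1.1 q.2.1 else 0) by ring]
    refine (P.1.map_add _ _).trans (max_le ((hz q P hP).trans ?_) ?_)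
    · rw [← exp_zero, exp_le_exp]; simp [M]
    · split
      · subst P; exact (hmain q).trans (by rw [← exp_zero, exp_le_exp]; omega)
      · simp
  refine linearIndependent_adjoin hx fun p hp q => ?_
  by_contra hq
  obtain ⟨P₀, ⟨j₀, i₀⟩⟩ := q
  -- constant parts
  let c := fun (j : Fin (e P₀.1)) (i : Fin (m P₀.1)) => (p ⟨P₀, j, i⟩).coeff 0
  let J := Finset.univ.filter fun j => c j ≠ 0
  have hJ : J.Nonempty := ⟨j₀, by
    simp only [J, Finset.mem_filter, Finset.mem_univ, true_and]
    exact fun h => hq (congrFun h i₀)⟩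
  let w := fun j : Fin (e P₀.1) => ∑ i, c j i • (a P₀.1 i * t P₀.1 j)
  have hw : ∀ j, w j = (∑ i, c j i • a P₀.1 i) * t P₀.1 j := fun j => by
    simp [w, Finset.sum_mul, smul_mul_assoc]
  obtain ⟨j₁, hj₁, hmin⟩ := J.exists_min_image id hJ
  have hj₁' : c j₁ ≠ 0 := (Finset.mem_filter.mp hj₁).2
  have hv1 : P₀.1.1 (w j₁) = exp (-((j₁ : ℕ) : ℤ)) := by
    rw [hw, map_mul, (ha _ P₀.2).val_sum hj₁', one_mul, ht]
  have hlead : P₀.1.1 (∑ j, w j) = exp (-((j₁ : ℕ) : ℤ)) := by
    rw [← Finset.add_sum_erase _ w (Finset.mem_univ j₁), Valuation.map_add_eq_of_lt_left]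
    · exact hv1
    · rw [hv1]
      refine Valuation.map_sum_lt _ exp_ne_zero fun j hj => ?_
      by_cases hcj : c j = 0
      · simp [w, hcj]
      · have hle : j₁ ≤ j := hmin j (by simp [J, hcj])
        have hne : j ≠ j₁ := (Finset.mem_erase.mp hj).1
        rw [hw, map_mul, ht, (ha _ P₀.2).val_sum hcj, one_mul, exp_lt_exp]
        have : (j₁ : ℕ) < j := lt_of_le_of_ne hle (Fin.val_ne_iff.mpr hne.symm)
        omega
  have hsmall : P₀.1.1 (∑ j, w j) ≤ exp (-(M P₀.1)) := by
    let g : ((P : S) × (Fin (e P.1) × Fin (m P.1))) → K := fun q =>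
      if P₀.1 = q.1.1 then (p q).coeff 0 • (a q.1.1 q.2.2 * t q.1.1 q.2.1) else 0
    have hg : ∑ q, g q = ∑ j, w j := by
      rw [Fintype.sum_sigma, Finset.sum_eq_single P₀]
      · simp only [g, if_true, w, c]
        rw [← Fintype.sum_prod_type' (fun j i => (p ⟨P₀, j, i⟩).coeff 0 • (a P₀.1 i * t P₀.1 j))]
      · intro b _ hb
        simp [g, Ne.symm hb]
      · simp
    rw [← hg, ← sub_zero (∑ q, g q), ← hp, ← Finset.sum_sub_distrib]
    refine Valuation.map_sum_le _ fun q _ => ?_
    have hdec : aeval x (p q) = x * aeval x (p q).divX + algebraMap k K ((p q).coeff 0) := by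
      conv_lhs => rw [← X_mul_divX_add (p q), map_add, map_mul, aeval_X, aeval_C]
    have hgq : g q = algebraMap k K ((p q).coeff 0) *
        (if P₀.1 = q.1.1 then a q.1.1 q.2.2 * t q.1.1 q.2.1 else 0) := by
      simp [g, Algebra.smul_def]
    rw [hgq, hdec, show ∀ A T X Z : K, A * T - (X + A) * Z = -(A * (Z - T)) + -(X * Z) by
      intros; ring]
    refine (P₀.1.1.map_add _ _).trans (max_le ?_ ?_) <;> rw [Valuation.map_neg, map_mul]
    · exact (mul_le_of_le_one_left' (P₀.1.2.1 _)).trans (hz q P₀.1 P₀.2)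
    · rw [map_mul, mul_assoc]
      refine (mul_le_of_le_one_right' (mul_le_one' ?_ (hzle q _ P₀.2))).trans (he _ P₀.2)
      exact val_aeval_le_one P₀.1.2.1 (hxlt _ P₀.2) _
  rw [hlead, exp_le_exp] at hsmall
  have := j₁.2
  simp [M] at hsmall
  omega

variable (hF : IsFF k K)
include hF

theorem residue_finite (P : Place k K) : FiniteDimensional k (Res P) := by
  obtain ⟨t, ht0, ht⟩ := exists_unif P
  have htlt : P.1 t ≠ 1 := by rw [ht, ne_eq, exp_eq_one]; omega
  have hx := transcendental_of_val_ne_one P ht0 htlt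
  have := hF.finite_adjoin hx
  classical
  refine Module.rank_lt_aleph0_iff.mp (lt_of_le_of_lt (rank_le (n := Module.finrank k⟮t⟯ K) ?_)
    Cardinal.natCast_lt_aleph0)
  intro s hs
  choose a ha using fun i : s => IsLocalRing.residue_surjective (i : Res P)
  have hind : LinearIndependent k (fun i : Fin s.card =>
      IsLocalRing.residue P.O (a (s.equivFin.symm i))) := by
    simp only [ha]; exact hs.comp _ s.equivFin.symm.injective
  have := sum_ord_mul_card_le (k := k) (K := K) {P} hx (fun _ => 1) (by simp [ht])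
    (by simp) (fun Q => if Q = P then s.card else 0)
    (fun Q i => if h : Q = P then (a (s.equivFin.symm (i.cast (by simp [h]))) : K) else 0)
    (by
      intro Q hQ
      obtain rfl := Finset.mem_singleton.mp hQ
      have := resIndep_of_residue Q _ hind
      refine ⟨fun i => by simp only [↓reduceDIte]; exact (a _).2, fun c hc => ?_⟩
      have h2 := this.2 (fun i => c (i.cast (by simp))) (by
        refine lt_of_eq_of_lt ?_ hc
        congr 1
        exact Fintype.sum_equiv (finCongr (by simp)) _ _ fun i => by simp)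
      funext i
      simpa using congrFun h2 (i.cast (by simp)))
  simpa using this

theorem deg_pos (P : Place k K) : 0 < P.deg :=
  have := residue_finite hF P
  Module.finrank_pos

theorem sum_ord_deg_le (S : Finset (Place k K)) {x : K} (hx : Transcendental k x)
    (hS : ∀ P ∈ S, P.1 x < 1) :
    ∑ P ∈ S, P.ord x * (P.deg : ℤ) ≤ Module.finrank k⟮x⟯ K := by
  have := hF.finite_adjoin hx
  have hx0 : x ≠ 0 := fun e => hx (e ▸ isAlgebraic_zero)
  have hfin := residue_finite hF
  choose a ha using fun (P : Place k K) (i : Fin P.deg) =>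
    IsLocalRing.residue_surjective ((Module.finBasis k (Res P)) i)
  have h := sum_ord_mul_card_le S hx (fun P => (P.ord x).toNat)
    (fun P hP => by
      have := (val_lt_one_iff P hx0).mp (hS P hP)
      rw [val_eq_exp P hx0, exp_le_exp]; omega)
    (fun P hP => by have := (val_lt_one_iff P hx0).mp (hS P hP); omega)
    (fun P => P.deg) (fun P i => (a P i : K))
    (fun P _ => resIndep_of_residue P _ (by
      simp only [ha]; exact (Module.finBasis k (Res P)).linearIndependent))
  refine le_trans (le_of_eq ?_) (Int.ofNat_le.mpr h)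
  push_cast
  exact Finset.sum_congr rfl fun P hP => by
    rw [Int.toNat_of_nonneg ((val_lt_one_iff P hx0).mp (hS P hP)).le]

theorem finite_zeros {x : K} (hx : Transcendental k x) :
    {P : Place k K | P.1 x < 1}.Finite := by
  by_contra h
  obtain ⟨S, hS, hcard⟩ := Set.Infinite.exists_subset_card_eq h (Module.finrank k⟮x⟯ K + 1)
  have h1 := sum_ord_deg_le hF S hx fun P hP => hS hP
  have hx0 : x ≠ 0 := fun e => hx (e ▸ isAlgebraic_zero)
  have : (S.card : ℤ) ≤ ∑ P ∈ S, P.ord x * (P.deg : ℤ) := by
    rw [Finset.card_eq_sum_ones, Nat.cast_sum]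
    refine Finset.sum_le_sum fun P hP => ?_
    have := (val_lt_one_iff P hx0).mp (hS hP)
    have := deg_pos hF P
    push_cast
    nlinarith
  omega

theorem finite_support_ord (x : K) : (Function.support fun P : Place k K => P.ord x).Finite := by
  rcases eq_or_ne x 0 with rfl | hx0
  · simp
  by_cases hx : Transcendental k x
  · have hx' : Transcendental k x⁻¹ := fun h => hx (by simpa using h.inv)
    refine ((finite_zeros hF hx).union (finite_zeros hF hx')).subset fun P hP => ?_
    simp only [Function.mem_support] at hP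
    rcases lt_or_gt_of_ne hP with h | h
    · right; exact (val_lt_one_iff P (inv_ne_zero hx0)).mpr (by rw [ord_inv]; omega)
    · left; exact (val_lt_one_iff P hx0).mpr h
  · convert Set.finite_empty
    ext P
    simp only [Function.mem_support, ne_eq, Set.mem_empty_iff_false, iff_false, not_not]
    by_contra h
    exact hx (transcendental_of_val_ne_one P hx0 (by rw [val_eq_exp P hx0, ne_eq, exp_eq_one]; omega))

theorem div_apply (x : K) (P : Place k K) : FunFld.div k x P = P.ord x := by
  rw [FunFld.div, dif_pos (finite_support_ord hF x)]; rfl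

theorem div_eq_zero_of_algebraic {x : K} (hx : IsAlgebraic k x) : FunFld.div k x = 0 := by
  ext P
  rw [div_apply hF]
  by_contra h
  have hx0 : x ≠ 0 := fun e => h (by simp [e])
  exact transcendental_of_val_ne_one P hx0 (by
    rw [val_eq_exp P hx0, ne_eq, exp_eq_one]; simpa using h) hx

end Groth.Agent.FFLib
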