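import Groth.Agent.FFLib.PlaneGenus
import Mathlib.RingTheory.MvPolynomial.Homogeneous
import Mathlib.RingTheory.KrullDimension.Polynomial
import Mathlib.RingTheory.Jacobson.Ring
import Mathlib.RingTheory.KrullDimension.Field
import Mathlib.Algebra.MvPolynomial.NoZeroDivisors
import Mathlib.LinearAlgebra.Dimension.OrzechProperty
import Mathlib.RingTheory.UniqueFactorizationDomain.Ideal

/-! The equation of a plane model. -/

namespace Groth.Agent.FFLib

open FunFld IntermediateField

variable {k K : Type*} [Field k] [Field K] [Algebra k K]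

/-- The exponent of the monomial `X ^ b * Y ^ c`. -/
noncomputable def planeExp {n : ℕ} (p : Σ c : Fin (n + 1), Fin (n + 1 - c)) : Fin 2 →₀ ℕ :=
  Finsupp.single 0 (p.2 : ℕ) + Finsupp.single 1 (p.1 : ℕ)

/-- The monomials of degree at most `n` in two elements. -/
def planeMono (x y : K) (n : ℕ) (p : Σ c : Fin (n + 1), Fin (n + 1 - c)) : K :=
  x ^ (p.2 : ℕ) * y ^ (p.1 : ℕ)

theorem planeExp_injective {n : ℕ} : Function.Injective (planeExp (n := n)) := by
  rintro ⟨c, b⟩ ⟨c', b'⟩ h
  have h0 := DFunLike.congr_fun h 0
  have h1 := DFunLike.congr_fun h 1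
  simp [planeExp] at h0 h1
  obtain rfl : c = c' := Fin.ext h1
  obtain rfl : b = b' := Fin.ext h0
  rfl

theorem aeval_monomial_planeExp (x y : K) {n : ℕ} (p : Σ c : Fin (n + 1), Fin (n + 1 - c)) (a : k) :
    MvPolynomial.aeval ![x, y] (MvPolynomial.monomial (planeExp p) a) = a • planeMono x y n p := by
  rw [MvPolynomial.aeval_monomial, Algebra.smul_def]
  congr 1
  rw [planeExp, Finsupp.prod_add_index' (by simp) (by intros; simp [pow_add]),
    Finsupp.prod_single_index (by simp), Finsupp.prod_single_index (by simp)]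
  simp [planeMono]

/-- Relations among monomials are polynomial relations of bounded degree. -/
theorem exists_poly_of_not_li {x y : K} {n : ℕ} (h : ¬ LinearIndependent k (planeMono x y n)) :
    ∃ G : MvPolynomial (Fin 2) k, G ≠ 0 ∧ G.totalDegree ≤ n ∧ MvPolynomial.aeval ![x, y] G = 0 := by
  classical
  rw [Fintype.not_linearIndependent_iff] at h
  obtain ⟨a, ha, i, hi⟩ := h
  refine ⟨∑ p, MvPolynomial.monomial (planeExp p) (a p), fun h0 => hi ?_, ?_, ?_⟩
  · have := congrArg (MvPolynomial.coeff (planeExp i)) h0
    rw [MvPolynomial.coeff_sum, MvPolynomial.coeff_zero,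
      Finset.sum_eq_single i (fun p _ hp => by
        rw [MvPolynomial.coeff_monomial, if_neg fun e => hp (planeExp_injective e)]) (by simp),
      MvPolynomial.coeff_monomial, if_pos rfl] at this
    exact this
  · refine MvPolynomial.totalDegree_finsetSum_le fun p _ => ?_
    rcases eq_or_ne (a p) 0 with h0 | h0
    · simp [h0]
    rw [MvPolynomial.totalDegree_monomial _ h0]
    have := p.2.2
    rw [Finsupp.sum_fintype _ _ (fun _ => rfl), Fin.sum_univ_two]
    simp [planeExp]
    omega
  · simp only [map_sum, aeval_monomial_planeExp]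
    exact ha

theorem not_li_of_poly {x y : K} {n : ℕ} {G : MvPolynomial (Fin 2) k} (hG : G ≠ 0)
    (hn : G.totalDegree ≤ n) (h : MvPolynomial.aeval ![x, y] G = 0) :
    ¬ LinearIndependent k (planeMono x y n) := by
  classical
  intro hli
  have hsub : G.support ⊆ Finset.univ.image (planeExp (n := n)) := by
    intro d hd
    have hle := (MvPolynomial.le_totalDegree hd).trans hn
    rw [Finsupp.sum_fintype _ _ (fun _ => rfl), Fin.sum_univ_two] at hle
    refine Finset.mem_image.mpr ⟨⟨⟨d 1, by omega⟩, ⟨d 0, by show d 0 < n + 1 - d 1; omega⟩⟩,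
      Finset.mem_univ _, ?_⟩
    ext i
    fin_cases i <;> simp [planeExp]
  have hsum : ∑ p, MvPolynomial.coeff (planeExp p) G • planeMono x y n p = 0 := by
    rw [← h]
    conv_rhs => rw [G.as_sum]
    rw [map_sum, Finset.sum_subset hsub (fun d _ hd => by
      rw [MvPolynomial.notMem_support_iff.mp hd, map_zero, map_zero]),
      Finset.sum_image planeExp_injective.injOn]
    simp only [aeval_monomial_planeExp]
  obtain ⟨d, hd⟩ := Finset.nonempty_of_ne_empty
    (fun e => hG (MvPolynomial.support_eq_empty.mp e) : G.support ≠ ∅)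
  obtain ⟨p, -, rfl⟩ := Finset.mem_image.mp (hsub hd)
  exact MvPolynomial.mem_support_iff.mp hd (Fintype.linearIndependent_iff.mp hli _ hsum p)

theorem pow_span_one_pair (x y : K) (n : ℕ) :
    (Submodule.span k (Set.range ![(1 : K), x, y])) ^ n =
      Submodule.span k (Set.range (planeMono x y n)) := by
  set V := Submodule.span k (Set.range ![(1 : K), x, y])
  have h1 : (1 : K) ∈ V := Submodule.subset_span ⟨0, rfl⟩
  have hx : x ∈ V := Submodule.subset_span ⟨1, rfl⟩
  have hy : y ∈ V := Submodule.subset_span ⟨2, rfl⟩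
  refine le_antisymm ?_ (Submodule.span_le.mpr ?_)
  · induction n with
    | zero =>
      rw [Submodule.pow_zero, Submodule.one_le]
      refine Submodule.subset_span ⟨⟨0, ⟨0, by simp⟩⟩, ?_⟩
      simp [planeMono]
    | succ n ih =>
      rw [pow_succ']
      refine le_trans (mul_le_mul' le_rfl ih) ?_
      rw [Submodule.span_mul_span, Submodule.span_le]
      rintro _ ⟨z, ⟨i, rfl⟩, _, ⟨⟨c, b⟩, rfl⟩, rfl⟩
      have hb := b.2
      have hc := c.2
      fin_cases i
      · exact Submodule.subset_span ⟨⟨⟨c, by omega⟩, ⟨b, by show (b : ℕ) < _ - (c : ℕ); omega⟩⟩,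
          by simp [planeMono]⟩
      · exact Submodule.subset_span ⟨⟨⟨c, by omega⟩, ⟨b + 1, by show (b : ℕ) + 1 < _ - (c : ℕ); omega⟩⟩,
          by simp [planeMono]; ring⟩
      · exact Submodule.subset_span ⟨⟨⟨c + 1, by omega⟩, ⟨b, by show (b : ℕ) < _ - ((c : ℕ) + 1); omega⟩⟩,
          by simp [planeMono]; ring⟩
  · rintro _ ⟨⟨c, b⟩, rfl⟩
    have hb := b.2
    have := Submodule.mul_mem_mul (Submodule.mul_mem_mul (Submodule.pow_mem_pow V hx (b : ℕ))
      (Submodule.pow_mem_pow V hy (c : ℕ))) (Submodule.pow_mem_pow V h1 (n - b - c))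
    rw [← pow_add, ← pow_add, one_pow, mul_one,
      show (b : ℕ) + c + (n - b - c) = n by omega] at this
    exact this

variable (hK : IsFunctionField k K)
include hK

variable [IsAlgClosed k]

theorem not_li_deg {x y : K} (hxy : IntermediateField.adjoin k ({x, y} : Set K) = ⊤) :
    ¬ LinearIndependent k (planeMono x y (FunFld.mapDiv k ![(1 : K), x, y]).deg.toNat) := by
  classical
  obtain ⟨hd, s, t, u, C⟩ := exists_chart hK hxy
  set d := (FunFld.mapDiv k ![(1 : K), x, y]).deg.toNat
  intro hli
  have h1 := finrank_span_eq_card hli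
  rw [← pow_span_one_pair, C.pow_eq hK hd d] at h1
  have h2 := finrank_range_le_card (R := k)
    (fun p : Σ c : Fin d, Fin (d + 1 - c) => s ^ (d - p.1 - p.2) * t ^ (p.2 : ℕ) * u ^ (p.1 : ℕ))
  rw [Set.finrank] at h2
  rw [h1, Fintype.card_sigma, Fintype.card_sigma, Fin.sum_univ_castSucc] at h2
  simp at h2

theorem li_of_lt {x y : K} (hxy : IntermediateField.adjoin k ({x, y} : Set K) = ⊤) {n : ℕ}
    (hn : n < (FunFld.mapDiv k ![(1 : K), x, y]).deg.toNat) :
    LinearIndependent k (planeMono x y n) := by
  classical
  obtain ⟨hd, s, t, u, C⟩ := exists_chart hK hxy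
  let e : (Σ c : Fin (n + 1), Fin (n + 1 - c)) →
      Σ c : Fin (FunFld.mapDiv k ![(1 : K), x, y]).deg.toNat, Fin (n + 1 - c) :=
    fun p => ⟨⟨p.1, lt_of_le_of_lt (Nat.lt_succ_iff.mp p.1.2) hn⟩, p.2⟩
  have he : Function.Injective e := by
    rintro ⟨c, b⟩ ⟨c', b'⟩ h
    simp [e] at h
    obtain ⟨h1, h2⟩ := h
    obtain rfl : c = c' := Fin.ext h1
    rw [eq_of_heq h2]
  have hli := (C.indep hK hd n).comp e he
  rw [linearIndependent_iff_card_le_finrank_span]
  rw [Set.finrank, ← pow_span_one_pair]
  have : FiniteDimensional k ↥((Submodule.span k (Set.range ![(1 : K), x, y])) ^ n) := by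
    rw [pow_span_one_pair]; exact FiniteDimensional.span_of_finite k (Set.finite_range _)
  rw [← finrank_span_eq_card hli]
  refine Submodule.finrank_mono ((Submodule.span_mono (Set.range_comp_subset_range _ _)).trans ?_)
  exact C.range_le _ n

omit [IsAlgClosed k] in
theorem exists_transcendental_of_adjoin {x y : K}
    (hxy : IntermediateField.adjoin k ({x, y} : Set K) = ⊤) :
    Transcendental k x ∨ Transcendental k y := by
  by_contra! hall
  obtain ⟨z, hz, -⟩ := hK.1
  have : IntermediateField.adjoin k ({x, y} : Set K) ≤ ⊥ := by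
    rw [adjoin_le_iff]
    intro w hw
    refine IntermediateField.mem_bot.mpr (hK.2 _ ?_)
    rcases hw with rfl | rfl
    · exact not_not.mp hall.1
    · exact not_not.mp hall.2
  obtain ⟨c, hc⟩ := IntermediateField.mem_bot.mp (this (hxy.ge (IntermediateField.mem_top (x := z))))
  exact hz (hc ▸ isAlgebraic_algebraMap c)

omit hK [IsAlgClosed k] in
/-- A maximal kernel of evaluation makes all values algebraic. -/
theorem isAlgebraic_of_ker_isMaximal {σ : Type*} [Finite σ] (v : σ → K)
    (h : (RingHom.ker (MvPolynomial.aeval (R := k) v)).IsMaximal) (i : σ) :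
    IsAlgebraic k (v i) := by
  set I := RingHom.ker (MvPolynomial.aeval (R := k) v)
  letI := Ideal.Quotient.field I
  have : Module.Finite k (MvPolynomial σ k ⧸ I) := finite_of_finite_type_of_isJacobsonRing k _
  let f : MvPolynomial σ k ⧸ I →ₐ[k] K :=
    Ideal.Quotient.liftₐ I (MvPolynomial.aeval v) (fun a ha => ha)
  have := ((IsIntegral.of_finite k (Ideal.Quotient.mk I (MvPolynomial.X i))).map f).isAlgebraic
  rwa [show f (Ideal.Quotient.mk I (MvPolynomial.X i)) = v i from MvPolynomial.aeval_X v i] at this

/-- The ideal of relations of a plane model is generated by any irreducible relation. -/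
theorem ker_eq_span {x y : K} (hxy : IntermediateField.adjoin k ({x, y} : Set K) = ⊤)
    {f : MvPolynomial (Fin 2) k} (hf : Irreducible f) (h0 : MvPolynomial.aeval ![x, y] f = 0) :
    RingHom.ker (MvPolynomial.aeval (R := k) ![x, y]) = Ideal.span {f} := by
  set P := RingHom.ker (MvPolynomial.aeval (R := k) ![x, y]) with hP
  have hPp : P.IsPrime := RingHom.ker_isPrime _
  have hfp : (Ideal.span {f}).IsPrime :=
    (Ideal.span_singleton_prime hf.ne_zero).mpr (UniqueFactorizationMonoid.irreducible_iff_prime.mp hf)
  have hle : Ideal.span {f} ≤ P := (Ideal.span_singleton_le_iff_mem _).mpr h0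
  refine (hle.lt_or_eq.resolve_left fun hlt => ?_).symm
  obtain ⟨M, hM, hPM⟩ := Ideal.exists_le_maximal P hPp.ne_top
  have hne : P ≠ M := fun e => by
    have hmax : P.IsMaximal := e ▸ hM
    rcases exists_transcendental_of_adjoin hK hxy with h | h
    · exact h (isAlgebraic_of_ker_isMaximal ![x, y] hmax 0)
    · exact h (isAlgebraic_of_ker_isMaximal ![x, y] hmax 1)
  have hbot : (⊥ : Ideal (MvPolynomial (Fin 2) k)) < Ideal.span {f} := by
    rw [bot_lt_iff_ne_bot, Ne, Ideal.span_singleton_eq_bot]; exact hf.ne_zero
  have e1 := Ideal.height_strict_mono_of_isPrime hbot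
  have e2 := Ideal.height_strict_mono_of_isPrime hlt
  have e3 := Ideal.height_strict_mono_of_isPrime (lt_of_le_of_ne hPM hne)
  have e4 := Ideal.height_le_ringKrullDim_of_ne_top hM.ne_top
  rw [MvPolynomial.ringKrullDim_of_isNoetherianRing, ringKrullDim_eq_zero_of_field, zero_add,
    Nat.card_eq_fintype_card, Fintype.card_fin] at e4
  have e5 : M.height ≤ 2 := WithBot.coe_le_coe.mp (e4.trans (le_of_eq rfl))
  cases hM' : M.height with
  | top => rw [hM'] at e5; simp at e5
  | coe a =>
    rw [hM'] at e3 e5
    cases hP' : P.height with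
    | top => rw [hP'] at e3; simp at e3
    | coe b =>
      rw [hP'] at e2 e3
      cases hF : (Ideal.span {f}).height with
      | top => rw [hF] at e2; simp at e2
      | coe c =>
        rw [hF] at e1 e2
        have q1 : 0 < c := by exact_mod_cast pos_of_gt e1
        have q2 : c < b := by exact_mod_cast e2
        have q3 : b < a := by exact_mod_cast e3
        have q4 : a ≤ 2 := by exact_mod_cast e5
        omega

/-- The degree of a plane model is the degree of its equation. -/
theorem deg_eq_totalDegree {x y : K} (hxy : IntermediateField.adjoin k ({x, y} : Set K) = ⊤)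
    {f : MvPolynomial (Fin 2) k} (hf : Irreducible f) (h0 : MvPolynomial.aeval ![x, y] f = 0) :
    (FunFld.mapDiv k ![(1 : K), x, y]).deg = f.totalDegree := by
  obtain ⟨hd, -⟩ := exists_chart hK hxy
  obtain ⟨G, hG, hGd, hG0⟩ := exists_poly_of_not_li (not_li_deg hK hxy)
  have hmem : G ∈ RingHom.ker (MvPolynomial.aeval (R := k) ![x, y]) := hG0
  rw [ker_eq_span hK hxy hf h0, Ideal.mem_span_singleton] at hmem
  obtain ⟨c, rfl⟩ := hmem
  rw [MvPolynomial.totalDegree_mul_of_isDomain hf.ne_zero (right_ne_zero_of_mul hG)] at hGd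
  by_contra hne
  exact not_li_of_poly hf.ne_zero le_rfl h0 (li_of_lt hK hxy (by omega))

/-- The homogeneous ideal of a plane model is generated by an irreducible form. -/
theorem exists_homogeneous_equation {x y : K}
    (hxy : IntermediateField.adjoin k ({x, y} : Set K) = ⊤) :
    ∃ F : MvPolynomial (Fin 3) k, Irreducible F ∧ F.IsHomogeneous F.totalDegree ∧
      RingHom.ker (MvPolynomial.aeval
        fun i => Polynomial.C (![(1 : K), x, y] i) * Polynomial.X) = Ideal.span {F} := by
  classical
  set v : Fin 3 → K := ![(1 : K), x, y] with hv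
  set φ : MvPolynomial (Fin 3) k →ₐ[k] Polynomial K :=
    MvPolynomial.aeval fun i => Polynomial.C (v i) * Polynomial.X with hφ
  have hhom : ∀ (i : ℕ) (g : MvPolynomial (Fin 3) k), g.IsHomogeneous i →
      φ g = Polynomial.C (MvPolynomial.aeval v g) * Polynomial.X ^ i := by
    intro i g hg
    simp only [φ, MvPolynomial.aeval_def, MvPolynomial.eval₂_eq, map_sum, Finset.sum_mul, map_mul,
      map_prod, map_pow]
    refine Finset.sum_congr rfl fun d hd => ?_
    simp only [mul_pow, Finset.prod_mul_distrib, Finset.prod_pow_eq_pow_sum]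
    rw [show ∑ j ∈ d.support, d j = i from (hg.degree_eq_sum_deg_support hd).symm, mul_assoc]
    rfl
  have hcoeff : ∀ (g : MvPolynomial (Fin 3) k) (i : ℕ),
      (φ g).coeff i = MvPolynomial.aeval v (MvPolynomial.homogeneousComponent i g) := by
    intro g i
    conv_lhs => rw [← MvPolynomial.sum_homogeneousComponent g]
    rw [map_sum, Polynomial.finsetSum_coeff]
    simp only [fun j => hhom j _ (MvPolynomial.homogeneousComponent_isHomogeneous j g),
      Polynomial.coeff_C_mul, Polynomial.coeff_X_pow, mul_ite, mul_one, mul_zero]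
    rw [Finset.sum_ite_eq]
    split_ifs with h
    · rfl
    · rw [Finset.mem_range, not_lt] at h
      rw [MvPolynomial.homogeneousComponent_eq_zero i g (by omega), map_zero]
  set J := RingHom.ker φ with hJ
  have hJp : J.IsPrime := RingHom.ker_isPrime _
  have hcomp : ∀ g ∈ J, ∀ i, MvPolynomial.homogeneousComponent i g ∈ J := by
    intro g hg i
    show φ _ = 0
    rw [hhom i _ (MvPolynomial.homogeneousComponent_isHomogeneous i g), ← hcoeff,
      show φ g = 0 from hg, Polynomial.coeff_zero, map_zero, zero_mul]
  -- homogenisation of a relation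
  obtain ⟨g, hg, -, hg0⟩ := exists_poly_of_not_li (not_li_deg hK hxy)
  set N := g.totalDegree
  set H : MvPolynomial (Fin 3) k := ∑ i ∈ Finset.range (N + 1),
    MvPolynomial.X 0 ^ (N - i) * MvPolynomial.rename Fin.succ (MvPolynomial.homogeneousComponent i g)
    with hH
  have hHh : H.IsHomogeneous N := by
    refine MvPolynomial.IsHomogeneous.sum _ _ _ fun i hi => ?_
    have := ((MvPolynomial.isHomogeneous_X k (0 : Fin 3)).pow (N - i)).mul
      ((MvPolynomial.homogeneousComponent_isHomogeneous i g).rename_isHomogeneous (f := Fin.succ))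
    rwa [one_mul, Nat.sub_add_cancel (Nat.lt_succ_iff.mp (Finset.mem_range.mp hi))] at this
  have hHv : MvPolynomial.aeval v H = 0 := by
    rw [← hg0]
    conv_rhs => rw [← MvPolynomial.sum_homogeneousComponent g]
    simp only [H, map_sum, map_mul, map_pow, MvPolynomial.aeval_X, MvPolynomial.aeval_rename]
    simp [v, Function.comp_def, N]
  have hH0 : H ≠ 0 := by
    intro e
    apply hg
    have : MvPolynomial.aeval ![(1 : MvPolynomial (Fin 2) k), MvPolynomial.X 0, MvPolynomial.X 1] H =
        g := by
      conv_rhs => rw [← MvPolynomial.sum_homogeneousComponent g]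
      simp only [H, map_sum, map_mul, map_pow, MvPolynomial.aeval_X, MvPolynomial.aeval_rename]
      refine Finset.sum_congr rfl fun i _ => ?_
      rw [show (![(1 : MvPolynomial (Fin 2) k), MvPolynomial.X 0, MvPolynomial.X 1] ∘ Fin.succ) =
        MvPolynomial.X by funext j; fin_cases j <;> rfl]
      simp
    rw [← this, e, map_zero]
  have hJne : J ≠ ⊥ := fun e => hH0 (by
    have : H ∈ J := by
      show φ H = 0
      rw [hhom N H hHh, hHv, map_zero, zero_mul]
    simpa [e] using this)
  obtain ⟨F, hFJ, hFp⟩ := hJp.exists_mem_prime_of_ne_bot hJne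
  have hFspan : (Ideal.span {F}).IsPrime := (Ideal.span_singleton_prime hFp.ne_zero).mpr hFp
  have heq : J = Ideal.span {F} := by
    refine ((((Ideal.span_singleton_le_iff_mem _).mpr hFJ).lt_or_eq).resolve_left fun hlt => ?_).symm
    set J0 := RingHom.ker (MvPolynomial.aeval (R := k) v) with hJ0
    have hJ0p : J0.IsPrime := RingHom.ker_isPrime _
    have hJlt : J < J0 := by
      refine lt_of_le_of_ne (fun a ha => ?_) fun e => ?_
      · have : ((Polynomial.aeval (1 : K)).restrictScalars k).comp φ = MvPolynomial.aeval v := by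
          refine MvPolynomial.algHom_ext fun i => ?_
          simp [φ]
        show MvPolynomial.aeval v a = 0
        rw [← this, AlgHom.comp_apply, show φ a = 0 from ha, map_zero]
      · have h1 : MvPolynomial.X 0 - 1 ∈ J0 := by
          show MvPolynomial.aeval v (MvPolynomial.X 0 - 1) = 0
          simp [v]
        rw [← e] at h1
        have h2 : φ (MvPolynomial.X 0 - 1) = 0 := h1
        have h3 := congrArg (Polynomial.coeff · 0) h2
        simp [φ] at h3
    obtain ⟨M, hM, hPM⟩ := Ideal.exists_le_maximal J0 hJ0p.ne_top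
    have hne : J0 ≠ M := fun e => by
      have hmax : J0.IsMaximal := e ▸ hM
      rcases exists_transcendental_of_adjoin hK hxy with h | h
      · exact h (isAlgebraic_of_ker_isMaximal v hmax 1)
      · exact h (isAlgebraic_of_ker_isMaximal v hmax 2)
    have hbot : (⊥ : Ideal (MvPolynomial (Fin 3) k)) < Ideal.span {F} := by
      rw [bot_lt_iff_ne_bot, Ne, Ideal.span_singleton_eq_bot]; exact hFp.ne_zero
    have e1 := Ideal.height_strict_mono_of_isPrime hbot
    have e2 := Ideal.height_strict_mono_of_isPrime hlt
    have e2' := Ideal.height_strict_mono_of_isPrime hJlt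
    have e3 := Ideal.height_strict_mono_of_isPrime (lt_of_le_of_ne hPM hne)
    have e4 := Ideal.height_le_ringKrullDim_of_ne_top hM.ne_top
    rw [MvPolynomial.ringKrullDim_of_isNoetherianRing, ringKrullDim_eq_zero_of_field, zero_add,
      Nat.card_eq_fintype_card, Fintype.card_fin] at e4
    have e5 : M.height ≤ 3 := WithBot.coe_le_coe.mp (e4.trans (le_of_eq rfl))
    cases hM' : M.height with
    | top => rw [hM'] at e5; simp at e5
    | coe a =>
      rw [hM'] at e3 e5
      cases hP' : J0.height with
      | top => rw [hP'] at e3; simp at e3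
      | coe b =>
        rw [hP'] at e2' e3
        cases hJ' : J.height with
        | top => rw [hJ'] at e2'; simp at e2'
        | coe j =>
          rw [hJ'] at e2 e2'
          cases hF : (Ideal.span {F}).height with
          | top => rw [hF] at e2; simp at e2
          | coe c =>
            rw [hF] at e1 e2
            have q1 : 0 < c := by exact_mod_cast pos_of_gt e1
            have q2 : c < j := by exact_mod_cast e2
            have q2' : j < b := by exact_mod_cast e2'
            have q3 : b < a := by exact_mod_cast e3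
            have q4 : a ≤ 3 := by exact_mod_cast e5
            omega
  refine ⟨F, hFp.irreducible, ?_, heq⟩
  have hsum := MvPolynomial.sum_homogeneousComponent F
  have hz : ∀ j, j ≠ F.totalDegree → MvPolynomial.homogeneousComponent j F = 0 := by
    intro j hne
    by_contra h0
    have hlt : j < F.totalDegree := by
      rcases lt_or_gt_of_ne hne with h' | h'
      · exact h'
      · exact absurd (MvPolynomial.homogeneousComponent_eq_zero j F h') h0
    have hmem := hcomp F hFJ j
    rw [heq, Ideal.mem_span_singleton] at hmem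
    obtain ⟨c, hc⟩ := hmem
    have hdeg := (MvPolynomial.homogeneousComponent_isHomogeneous j F).totalDegree h0
    rw [hc, MvPolynomial.totalDegree_mul_of_isDomain hFp.ne_zero
      (fun h' => h0 (by rw [hc, h', mul_zero]))] at hdeg
    omega
  rw [Finset.sum_eq_single_of_mem F.totalDegree (by simp) fun j _ hne => hz j hne] at hsum
  have h' := MvPolynomial.homogeneousComponent_isHomogeneous F.totalDegree F
  rwa [hsum] at h'

end Groth.Agent.FFLib
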