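import Groth.Agent.FFLib.Geometric
import Groth.Agent.FFLib.PlaneRel
import Mathlib.RingTheory.TensorProduct.MvPolynomial
import Mathlib.RingTheory.Flat.Basic
import Mathlib.RingTheory.AlgebraicIndependent.Transcendental

/-! Plane models and absolute irreducibility. -/

namespace Groth.Agent.FFLib

open FunFld IntermediateField TensorProduct

universe u v

noncomputable section

variable {k : Type u} {K : Type v} [Field k] [Field K] [Algebra k K]

section Tensor

variable {σ : Type*} (x : σ → K) {f : MvPolynomial σ k} (k' : Type u) [Field k'] [Algebra k k']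

/-- Evaluation after extension of scalars. -/
def evalExt : MvPolynomial σ k' →ₐ[k'] k' ⊗[k] K := MvPolynomial.aeval fun i => 1 ⊗ₜ x i

theorem evalExt_eq (z : k' ⊗[k] MvPolynomial σ k) :
    evalExt (k := k) x k' (MvPolynomial.algebraTensorAlgEquiv k k' z) = (MvPolynomial.aeval x).toLinearMap.lTensor k' z := by
  have h : (evalExt (k := k) x k').comp (MvPolynomial.algebraTensorAlgEquiv k k').toAlgHom =
      Algebra.TensorProduct.map (AlgHom.id k' k') (MvPolynomial.aeval x) := by
    refine Algebra.TensorProduct.ext (AlgHom.ext fun c => ?_) (MvPolynomial.algHom_ext fun i => ?_)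
    · simp [evalExt, MvPolynomial.algebraTensorAlgEquiv_tmul, Algebra.TensorProduct.one_def, TensorProduct.smul_tmul']
    · simp [evalExt, MvPolynomial.algebraTensorAlgEquiv_tmul, Algebra.TensorProduct.one_def, TensorProduct.smul_tmul']
  rw [← AlgEquiv.coe_toAlgHom, ← AlgHom.comp_apply, h]
  rfl

theorem ker_evalExt (hker : RingHom.ker (MvPolynomial.aeval (R := k) x) = Ideal.span {f}) :
    RingHom.ker (evalExt (k := k) x k') = Ideal.span {MvPolynomial.map (algebraMap k k') f} := by
  refine le_antisymm (fun p hp => ?_) ((Ideal.span_singleton_le_iff_mem _).mpr ?_)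
  · obtain ⟨z, rfl⟩ := (MvPolynomial.algebraTensorAlgEquiv k k').surjective p
    rw [RingHom.mem_ker, evalExt_eq] at hp
    have hex : Function.Exact (LinearMap.mulLeft k f) (MvPolynomial.aeval (R := k) x).toLinearMap := fun q => by
      rw [AlgHom.toLinearMap_apply, ← RingHom.mem_ker, hker, Ideal.mem_span_singleton']
      exact ⟨fun ⟨c, hc⟩ => ⟨c, by rw [← hc, LinearMap.mulLeft_apply, mul_comm]⟩,
        fun ⟨c, hc⟩ => ⟨c, by rw [← hc, LinearMap.mulLeft_apply, mul_comm]⟩⟩
    obtain ⟨w, hw⟩ := ((Module.Flat.lTensor_exact (M := k') hex) z).mp hp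
    rw [← hw]
    clear hw
    induction w using TensorProduct.induction_on with
    | zero => simp
    | tmul c q =>
      rw [LinearMap.lTensor_tmul, LinearMap.mulLeft_apply, MvPolynomial.algebraTensorAlgEquiv_tmul, map_mul]
      rw [Algebra.smul_def]
      exact Ideal.mul_mem_left _ _ (Ideal.mul_mem_right _ _ (Ideal.mem_span_singleton_self _))
    | add a b ha hb => rw [map_add, map_add]; exact add_mem ha hb
  · have h := evalExt_eq x k' ((1 : k') ⊗ₜ f)
    rw [MvPolynomial.algebraTensorAlgEquiv_tmul, one_smul, LinearMap.lTensor_tmul, AlgHom.toLinearMap_apply,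
      RingHom.mem_ker.mp (hker ▸ Ideal.mem_span_singleton_self f : f ∈ RingHom.ker (MvPolynomial.aeval (R := k) x)),
      TensorProduct.tmul_zero] at h
    rw [RingHom.mem_ker]
    exact h

theorem irreducible_map_ext (hker : RingHom.ker (MvPolynomial.aeval (R := k) x) = Ideal.span {f}) (hf : f ≠ 0)
    (h : IsField (k' ⊗[k] K)) : Irreducible (MvPolynomial.map (algebraMap k k') f) := by
  letI := h.toField
  have hne : MvPolynomial.map (algebraMap k k') f ≠ 0 :=
    (map_ne_zero_iff _ (MvPolynomial.map_injective _ (algebraMap k k').injective)).mpr hf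
  have hp : (RingHom.ker (evalExt (k := k) x k')).IsPrime := RingHom.ker_isPrime _
  rw [ker_evalExt (k := k) x k' hker, Ideal.span_singleton_prime hne] at hp
  exact hp.irreducible

theorem noZeroDivisors_ext (hker : RingHom.ker (MvPolynomial.aeval (R := k) x) = Ideal.span {f})
    (hgen : IntermediateField.adjoin k (Set.range x) = ⊤)
    (hirr : Irreducible (MvPolynomial.map (algebraMap k k') f)) : NoZeroDivisors (k' ⊗[k] K) := by
  have hprime : (RingHom.ker (evalExt (k := k) x k')).IsPrime := by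
    rw [ker_evalExt (k := k) x k' hker]
    exact (Ideal.span_singleton_prime hirr.ne_zero).mpr hirr.prime
  have hclear : ∀ z : k' ⊗[k] K, ∃ (a : K) (p : MvPolynomial σ k'), a ≠ 0 ∧ ((1 : k') ⊗ₜ a) * z = evalExt (k := k) x k' p := by
    intro z
    have hmem : ∀ y : K, ∃ (b : K) (p q : MvPolynomial σ k), b ≠ 0 ∧ MvPolynomial.aeval x q = b ∧
        b * y = MvPolynomial.aeval x p := fun y => by
      obtain ⟨r, hr, s, hs, rfl⟩ := IntermediateField.mem_adjoin_iff_div.mp
        (show y ∈ IntermediateField.adjoin k (Set.range x) by rw [hgen]; trivial)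
      rw [Algebra.adjoin_range_eq_range_aeval] at hr hs
      obtain ⟨p, rfl⟩ := hr
      obtain ⟨q, rfl⟩ := hs
      rcases eq_or_ne (MvPolynomial.aeval x q) 0 with h0 | h0
      · exact ⟨1, 0, 1, one_ne_zero, map_one _, by simp [h0]⟩
      · exact ⟨_, p, q, h0, rfl, mul_div_cancel₀ _ h0⟩
    induction z using TensorProduct.induction_on with
    | zero => exact ⟨1, 0, one_ne_zero, by simp⟩
    | tmul c y =>
      obtain ⟨b, p, -, hb, -, hbp⟩ := hmem y
      refine ⟨b, MvPolynomial.algebraTensorAlgEquiv k k' (c ⊗ₜ p), hb, ?_⟩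
      rw [evalExt_eq, Algebra.TensorProduct.tmul_mul_tmul, one_mul, hbp]
      rfl
    | add a b ha hb =>
      obtain ⟨a₁, p₁, ha₁, hp₁⟩ := ha
      obtain ⟨a₂, p₂, ha₂, hp₂⟩ := hb
      obtain ⟨b₁, r₁, q₁, hb₁, hq₁, -⟩ := hmem a₁
      obtain ⟨c₁, u₁, v₁, hc₁, hv₁, hu₁⟩ := hmem a₁
      obtain ⟨c₂, u₂, v₂, hc₂, hv₂, hu₂⟩ := hmem a₂
      refine ⟨(c₁ * a₁) * (c₂ * a₂),
        MvPolynomial.map (algebraMap k k') (v₁ * u₂) * p₁ + MvPolynomial.map (algebraMap k k') (u₁ * v₂) * p₂,
        mul_ne_zero (mul_ne_zero hc₁ ha₁) (mul_ne_zero hc₂ ha₂), ?_⟩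
      have hmap : ∀ q : MvPolynomial σ k, evalExt (k := k) x k' (MvPolynomial.map (algebraMap k k') q) =
          (1 : k') ⊗ₜ MvPolynomial.aeval x q := fun q => by
        have h := evalExt_eq x k' ((1 : k') ⊗ₜ q)
        rwa [MvPolynomial.algebraTensorAlgEquiv_tmul, one_smul, LinearMap.lTensor_tmul] at h
      have h2 : ∀ a b : K, (1 : k') ⊗ₜ[k] (a * b) = ((1 : k') ⊗ₜ a) * ((1 : k') ⊗ₜ b) := fun a b => by simp
      simp only [map_add, map_mul, hmap, hv₁, hv₂, ← hu₁, ← hu₂, ← hp₁, ← hp₂, h2]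
      ring
  refine ⟨fun {z w} hzw => ?_⟩
  obtain ⟨a, p, ha, hp⟩ := hclear z
  obtain ⟨b, q, hb, hq⟩ := hclear w
  have hunit : ∀ c : K, c ≠ 0 → IsUnit ((1 : k') ⊗ₜ[k] c) := fun c hc =>
    (Ne.isUnit hc).map (Algebra.TensorProduct.includeRight : K →ₐ[k] k' ⊗[k] K)
  have h0 : p * q ∈ RingHom.ker (evalExt (k := k) x k') := by
    rw [RingHom.mem_ker, map_mul, ← hp, ← hq,
      show ((1 : k') ⊗ₜ[k] a) * z * ((1 ⊗ₜ b) * w) = (1 ⊗ₜ a) * (1 ⊗ₜ b) * (z * w) by ring, hzw, mul_zero]
  rcases hprime.mem_or_mem h0 with h | h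
  · left
    rw [RingHom.mem_ker, ← hp] at h
    exact (hunit a ha).mul_right_eq_zero.mp h
  · right
    rw [RingHom.mem_ker, ← hq] at h
    exact (hunit b hb).mul_right_eq_zero.mp h

end Tensor

/-- A nonzero nonmaximal prime of the plane is principal. -/
theorem exists_principal {P : Ideal (MvPolynomial (Fin 2) k)} [hPp : P.IsPrime] (h0 : P ≠ ⊥) (hmax : ¬ P.IsMaximal) :
    ∃ f, Prime f ∧ P = Ideal.span {f} := by
  obtain ⟨f, hf, hfp⟩ := hPp.exists_mem_prime_of_ne_bot h0
  refine ⟨f, hfp, ?_⟩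
  haveI hfs : (Ideal.span {f}).IsPrime := (Ideal.span_singleton_prime hfp.ne_zero).mpr hfp
  refine ((((Ideal.span_singleton_le_iff_mem _).mpr hf).lt_or_eq).resolve_left fun hlt => ?_).symm
  obtain ⟨M, hM, hPM⟩ := Ideal.exists_le_maximal P hPp.ne_top
  have hbot : (⊥ : Ideal (MvPolynomial (Fin 2) k)) < Ideal.span {f} := by
    rw [bot_lt_iff_ne_bot, Ne, Ideal.span_singleton_eq_bot]; exact hfp.ne_zero
  have e1 := Ideal.height_strict_mono_of_isPrime hbot
  have e2 := Ideal.height_strict_mono_of_isPrime hlt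
  have e3 := Ideal.height_strict_mono_of_isPrime (lt_of_le_of_ne hPM fun e => hmax (e ▸ hM))
  have e4 := Ideal.height_le_ringKrullDim_of_ne_top hM.ne_top
  rw [MvPolynomial.ringKrullDim_of_isNoetherianRing, ringKrullDim_eq_zero_of_field, zero_add,
    Nat.card_eq_fintype_card, Fintype.card_fin] at e4
  have e5 : M.height ≤ 2 := WithBot.coe_le_coe.mp (e4.trans (le_of_eq rfl))
  cases hM' : M.height with
  | top => rw [hM'] at e5; simp at e5
  | coe a =>
    rw [hM'] at e3 e5
    cases hP' : P.height with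
    | top => rw [hP'] at e3; simp at e3
    | coe b =>
      rw [hP'] at e2 e3
      cases hF : (Ideal.span {f}).height with
      | top => rw [hF] at e2; simp at e2
      | coe c =>
        rw [hF] at e1 e2
        have q1 : 0 < c := by exact_mod_cast pos_of_gt e1
        have q2 : c < b := by exact_mod_cast e2
        have q3 : b < a := by exact_mod_cast e3
        have q4 : a ≤ 2 := by exact_mod_cast e5
        omega

/-- Two elements of a function field are algebraically dependent. -/
theorem not_algebraicIndependent_pair (hK : IsFunctionField k K) (x y : K) :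
    ¬ AlgebraicIndependent k ![x, y] := fun h => by
  obtain ⟨t, ht, hfin⟩ := hK.1
  have hb : IsTranscendenceBasis k (fun _ : Fin 1 => t) := by
    refine (AlgebraicIndependent.isTranscendenceBasis_iff_isAlgebraic
      (algebraicIndependent_unique_type_iff.mpr ht)).mpr ?_
    rw [← isAlgebraic_adjoin_iff_top, Set.range_const]
    exact Algebra.IsAlgebraic.of_finite _ _
  have h1 := h.lift_cardinalMk_le_trdeg
  have h2 := hb.lift_cardinalMk_eq_trdeg
  simp at h1 h2
  rw [← h2] at h1
  simp at h1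

end

end Groth.Agent.FFLib
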