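import Groth.Agent.FFLib.PlaneGenus
import Groth.Agent.FFLib.Plucker
import Mathlib.RingTheory.Nakayama
import Mathlib.RingTheory.LocalRing.MaximalIdeal.Basic
import Mathlib.LinearAlgebra.Dual.Lemmas
import Mathlib.Algebra.MvPolynomial.PDeriv

/-! The Jacobian criterion for the local ring of a projective map at a place. -/

namespace Groth.Agent.FFLib

open FunFld WithZero MvPolynomial

noncomputable section

variable {k K : Type*} [Field k] [Field K] [Algebra k K] (P : Place k K) {σ : Type*} (x : σ → K)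

/-- The local ring at `P` of the affine curve with coordinates `x`. -/
def affLoc : Subalgebra k K where
  carrier := {z | ∃ w ∈ Algebra.adjoin k (Set.range x), P.1 w = 1 ∧ z * w ∈ Algebra.adjoin k (Set.range x)}
  mul_mem' := by
    rintro y z ⟨w, hw, hw1, hy⟩ ⟨w', hw', hw'1, hz⟩
    exact ⟨w * w', mul_mem hw hw', by rw [map_mul, hw1, hw'1, one_mul], by
      rw [mul_mul_mul_comm]; exact mul_mem hy hz⟩
  add_mem' := by
    rintro y z ⟨w, hw, hw1, hy⟩ ⟨w', hw', hw'1, hz⟩
    exact ⟨w * w', mul_mem hw hw', by rw [map_mul, hw1, hw'1, one_mul], by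
      rw [show (y + z) * (w * w') = y * w * w' + z * w' * w by ring]
      exact add_mem (mul_mem hy hw') (mul_mem hz hw)⟩
  algebraMap_mem' c := ⟨1, one_mem _, map_one _, by rw [mul_one]; exact Subalgebra.algebraMap_mem _ c⟩

theorem mem_affLoc {z : K} : z ∈ affLoc P x ↔
    ∃ w ∈ Algebra.adjoin k (Set.range x), P.1 w = 1 ∧ z * w ∈ Algebra.adjoin k (Set.range x) := Iff.rfl

theorem adjoin_le_affLoc : Algebra.adjoin k (Set.range x) ≤ affLoc P x := fun z hz =>
  ⟨1, one_mem _, map_one _, by rwa [mul_one]⟩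

theorem inv_mem_affLoc {z : K} (hz : z ∈ affLoc P x) (h : P.1 z = 1) : z⁻¹ ∈ affLoc P x := by
  obtain ⟨w, hw, hw1, hu⟩ := hz
  have hz0 : z ≠ 0 := fun e => by rw [e, map_zero] at h; exact zero_ne_one h
  exact ⟨z * w, hu, by rw [map_mul, h, hw1, one_mul], by rwa [inv_mul_cancel_left₀ hz0]⟩

/-- The local ring does not depend on the exact entry. -/
theorem inLocRing_iff {ι : Type*} (φ : ι → K) {j : ι} (hj0 : φ j ≠ 0) (hj : ∀ i, P.1 (φ i) ≤ P.1 (φ j)) (z : K) :
    InLocRing φ P z ↔ z ∈ affLoc P (fun i => φ i / φ j) := by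
  constructor
  · rintro ⟨j', hj'0, hj', u, hu, w, hw, hw1, he⟩
    have hunit : P.1 (φ j' / φ j) = 1 := by
      rw [map_div₀, le_antisymm (hj j') (hj' j), div_self (val_ne_zero P hj0)]
    have hinv : (φ j' / φ j)⁻¹ ∈ affLoc P (fun i => φ i / φ j) :=
      inv_mem_affLoc P _ (adjoin_le_affLoc P _ (Algebra.subset_adjoin ⟨j', rfl⟩)) hunit
    have hle : Algebra.adjoin k (Set.range fun i => φ i / φ j') ≤ affLoc P (fun i => φ i / φ j) :=
      Algebra.adjoin_le (by
        rintro _ ⟨i, rfl⟩
        show φ i / φ j' ∈ affLoc P _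
        rw [show φ i / φ j' = (φ i / φ j) * (φ j' / φ j)⁻¹ by field_simp]
        exact mul_mem (adjoin_le_affLoc P _ (Algebra.subset_adjoin ⟨i, rfl⟩)) hinv)
    have hw0 : w ≠ 0 := fun e => by rw [e, map_zero] at hw1; exact zero_ne_one hw1
    rw [show z = u * w⁻¹ by rw [← he, mul_inv_cancel_right₀ hw0]]
    exact mul_mem (hle hu) (inv_mem_affLoc P _ (hle hw) hw1)
  · rintro ⟨w, hw, hw1, hu⟩
    exact ⟨j, hj0, hj, z * w, hu, w, hw, hw1, rfl⟩

theorem le_exp_neg_one {y : K} (h : P.1 y < 1) : P.1 y ≤ exp (-1) := by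
  simpa using (lt_exp_iff_le_exp_pred P y 0).mp (by rwa [exp_zero])

section Point

variable [Fintype σ] {x} {a : σ → k} (hx : ∀ i, P.1 (x i - algebraMap k K (a i)) < 1)

/-- The ideal of the point. -/
abbrev ptIdeal (x : σ → K) (a : σ → k) : Ideal (Algebra.adjoin k (Set.range x)) :=
  Ideal.span (Set.range fun i => (⟨x i, Algebra.subset_adjoin ⟨i, rfl⟩⟩ : Algebra.adjoin k (Set.range x)) -
    algebraMap k _ (a i))

/-- Evaluation into the coordinate ring. -/
abbrev evalR (x : σ → K) : MvPolynomial σ k →ₐ[k] Algebra.adjoin k (Set.range x) :=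
  aeval fun i => ⟨x i, Algebra.subset_adjoin ⟨i, rfl⟩⟩

omit [Fintype σ] in
theorem evalR_coe (x : σ → K) (p : MvPolynomial σ k) : (evalR x p : K) = aeval x p := by
  rw [← Subalgebra.coe_val, ← AlgHom.comp_apply, comp_aeval]
  rfl

omit [Fintype σ] in
theorem evalR_surjective (x : σ → K) : Function.Surjective (evalR (k := k) x) := fun ⟨z, hz⟩ => by
  rw [Algebra.adjoin_range_eq_range_aeval] at hz
  obtain ⟨p, rfl⟩ := hz
  exact ⟨p, Subtype.ext (evalR_coe x p)⟩

/-- The first order expansion at the point. -/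
theorem taylor_sq (p : MvPolynomial σ k) :
    evalR x p - algebraMap k _ (eval a p) -
        ∑ i, algebraMap k _ (eval a (pderiv i p)) * (evalR x (X i) - algebraMap k _ (a i)) ∈
      ptIdeal x a ^ 2 := by
  classical
  induction p using MvPolynomial.induction_on with
  | C c => simp
  | add p q hp hq =>
    convert add_mem hp hq using 1
    simp only [map_add, add_mul, Finset.sum_add_distrib]
    ring
  | mul_X p j hp =>
    have hg : evalR x (X j) - algebraMap k _ (a j) ∈ ptIdeal x a := by
      rw [evalR, aeval_X]; exact Ideal.subset_span ⟨j, rfl⟩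
    have hs : ∑ i, algebraMap k (Algebra.adjoin k (Set.range x)) (eval a (pderiv i p)) *
        (evalR x (X i) - algebraMap k _ (a i)) ∈ ptIdeal x a :=
      sum_mem fun i _ => Ideal.mul_mem_left _ _ (by rw [evalR, aeval_X]; exact Ideal.subset_span ⟨i, rfl⟩)
    have hD : evalR x p - algebraMap k _ (eval a p) ∈ ptIdeal x a := by
      have := add_mem (Ideal.pow_le_self two_ne_zero hp) hs
      rwa [sub_add_cancel] at this
    convert add_mem (Ideal.mul_mem_right (algebraMap k _ (a j)) _ hp)
      (show (evalR x p - algebraMap k _ (eval a p)) * (evalR x (X j) - algebraMap k _ (a j)) ∈ ptIdeal x a ^ 2 by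
        rw [pow_two]; exact Ideal.mul_mem_mul hD hg) using 1
    simp only [pderiv_mul, map_add, map_mul, eval_X, pderiv_X, Pi.single_apply, apply_ite (eval a), map_one, map_zero,
      apply_ite (algebraMap k (Algebra.adjoin k (Set.range x))), mul_ite, mul_one, mul_zero, add_mul,
      Finset.sum_add_distrib, ite_mul, zero_mul, Finset.sum_ite_eq, Finset.sum_ite_eq', Finset.mem_univ, if_true]
    simp only [mul_right_comm _ (algebraMap k (Algebra.adjoin k (Set.range x)) (a j)), ← Finset.sum_mul]
    ring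

include hx in
omit [Fintype σ] in
theorem val_ptIdeal (r : Algebra.adjoin k (Set.range x)) :
    P.1 (r : K) ≤ 1 ∧ (r ∈ ptIdeal x a → P.1 (r : K) < 1) := by
  have hle : ∀ r : Algebra.adjoin k (Set.range x), P.1 (r : K) ≤ 1 := fun ⟨r, hr⟩ => by
    induction hr using Algebra.adjoin_induction with
    | mem y hy =>
      obtain ⟨i, rfl⟩ := hy
      have := P.1.map_add (x i - algebraMap k K (a i)) (algebraMap k K (a i))
      rw [sub_add_cancel] at this
      exact this.trans (max_le (hx i).le (P.2.1 _))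
    | algebraMap c => exact P.2.1 c
    | add y z _ _ hy hz => exact (P.1.map_add y z).trans (max_le hy hz)
    | mul y z _ _ hy hz =>
      show P.1 (y * z) ≤ 1
      rw [map_mul]; exact mul_le_one' hy hz
  refine ⟨hle r, fun h => ?_⟩
  induction h using Submodule.span_induction with
  | mem y hy => obtain ⟨i, rfl⟩ := hy; exact hx i
  | zero => simp
  | add y z _ _ hy hz => exact (P.1.map_add _ _).trans_lt (max_lt hy hz)
  | smul c y _ hy =>
    show P.1 ((c : K) * (y : K)) < 1
    rw [map_mul]
    exact (mul_le_mul' (hle c) le_rfl).trans_lt (by rwa [one_mul])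

include hx in
omit [Fintype σ] in
theorem val_ptIdeal_sq {r : Algebra.adjoin k (Set.range x)} (h : r ∈ ptIdeal x a ^ 2) :
    P.1 (r : K) ≤ exp (-2) := by
  rw [pow_two] at h
  induction h using Submodule.mul_induction_on' with
  | mem_mul_mem y hy z hz =>
    show P.1 ((y : K) * (z : K)) ≤ _
    rw [map_mul, show exp (-2 : ℤ) = exp (-1) * exp (-1) by rw [← exp_add]; rfl]
    have h1 := (val_ptIdeal P hx y).2 hy
    have h2 := (val_ptIdeal P hx z).2 hz
    exact mul_le_mul' (le_exp_neg_one P h1) (le_exp_neg_one P h2)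
  | add y _ z _ hy hz => exact (P.1.map_add _ _).trans (max_le hy hz)

include hx in
omit [Fintype σ] in
theorem mem_ptIdeal_iff [Fintype σ] {r : Algebra.adjoin k (Set.range x)} :
    r ∈ ptIdeal x a ↔ P.1 (r : K) < 1 := by
  refine ⟨(val_ptIdeal P hx r).2, fun h => ?_⟩
  obtain ⟨p, rfl⟩ := evalR_surjective x r
  have ht := Ideal.pow_le_self two_ne_zero (taylor_sq (x := x) (a := a) p)
  have hs : ∑ i, algebraMap k (Algebra.adjoin k (Set.range x)) (eval a (pderiv i p)) *
      (evalR x (X i) - algebraMap k _ (a i)) ∈ ptIdeal x a :=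
    sum_mem fun i _ => Ideal.mul_mem_left _ _ (by rw [evalR, aeval_X]; exact Ideal.subset_span ⟨i, rfl⟩)
  have hd := add_mem ht hs
  rw [sub_add_cancel] at hd
  rcases eq_or_ne (eval a p) 0 with h0 | h0
  · simpa [h0] using hd
  · have h1 := (val_ptIdeal P hx _).2 hd
    have h2 : P.1 ((evalR x p : K) - (evalR x p - algebraMap k _ (eval a p) : Algebra.adjoin k (Set.range x))) < 1 :=
      (Valuation.map_sub _ _ _).trans_lt (max_lt h h1)
    rw [Subalgebra.coe_sub, sub_sub_cancel, Subalgebra.coe_algebraMap, val_algebraMap P h0] at h2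
    exact absurd h2 (lt_irrefl _)

end Point

section Criterion

variable [Fintype σ] {x} {a : σ → k} (hx : ∀ i, P.1 (x i - algebraMap k K (a i)) < 1)
  (htop : IntermediateField.adjoin k (Set.range x) = ⊤)

/-- The tangent space cut out by a set of equations. -/
def tangent (F : Set (MvPolynomial σ k)) (a : σ → k) : Submodule k (σ → k) where
  carrier := {v | ∀ f ∈ F, ∑ i, eval a (pderiv i f) * v i = 0}
  add_mem' {v w} hv hw f hf := by simp [mul_add, Finset.sum_add_distrib, hv f hf, hw f hf]
  zero_mem' f _ := by simp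
  smul_mem' c v hv f hf := by
    simp only [Pi.smul_apply, smul_eq_mul, mul_left_comm _ c, ← Finset.mul_sum, hv f hf, mul_zero]

theorem mem_tangent {F : Set (MvPolynomial σ k)} {v : σ → k} :
    v ∈ tangent F a ↔ ∀ f ∈ F, ∑ i, eval a (pderiv i f) * v i = 0 := Iff.rfl

/-- A linear combination of the rows is recognised by the tangent vectors. -/
theorem mem_rowSpan (F : Set (MvPolynomial σ k)) {w : σ → k} (h : ∀ v ∈ tangent F a, ∑ i, w i * v i = 0) :
    w ∈ Submodule.span k ((fun f => fun i => eval a (pderiv i f)) '' F) := by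
  classical
  by_contra hw
  obtain ⟨φ, hφw, hφW⟩ := Submodule.exists_dual_map_eq_bot_of_notMem hw inferInstance
  have hφ : ∀ u : σ → k, φ u = ∑ i, u i * φ (fun l => if i = l then 1 else 0) := fun u => by
    conv_lhs => rw [pi_eq_sum_univ u]
    simp [map_sum, smul_eq_mul]
  refine hφw ((hφ w).trans (h (fun i => φ (fun l => if i = l then 1 else 0)) fun f hf => ?_))
  rw [← hφ]
  exact (Submodule.eq_bot_iff _).mp hφW _ ⟨_, Submodule.subset_span ⟨f, hf, rfl⟩, rfl⟩

variable {F : Set (MvPolynomial σ k)} (hF : RingHom.ker (aeval (R := k) x) = Ideal.span F)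

include hF in
theorem rows_mem_sq (hx : ∀ i, P.1 (x i - algebraMap k K (a i)) < 1) {w : σ → k}
    (h : w ∈ Submodule.span k ((fun f => fun i => eval a (pderiv i f)) '' F)) :
    ∑ i, algebraMap k _ (w i) * (evalR x (X i) - algebraMap k _ (a i)) ∈ ptIdeal x a ^ 2 := by
  induction h using Submodule.span_induction with
  | mem u hu =>
    obtain ⟨f, hf, rfl⟩ := hu
    have h0 : evalR x f = 0 := Subtype.ext (by
      rw [evalR_coe, ZeroMemClass.coe_zero, ← RingHom.mem_ker, hF]; exact Ideal.subset_span hf)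
    have ha : eval a f = 0 := by
      by_contra hne
      have hd := Ideal.pow_le_self two_ne_zero (taylor_sq (x := x) (a := a) f)
      rw [h0] at hd
      have hs : ∑ i, algebraMap k (Algebra.adjoin k (Set.range x)) (eval a (pderiv i f)) *
          (evalR x (X i) - algebraMap k _ (a i)) ∈ ptIdeal x a :=
        sum_mem fun i _ => Ideal.mul_mem_left _ _ (by rw [evalR, aeval_X]; exact Ideal.subset_span ⟨i, rfl⟩)
      have h1 := (val_ptIdeal P hx _).2 (add_mem hd hs)
      rw [sub_add_cancel, zero_sub, Subalgebra.coe_neg, Valuation.map_neg, Subalgebra.coe_algebraMap,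
        val_algebraMap P hne] at h1
      exact lt_irrefl _ h1
    have := taylor_sq (x := x) (a := a) f
    rwa [h0, ha, map_zero, sub_zero, zero_sub, neg_mem_iff] at this
  | zero => simp
  | add u v _ _ hu hv =>
    simp only [Pi.add_apply, map_add, add_mul, Finset.sum_add_distrib]
    exact add_mem hu hv
  | smul c u _ hu =>
    simp only [Pi.smul_apply, smul_eq_mul, map_mul, mul_assoc, ← Finset.mul_sum]
    exact Ideal.mul_mem_left _ _ hu

include hF in
/-- The functional of a tangent vector is well defined on the coordinate ring. -/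
theorem tangent_apply_eq (hx : ∀ i, P.1 (x i - algebraMap k K (a i)) < 1) {v : σ → k} (hv : v ∈ tangent F a)
    {p q : MvPolynomial σ k} (h : aeval x p = aeval x q) :
    ∑ i, eval a (pderiv i p) * v i = ∑ i, eval a (pderiv i q) * v i := by
  have ha : ∀ f, aeval x f = 0 → eval a f = 0 := fun f hf => by
    by_contra hne
    have hd := Ideal.pow_le_self two_ne_zero (taylor_sq (x := x) (a := a) f)
    have hs : ∑ i, algebraMap k (Algebra.adjoin k (Set.range x)) (eval a (pderiv i f)) *
        (evalR x (X i) - algebraMap k _ (a i)) ∈ ptIdeal x a :=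
      sum_mem fun i _ => Ideal.mul_mem_left _ _ (by rw [evalR, aeval_X]; exact Ideal.subset_span ⟨i, rfl⟩)
    have h1 := (val_ptIdeal P hx _).2 (add_mem hd hs)
    rw [sub_add_cancel, Subalgebra.coe_sub, evalR_coe, hf, zero_sub, Valuation.map_neg, Subalgebra.coe_algebraMap,
      val_algebraMap P hne] at h1
    exact lt_irrefl _ h1
  have hmem : p - q ∈ Ideal.span F := by rw [← hF, RingHom.mem_ker, map_sub, h, sub_self]
  have key : ∀ g ∈ Ideal.span F, ∑ i, eval a (pderiv i g) * v i = 0 := fun g hg => by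
    induction hg using Submodule.span_induction with
    | mem f hf => exact hv f hf
    | zero => simp
    | add f g _ _ hf hg => simp [add_mul, Finset.sum_add_distrib, hf, hg]
    | smul c f hfm hf =>
      have h0 : aeval x f = 0 := RingHom.mem_ker.mp (hF.symm ▸ hfm)
      simp only [smul_eq_mul, pderiv_mul, map_add, map_mul, ha f h0, mul_zero, zero_add, mul_assoc,
        ← Finset.mul_sum, hf]
  have := key _ hmem
  simp only [map_sub, sub_mul, Finset.sum_sub_distrib, sub_eq_zero] at this
  exact this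

include hx htop in
/-- A principal tangent space gives a valuation ring. -/
theorem mem_affLoc_of_cotangent {u : Algebra.adjoin k (Set.range x)} (hu : u ∈ ptIdeal x a)
    (h : ∀ i, ∃ c : k, evalR x (X i) - algebraMap k _ (a i) - algebraMap k _ c * u ∈ ptIdeal x a ^ 2)
    {z : K} (hz : P.1 z ≤ 1) : z ∈ affLoc P x := by
  let O := affLoc P x
  let ι : Algebra.adjoin k (Set.range x) →+* O := (Subalgebra.inclusion (adjoin_le_affLoc P x)).toRingHom
  have hle : ∀ y : O, P.1 (y : K) ≤ 1 := fun ⟨y, w, hw, hw1, hyw⟩ => by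
    have := (val_ptIdeal P hx ⟨y * w, hyw⟩).1
    rwa [map_mul, hw1, mul_one] at this
  have hunit : ∀ y : O, P.1 (y : K) = 1 → IsUnit y := fun y hy =>
    isUnit_iff_exists_inv.mpr ⟨⟨(y : K)⁻¹, inv_mem_affLoc P x y.2 hy⟩, Subtype.ext (mul_inv_cancel₀
      fun e => by rw [e, map_zero] at hy; exact zero_ne_one hy)⟩
  haveI : IsLocalRing O := .of_nonunits_add fun y z hy hz => fun hu => by
    have h1 : ∀ {y : O}, y ∈ nonunits O → P.1 (y : K) < 1 := fun {y} hy =>
      lt_of_le_of_ne (hle y) fun e => hy (hunit y e)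
    obtain ⟨t, ht⟩ := isUnit_iff_exists_inv.mp hu
    have h2 := congrArg (fun t : O => P.1 (t : K)) ht
    simp only [Subalgebra.coe_mul, Subalgebra.coe_add, OneMemClass.coe_one, map_mul, map_one] at h2
    exact (mul_lt_one_of_nonneg_of_lt_one_left zero_le ((P.1.map_add _ _).trans_lt (max_lt (h1 hy) (h1 hz)))
      (hle t)).ne h2
  have hmax : ∀ y : O, y ∈ IsLocalRing.maximalIdeal O ↔ P.1 (y : K) < 1 := fun y => by
    rw [IsLocalRing.mem_maximalIdeal, mem_nonunits_iff]
    refine ⟨fun h => lt_of_le_of_ne (hle y) fun e => h (hunit y e), fun h hu => ?_⟩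
    obtain ⟨t, ht⟩ := isUnit_iff_exists_inv.mp hu
    have h2 := congrArg (fun t : O => P.1 (t : K)) ht
    simp only [Subalgebra.coe_mul, OneMemClass.coe_one, map_mul, map_one] at h2
    exact (mul_lt_one_of_nonneg_of_lt_one_left zero_le h (hle t)).ne h2
  have hmspan : IsLocalRing.maximalIdeal O = (ptIdeal x a).map ι := by
    refine le_antisymm (fun y hy => ?_) (Ideal.map_le_iff_le_comap.mpr fun r hr =>
      Ideal.mem_comap.mpr ((hmax _).mpr ((val_ptIdeal P hx r).2 hr)))
    obtain ⟨w, hw, hw1, hyw⟩ := y.2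
    have hw' : IsUnit (ι ⟨w, hw⟩) := hunit _ hw1
    have h1 : ι ⟨_, hyw⟩ ∈ (ptIdeal x a).map ι := Ideal.mem_map_of_mem _ ((mem_ptIdeal_iff P hx).mpr (by
      rw [map_mul, hw1, mul_one]; exact (hmax y).mp hy))
    rw [show ι ⟨_, hyw⟩ = y * ι ⟨w, hw⟩ from Subtype.ext rfl] at h1
    exact (Ideal.mul_unit_mem_iff_mem _ hw').mp h1
  have hprin : IsLocalRing.maximalIdeal O ≤ Ideal.span {ι u} := by
    refine Submodule.le_of_le_smul_of_le_jacobson_bot ?_ (IsLocalRing.maximalIdeal_le_jacobson _) ?_
    · rw [hmspan]; exact Ideal.FG.map (Submodule.fg_span (Set.finite_range _)) ι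
    · rw [hmspan, smul_eq_mul, ← pow_two, ← Ideal.map_pow, ptIdeal, Ideal.map_span, Ideal.span_le]
      rintro _ ⟨_, ⟨i, rfl⟩, rfl⟩
      obtain ⟨c, hc⟩ := h i
      rw [evalR, aeval_X] at hc
      refine Submodule.mem_sup.mpr ⟨ι (algebraMap k _ c) * ι u, Ideal.mul_mem_left _ _
        (Ideal.mem_span_singleton_self _), _, Ideal.mem_map_of_mem ι hc, ?_⟩
      rw [← map_mul, ← map_add, add_sub_cancel]
  have hu1 : P.1 (u : K) < 1 := (val_ptIdeal P hx u).2 hu
  have hstep : ∀ (n : ℕ) (y : O), exp (-(n : ℤ)) ≤ P.1 (y : K) → ∃ (i : ℕ) (v : O),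
      P.1 (v : K) = 1 ∧ (y : K) = (u : K) ^ i * v := fun n => by
    induction n with
    | zero =>
      intro y hy
      rw [Nat.cast_zero, neg_zero, exp_zero] at hy
      exact ⟨0, y, le_antisymm (hle y) hy, by rw [pow_zero, one_mul]⟩
    | succ n ih =>
      intro y hy
      rcases (hle y).eq_or_lt with e | hlt
      · exact ⟨0, y, e, by rw [pow_zero, one_mul]⟩
      obtain ⟨y', hy'⟩ := Ideal.mem_span_singleton'.mp (hprin ((hmax y).mpr hlt))
      have he : (y : K) = (y' : K) * (u : K) := congrArg Subtype.val hy'.symm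
      have hun : P.1 (u : K) ≤ exp (-1) := by
        have := (lt_exp_iff_le_exp_pred P (u : K) 0).mp (by rwa [exp_zero])
        simpa using this
      have hy'n : exp (-(n : ℤ)) ≤ P.1 (y' : K) := by
        rw [he, map_mul, Nat.cast_succ, neg_add, exp_add] at hy
        exact le_of_mul_le_mul_right (hy.trans (mul_le_mul_right hun _)) (zero_lt_iff.mpr exp_ne_zero)
      obtain ⟨i, v, hv, hi⟩ := ih y' hy'n
      exact ⟨i + 1, v, hv, by rw [he, hi]; ring⟩
  have hfac : ∀ y : O, (y : K) ≠ 0 → ∃ (i : ℕ) (v : O), P.1 (v : K) = 1 ∧ (y : K) = (u : K) ^ i * v :=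
    fun y hy => hstep (P.ord (y : K)).toNat y (by rw [val_eq_exp P hy, exp_le_exp]; omega)
  rcases eq_or_ne z 0 with rfl | hz0
  · exact zero_mem _
  obtain ⟨r, hr, s, hs, rfl⟩ := IntermediateField.mem_adjoin_iff_div.mp
    (show z ∈ IntermediateField.adjoin k (Set.range x) by rw [htop]; trivial)
  obtain ⟨hr0, hs0⟩ := div_ne_zero_iff.mp hz0
  obtain ⟨i, v, hv, hi⟩ := hfac (ι ⟨r, hr⟩) hr0
  obtain ⟨j, v', hv', hj⟩ := hfac (ι ⟨s, hs⟩) hs0
  change r = _ at hi
  change s = _ at hj
  subst hi hj
  have hu0 : (u : K) ^ j ≠ 0 := left_ne_zero_of_mul hs0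
  rcases le_or_gt j i with hle' | hlt
  · rw [show (u : K) ^ i * (v : K) / ((u : K) ^ j * (v' : K)) = (u : K) ^ (i - j) * ((v : K) * (v' : K)⁻¹) by
      conv_lhs => rw [← Nat.sub_add_cancel hle', pow_add]
      field_simp]
    exact mul_mem (pow_mem (adjoin_le_affLoc P x u.2) _) (mul_mem v.2 (inv_mem_affLoc P x v'.2 hv'))
  · exfalso
    rw [map_div₀, map_mul, map_mul, hv, hv', mul_one, mul_one, map_pow, map_pow,
      div_le_one₀ (pow_pos (zero_lt_iff.mpr fun e => hu0 (by
        rw [Valuation.zero_iff] at e; rw [e, zero_pow (by omega)])) j)] at hz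
    exact absurd hz (not_le.mpr (pow_lt_pow_right_of_lt_one₀ (zero_lt_iff.mpr fun e => hu0 (by
      rw [Valuation.zero_iff] at e; rw [e, zero_pow (by omega)])) hu1 hlt))

include hx htop in
theorem ptIdeal_not_le_sq : ¬ ∀ i, evalR x (X i) - algebraMap k _ (a i) ∈ ptIdeal x a ^ 2 := fun hall => by
  obtain ⟨t, ht0, ht⟩ := exists_unif P
  obtain ⟨w, hw, hw1, htw⟩ := mem_affLoc_of_cotangent P hx htop (u := 0) (zero_mem _)
    (fun i => ⟨0, by simpa using hall i⟩) (z := t) (by rw [ht, ← exp_zero, exp_le_exp]; omega)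
  have hle : ptIdeal x a ≤ ptIdeal x a ^ 2 := Ideal.span_le.mpr (by
    rintro _ ⟨i, rfl⟩
    have := hall i
    rwa [evalR, aeval_X] at this)
  have h := val_ptIdeal_sq P hx (hle ((mem_ptIdeal_iff P hx (r := ⟨t * w, htw⟩)).mpr (by
    rw [map_mul, ht, hw1, mul_one, ← exp_zero, exp_lt_exp]; omega)))
  rw [map_mul, ht, hw1, mul_one, exp_le_exp] at h
  omega

include hx htop hF in
/-- The Jacobian criterion. -/
theorem jacobian_criterion :
    (∀ z : K, P.1 z ≤ 1 → z ∈ affLoc P x) ↔ Module.finrank k (tangent F a) = 1 := by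
  classical
  have hne : tangent F a ≠ ⊥ := fun e => ptIdeal_not_le_sq P hx htop fun i => by
    have h := rows_mem_sq P hF hx (w := fun l => if l = i then 1 else 0) (mem_rowSpan F fun v hv => by
      rw [e, Submodule.mem_bot] at hv; simp [hv])
    simpa using h
  constructor
  · intro hns
    obtain ⟨t, ht0, ht⟩ := exists_unif P
    obtain ⟨w, hw, hw1, htw⟩ := hns t (by rw [ht, ← exp_zero, exp_le_exp]; omega)
    obtain ⟨p, hp⟩ := evalR_surjective x ⟨t * w, htw⟩
    have hpv : P.1 (aeval x p) = exp (-1) := by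
      rw [← evalR_coe, hp, map_mul, ht, hw1, mul_one]
    have hp0 : aeval x p ≠ 0 := fun e => by rw [e, map_zero] at hpv; exact exp_ne_zero hpv.symm
    have hpa : eval a p = 0 := by
      by_contra hne'
      have hd := (val_ptIdeal P hx _).2 (add_mem (Ideal.pow_le_self two_ne_zero (taylor_sq (x := x) (a := a) p))
        (sum_mem (t := Finset.univ) fun i _ => Ideal.mul_mem_left _
          (algebraMap k _ (eval a (pderiv i p))) (show evalR x (X i) - algebraMap k _ (a i) ∈ ptIdeal x a by
            rw [evalR, aeval_X]; exact Ideal.subset_span ⟨i, rfl⟩)))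
      rw [sub_add_cancel, Subalgebra.coe_sub, evalR_coe, Subalgebra.coe_algebraMap,
        P.1.map_sub_eq_of_lt_right (by rw [hpv, val_algebraMap P hne', ← exp_zero, exp_lt_exp]; omega),
        val_algebraMap P hne'] at hd
      exact lt_irrefl _ hd
    have key : ∀ i, ∃ c : k, ∀ v ∈ tangent F a, v i = c * ∑ l, eval a (pderiv l p) * v l := fun i => by
      have hg : P.1 (x i - algebraMap k K (a i)) ≤ P.1 (aeval x p) := by
        rw [hpv]
        have := (lt_exp_iff_le_exp_pred P _ 0).mp (by rw [exp_zero]; exact hx i)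
        simpa using this
      obtain ⟨w', hw', hw'1, hu'⟩ := hns ((x i - algebraMap k K (a i)) / aeval x p) (by
        rw [map_div₀]; exact (div_le_one₀ (zero_lt_iff.mpr (val_ne_zero P hp0))).mpr hg)
      obtain ⟨q, hq⟩ := evalR_surjective x ⟨w', hw'⟩
      obtain ⟨r, hr⟩ := evalR_surjective x ⟨_, hu'⟩
      have hq' : aeval x q = w' := by rw [← evalR_coe, hq]
      have hr' : aeval x r = (x i - algebraMap k K (a i)) / aeval x p * w' := by rw [← evalR_coe, hr]
      have hqa : eval a q ≠ 0 := fun h0 => by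
        have hd := (val_ptIdeal P hx _).2 (add_mem (Ideal.pow_le_self two_ne_zero (taylor_sq (x := x) (a := a) q))
          (sum_mem (t := Finset.univ) fun i _ => Ideal.mul_mem_left _
            (algebraMap k _ (eval a (pderiv i q))) (show evalR x (X i) - algebraMap k _ (a i) ∈ ptIdeal x a by
              rw [evalR, aeval_X]; exact Ideal.subset_span ⟨i, rfl⟩)))
        rw [sub_add_cancel, h0, map_zero, sub_zero, evalR_coe, hq', hw'1] at hd
        exact lt_irrefl _ hd
      refine ⟨eval a r / eval a q, fun v hv => ?_⟩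
      have he := tangent_apply_eq P hF hx hv (p := (X i - C (a i)) * q) (q := p * r) (by
        rw [map_mul, map_mul, map_sub, aeval_X, aeval_C, hr', hq']; field_simp)
      simp only [pderiv_mul, map_add, map_mul, map_sub, eval_X, eval_C, sub_self, zero_mul, mul_zero, add_zero,
        zero_add, hpa, add_mul, Finset.sum_add_distrib, pderiv_X, pderiv_C, Pi.single_apply, apply_ite (eval a),
        map_one, map_zero, sub_zero, ite_mul, one_mul, Finset.sum_ite_eq', Finset.sum_ite_eq, Finset.mem_univ, if_true] at he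
      rw [div_mul_eq_mul_div, eq_div_iff hqa, mul_comm, he, Finset.mul_sum]
      exact Finset.sum_congr rfl fun l _ => by ring
    choose c hc using key
    refine le_antisymm ?_ (Submodule.one_le_finrank_iff.mpr hne)
    calc Module.finrank k (tangent F a) ≤ Module.finrank k (Submodule.span k {c}) :=
          Submodule.finrank_mono fun v hv => Submodule.mem_span_singleton.mpr
            ⟨∑ l, eval a (pderiv l p) * v l, funext fun i => by
              rw [Pi.smul_apply, smul_eq_mul, hc i v hv, mul_comm]⟩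
      _ ≤ 1 := (finrank_span_le_card _).trans (by simp)
  · intro h z hz
    obtain ⟨v₀, hv₀, hspan⟩ := finrank_eq_one_iff'.mp h
    obtain ⟨i₀, hi₀⟩ : ∃ i, (v₀ : σ → k) i ≠ 0 := by
      by_contra! hall
      exact hv₀ (Subtype.ext (funext hall))
    refine mem_affLoc_of_cotangent P hx htop (u := evalR x (X i₀) - algebraMap k _ (a i₀))
      (by rw [evalR, aeval_X]; exact Ideal.subset_span ⟨i₀, rfl⟩) (fun i => ?_) hz
    refine ⟨(v₀ : σ → k) i / (v₀ : σ → k) i₀, ?_⟩
    have hr := rows_mem_sq P hF hx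
      (w := fun l => (if l = i then 1 else 0) - (if l = i₀ then (v₀ : σ → k) i / (v₀ : σ → k) i₀ else 0))
      (mem_rowSpan F fun v hv => by
        obtain ⟨t, ht⟩ := hspan ⟨v, hv⟩
        obtain rfl : v = t • (v₀ : σ → k) := (congrArg Subtype.val ht).symm
        simp [sub_mul, Finset.sum_sub_distrib, ite_mul]
        field_simp
        ring)
    simpa [sub_mul, Finset.sum_sub_distrib, apply_ite (algebraMap k (Algebra.adjoin k (Set.range x))), ite_mul] using hr

end Criterion

end

end Groth.Agent.FFLib
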