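import Groth.Agent.FFLib.PlaneModel

/-! The genus of a plane curve and its nonsingularity. -/

namespace Groth.Agent.FFLib

open FunFld IntermediateField WithZero Polynomial

variable {k K : Type*} [Field k] [Field K] [Algebra k K]

/-- `V` lies in `L D` and has no base point for it. -/
structure IsBpfSeries (D : Divisor k K) (V : Submodule k K) : Prop where
  le : V ≤ L D
  exact : ∀ Q : Place k K, ∃ z ∈ V, z ≠ 0 ∧ Q.ord z = -D Q

theorem mem_adjoin_div_iff {V : Submodule k K} {s : K} (hs : s ∈ V) (hs0 : s ≠ 0) {S : Set K}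
    (hS : S ⊆ V) (hSV : V ≤ Submodule.span k S) {r : K} :
    r ∈ Algebra.adjoin k ((fun z => z / s) '' S) ↔ ∃ (m : ℕ), r * s ^ m ∈ V ^ m := by
  constructor
  · intro hr
    induction hr using Algebra.adjoin_induction with
    | mem x hx =>
      obtain ⟨z, hz, rfl⟩ := hx
      exact ⟨1, by rw [Submodule.pow_one]; dsimp only; rw [pow_one, div_mul_cancel₀ _ hs0]; exact hS hz⟩
    | algebraMap c => exact ⟨0, by
        rw [Submodule.pow_zero, pow_zero, mul_one]; exact Submodule.algebraMap_mem c⟩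
    | add x y _ _ hx hy =>
      obtain ⟨m, hm⟩ := hx
      obtain ⟨n, hn⟩ := hy
      refine ⟨m + n, ?_⟩
      rw [add_mul]
      refine Submodule.add_mem _ ?_ ?_
      · rw [pow_add, pow_add, ← mul_assoc]
        exact Submodule.mul_mem_mul hm (Submodule.pow_mem_pow V hs n)
      · rw [add_comm, pow_add, pow_add, ← mul_assoc]
        exact Submodule.mul_mem_mul hn (Submodule.pow_mem_pow V hs m)
    | mul x y _ _ hx hy =>
      obtain ⟨m, hm⟩ := hx
      obtain ⟨n, hn⟩ := hy
      refine ⟨m + n, ?_⟩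
      rw [pow_add, pow_add, show x * y * (s ^ m * s ^ n) = x * s ^ m * (y * s ^ n) by ring]
      exact Submodule.mul_mem_mul hm hn
  · rintro ⟨m, hm⟩
    let R := Algebra.adjoin k ((fun z => z / s) '' S)
    have hV : ∀ v ∈ V, v / s ∈ R := fun v hv => by
      have hle : Submodule.span k S ≤ (Subalgebra.toSubmodule R).comap (LinearMap.mulRight k s⁻¹) :=
        Submodule.span_le.mpr fun z hz => by
          show z * s⁻¹ ∈ R
          rw [← div_eq_mul_inv]
          exact Algebra.subset_adjoin ⟨z, hz, rfl⟩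
      rw [div_eq_mul_inv]
      exact hle (hSV hv)
    have hpow : ∀ (n : ℕ), ∀ v ∈ V ^ n, v / s ^ n ∈ R := by
      intro n
      induction n with
      | zero =>
        intro v hv
        rw [Submodule.pow_zero, Submodule.mem_one] at hv
        obtain ⟨c, rfl⟩ := hv
        rw [pow_zero, div_one]
        exact R.algebraMap_mem c
      | succ n ih =>
        intro v hv
        rw [Submodule.pow_succ] at hv
        induction hv using Submodule.mul_induction_on' with
        | mem_mul_mem a ha b hb =>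
          rw [pow_succ, ← div_mul_div_comm]
          exact R.mul_mem (ih a ha) (hV b hb)
        | add a _ b _ ha hb => rw [add_div]; exact R.add_mem ha hb
    have := hpow m _ hm
    rwa [mul_div_cancel_right₀ _ (pow_ne_zero _ hs0)] at this

theorem mapDiv_apply (hF : IsFF k K) {ι : Type*} [Fintype ι] [Nonempty ι] (φ : ι → K)
    (Q : Place k K) :
    FunFld.mapDiv k φ Q = -Finset.univ.inf' Finset.univ_nonempty (fun i => Q.ord (φ i)) := by
  have hfin : (Function.support fun P : Place k K =>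
      -Finset.univ.inf' Finset.univ_nonempty (fun i => P.ord (φ i))).Finite := by
    refine Set.Finite.subset (Set.finite_iUnion fun i => finite_support_ord hF (φ i)) fun P hP => ?_
    obtain ⟨i, -, hi⟩ := Finset.exists_mem_eq_inf' Finset.univ_nonempty (fun i => P.ord (φ i))
    simp only [Function.mem_support, neg_ne_zero, hi] at hP
    exact Set.mem_iUnion.mpr ⟨i, hP⟩
  rw [FunFld.mapDiv, dif_pos hfin]
  rfl

/-- The span of the entries of a tuple is base point free for its divisor. -/
theorem isBpfSeries_span (hF : IsFF k K) {ι : Type*} [Fintype ι] [Nonempty ι] (φ : ι → K)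
    (h1 : ∃ i, φ i = 1) :
    IsBpfSeries (FunFld.mapDiv k φ) (Submodule.span k (Set.range φ)) := by
  refine ⟨Submodule.span_le.mpr ?_, fun Q => ?_⟩
  · rintro _ ⟨i, rfl⟩ Q
    rcases eq_or_ne (φ i) 0 with h | h
    · simp [h]
    rw [val_le_exp_iff Q h, mapDiv_apply hF, neg_neg]
    exact Finset.inf'_le _ (Finset.mem_univ i)
  · obtain ⟨i, -, hi⟩ := Finset.exists_mem_eq_inf' Finset.univ_nonempty (fun i => Q.ord (φ i))
    obtain ⟨j, hj⟩ := h1
    rcases eq_or_ne (φ i) 0 with h | h
    · refine ⟨1, Submodule.subset_span ⟨j, hj⟩, one_ne_zero, ?_⟩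
      rw [mapDiv_apply hF, hi, h, neg_neg]
      simp [Place.ord]
    · exact ⟨φ i, Submodule.subset_span ⟨i, rfl⟩, h, by rw [mapDiv_apply hF, hi, neg_neg]⟩

/-- Nonsingularity in homogeneous terms. -/
theorem isNonsingularAt_iff_pow {ι : Type*} {φ : ι → K} {D : Divisor k K}
    (h : IsBpfSeries D (Submodule.span k (Set.range φ))) (P : Place k K) :
    IsNonsingularAt φ P ↔ ∀ z : K, P.1 z ≤ 1 → ∃ (m : ℕ) (b : K),
      b ∈ Submodule.span k (Set.range φ) ^ m ∧ b ≠ 0 ∧ P.ord b = -(m * D P) ∧
      z * b ∈ Submodule.span k (Set.range φ) ^ m := by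
  set V := Submodule.span k (Set.range φ) with hV
  have hφ : ∀ i, φ i ∈ V := fun i => Submodule.subset_span ⟨i, rfl⟩
  have hrange : ∀ a, (Set.range fun i => φ i / a) = (fun z => z / a) '' Set.range φ := fun a => by
    rw [← Set.range_comp]
    rfl
  constructor
  · intro hns z hz
    obtain ⟨j, hj0, hmin, u', hu, w, hw, hw1, he⟩ := hns z hz
    have hjP : P.ord (φ j) = -D P := by
      obtain ⟨v, hv, hv0, hvP⟩ := h.exact P
      have h1 := (mem_L_iff_ord hj0).mp (h.le (hφ j)) P
      have h2 : P.1 v ≤ P.1 (φ j) :=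
        (Submodule.span_le (p := ({ carrier := {x | P.1 x ≤ P.1 (φ j)}
                                    add_mem' := fun ha hb => (P.1.map_add _ _).trans (max_le ha hb)
                                    zero_mem' := by simp
                                    smul_mem' := fun c x hx => by
                                      show P.1 (c • x) ≤ _
                                      rw [Algebra.smul_def, map_mul]
                                      exact (mul_le_mul' (P.2.1 c) hx).trans_eq (one_mul _) } :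
          Submodule k K))).mpr (by rintro _ ⟨i, rfl⟩; exact hmin i) hv
      rw [val_eq_exp P hv0, val_eq_exp P hj0, exp_le_exp, hvP] at h2
      omega
    rw [hrange] at hu hw
    obtain ⟨m₁, h1⟩ := (mem_adjoin_div_iff (hφ j) hj0 Submodule.subset_span le_rfl).mp hw
    obtain ⟨m₂, h2⟩ := (mem_adjoin_div_iff (hφ j) hj0 Submodule.subset_span le_rfl).mp hu
    have hw0 : w ≠ 0 := fun e => by rw [e, map_zero] at hw1; exact zero_ne_one hw1
    refine ⟨m₁ + m₂, w * φ j ^ (m₁ + m₂), ?_, mul_ne_zero hw0 (pow_ne_zero _ hj0), ?_, ?_⟩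
    · rw [show w * φ j ^ (m₁ + m₂) = w * φ j ^ m₁ * φ j ^ m₂ by rw [pow_add, mul_assoc],
        pow_add]
      exact Submodule.mul_mem_mul h1 (Submodule.pow_mem_pow V (hφ j) m₂)
    · rw [ord_mul P hw0 (pow_ne_zero _ hj0), ord_pow, hjP,
        ord_of_val_eq P (n := 0) (by rw [hw1, neg_zero, exp_zero])]
      push_cast
      ring
    · rw [← mul_assoc, he, add_comm m₁,
        show u' * φ j ^ (m₂ + m₁) = u' * φ j ^ m₂ * φ j ^ m₁ by rw [pow_add, mul_assoc], pow_add]
      exact Submodule.mul_mem_mul h2 (Submodule.pow_mem_pow V (hφ j) m₁)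
  · intro hh z hz
    obtain ⟨m, b, hb, hb0, hbP, hzb⟩ := hh z hz
    obtain ⟨v, hv, hv0, hvP⟩ := h.exact P
    obtain ⟨j, hj0, hjP⟩ : ∃ j, φ j ≠ 0 ∧ P.ord (φ j) = -D P := by
      by_contra! hall
      have : V ≤ L (D - Finsupp.single P 1) := Submodule.span_le.mpr <| by
        rintro _ ⟨i, rfl⟩
        by_contra hni
        obtain ⟨e1, e2⟩ := (not_mem_L_sub_iff (h.le (hφ i))).mp hni
        exact hall i e1 e2
      exact (not_mem_L_sub_iff (h.le hv)).mpr ⟨hv0, hvP⟩ (this hv)
    refine ⟨j, hj0, fun i => ?_, z * b / φ j ^ m, ?_, b / φ j ^ m, ?_, ?_, by rw [mul_div_assoc]⟩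
    · rw [val_eq_exp P hj0, hjP, neg_neg]
      exact h.le (hφ i) P
    · rw [hrange, mem_adjoin_div_iff (hφ j) hj0 Submodule.subset_span le_rfl]
      exact ⟨m, by rwa [div_mul_cancel₀ _ (pow_ne_zero _ hj0)]⟩
    · rw [hrange, mem_adjoin_div_iff (hφ j) hj0 Submodule.subset_span le_rfl]
      exact ⟨m, by rwa [div_mul_cancel₀ _ (pow_ne_zero _ hj0)]⟩
    · rw [map_div₀, map_pow, val_eq_exp P hb0, val_eq_exp P hj0, hbP, hjP, neg_neg, neg_neg,
        ← exp_nsmul, nsmul_eq_mul, div_self exp_ne_zero]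

variable (hK : IsFunctionField k K)
include hK

/-- Existence of a plane chart. -/
theorem exists_chart [IsAlgClosed k] {x y : K}
    (hxy : IntermediateField.adjoin k ({x, y} : Set K) = ⊤) :
    0 < (FunFld.mapDiv k ![(1 : K), x, y]).deg ∧
      ∃ s t u, PlaneChart (FunFld.mapDiv k ![(1 : K), x, y])
        (Submodule.span k (Set.range ![(1 : K), x, y])) s t u := by
  classical
  set φ : Fin 3 → K := ![(1 : K), x, y]
  set D := FunFld.mapDiv k φ
  set V := Submodule.span k (Set.range φ) with hV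
  have hbpf : IsBpfSeries D V := isBpfSeries_span hK.1 φ ⟨0, rfl⟩
  have hpos : 0 < D.deg := by
    obtain ⟨i, hi⟩ : ∃ i, Transcendental k (φ i) := by
      by_contra hall
      obtain ⟨z, hz, -⟩ := hK.1
      have : IntermediateField.adjoin k ({x, y} : Set K) ≤ ⊥ := by
        rw [adjoin_le_iff]
        intro w hw
        obtain ⟨i, rfl⟩ : ∃ i, φ i = w := by
          rcases hw with rfl | rfl
          · exact ⟨1, rfl⟩
          · exact ⟨2, rfl⟩
        exact IntermediateField.mem_bot.mpr (hK.2 _ (not_not.mp fun h => hall ⟨i, h⟩))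
      obtain ⟨c, hc⟩ := IntermediateField.mem_bot.mp (this (hxy.ge (IntermediateField.mem_top (x := z))))
      exact hz (hc ▸ isAlgebraic_algebraMap c)
    have hne : φ i ≠ 0 := fun e => hi (e ▸ isAlgebraic_zero)
    have hle : (poles (φ i) : Divisor k K) ≤ D := fun Q => by
      have h1 := (mem_L_iff_ord hne).mp (hbpf.le (Submodule.subset_span ⟨i, rfl⟩)) Q
      have h2 : (0 : ℤ) ≤ D Q := by
        rw [mapDiv_apply hK.1, Left.nonneg_neg_iff]
        exact (Finset.inf'_le _ (Finset.mem_univ 0)).trans (by simp [φ, Place.ord])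
      rw [poles, Finsupp.mapRange_apply, div_apply hK.1]
      omega
    have := Divisor.deg_mono hle
    rw [deg_poles hK.1 hi] at this
    have hfd : FiniteDimensional k⟮φ i⟯ K := IsFF.finite_adjoin hK.1 hi
    have : 0 < Module.finrank k⟮φ i⟯ K := Module.finrank_pos
    omega
  refine ⟨hpos, ?_⟩
  obtain ⟨P₀⟩ := exists_place hK.1
  obtain ⟨s, hs, hs0, -⟩ := hbpf.exact P₀
  let S : Finset (Place k K) := (D + FunFld.div k s).support
  have hmemS : ∀ Q, Q ∉ S → Q.ord s = -D Q := fun Q hQ => by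
    rw [Finsupp.notMem_support_iff, Finsupp.add_apply, div_apply hK.1] at hQ
    omega
  let p : S → Submodule k V := fun Q => (L (D - Finsupp.single (Q : Place k K) 1)).comap V.subtype
  have hp : ∀ Q, p Q ≠ ⊤ := fun Q htop => by
    obtain ⟨z, hz, hz0, hzQ⟩ := hbpf.exact Q
    have : (⟨z, hz⟩ : V) ∈ p Q := by rw [htop]; trivial
    exact ((not_mem_L_sub_iff (hbpf.le hz)).mpr ⟨hz0, hzQ⟩) this
  obtain ⟨⟨t', ht'⟩, htS⟩ := Submodule.exists_forall_notMem_of_forall_ne_top p hp
  have hSne : Nonempty S := by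
    by_contra hempty
    have h0 : D + FunFld.div k s = 0 := Finsupp.support_eq_empty.mp
      (Finset.eq_empty_of_forall_notMem fun Q hQ => hempty ⟨⟨Q, hQ⟩⟩)
    have := congrArg Divisor.deg h0
    rw [Divisor.deg_add, deg_div hK.1, Divisor.deg_zero] at this
    omega
  obtain ⟨Q₀⟩ := hSne
  have ht0 : t' ≠ 0 := ((not_mem_L_sub_iff (hbpf.le ht')).mp (htS Q₀)).1
  have hexact : ∀ Q : Place k K, Q.ord s = -D Q ∨ Q.ord t' = -D Q := fun Q => by
    by_cases hQ : Q ∈ S
    · exact Or.inr ((not_mem_L_sub_iff (hbpf.le ht')).mp (htS ⟨Q, hQ⟩)).2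
    · exact Or.inl (hmemS Q hQ)
  have hli : LinearIndependent k ![s, t'] := by
    rw [LinearIndependent.pair_iff' hs0]
    intro c hc
    have hc0 : c ≠ 0 := fun e => ht0 (by rw [← hc, e, zero_smul])
    have hQ := hexact Q₀
    rw [← hc, show Place.ord (Q₀ : Place k K) (c • s) = Place.ord (Q₀ : Place k K) s by
      rw [Place.ord, Place.ord, val_smul _ hc0], or_self] at hQ
    have := Finsupp.mem_support_iff.mp Q₀.2
    rw [Finsupp.add_apply, div_apply hK.1, hQ] at this
    omega
  have hW : Submodule.span k {s, t'} ≤ V := Submodule.span_le.mpr (by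
    rintro z (rfl | rfl) <;> assumption)
  obtain ⟨u, hu⟩ : ∃ u, V = Submodule.span k {s, t', u} := by
    by_cases hle : V ≤ Submodule.span k {s, t'}
    · refine ⟨s, le_antisymm (hle.trans (Submodule.span_mono (by simp [Set.insert_subset_iff]))) ?_⟩
      exact Submodule.span_le.mpr (by rintro z (rfl | rfl | rfl) <;> assumption)
    · obtain ⟨e, he, he'⟩ := SetLike.not_le_iff_exists.mp hle
      have : FiniteDimensional k V := FiniteDimensional.span_of_finite k (Set.finite_range φ)
      refine ⟨e, (Submodule.eq_of_le_of_finrank_le ?_ ?_).symm⟩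
      · exact Submodule.span_le.mpr (by rintro z (rfl | rfl | rfl) <;> assumption)
      · have h3 : LinearIndependent k ![e, s, t'] := by
          refine linearIndependent_finCons.mpr ⟨hli, ?_⟩
          rw [Matrix.range_cons_cons_empty]
          exact he'
        have h4 := finrank_span_eq_card h3
        have h5 : (Set.range ![e, s, t'] : Set K) = {s, t', e} := by
          ext z; simp [or_comm, or_left_comm, eq_comm]
        rw [h5, Fintype.card_fin] at h4
        rw [h4]
        exact (finrank_range_le_card (R := k) φ).trans_eq (Fintype.card_fin 3)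
  refine ⟨s, t', u, hu, hbpf.le, hs0, ht0, hexact, ?_⟩
  have hmem : ∀ z ∈ V, z / s ∈ IntermediateField.adjoin k ({t' / s, u / s} : Set K) := fun z hz => by
    rw [hu] at hz
    induction hz using Submodule.span_induction with
    | mem w hw =>
      rcases hw with rfl | rfl | rfl
      · rw [div_self hs0]; exact one_mem _
      · exact IntermediateField.subset_adjoin k _ (Set.mem_insert _ _)
      · exact IntermediateField.subset_adjoin k _ (Set.mem_insert_of_mem _ rfl)
    | zero => rw [zero_div]; exact zero_mem _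
    | add a b _ _ ha hb => rw [add_div]; exact add_mem ha hb
    | smul c a _ ha => rw [smul_div_assoc]; exact IntermediateField.smul_mem _ ha
  rw [eq_top_iff, ← hxy, adjoin_le_iff]
  intro z hz
  have hzV : z ∈ V := by
    rcases hz with rfl | rfl
    · exact Submodule.subset_span ⟨1, rfl⟩
    · exact Submodule.subset_span ⟨2, rfl⟩
  have h1 := div_mem (hmem z hzV) (hmem 1 (Submodule.subset_span ⟨0, rfl⟩))
  rwa [div_div_div_cancel_right₀ hs0, div_one] at h1

omit hK in
theorem PlaneChart.symm {D : Divisor k K} {V : Submodule k K} {s t u : K}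
    (C : PlaneChart D V s t u) : PlaneChart D V t s u := by
  refine ⟨?_, C.le, C.t_ne, C.s_ne, fun Q => (C.exact Q).symm, ?_⟩
  · rw [C.span, Set.insert_comm]
  · rw [eq_top_iff, ← C.gen, adjoin_le_iff]
    rintro z (rfl | rfl)
    · rw [← inv_div s t]; exact inv_mem (IntermediateField.subset_adjoin k _ (Set.mem_insert _ _))
    · rw [show u / s = (u / t) / (s / t) from (div_div_div_cancel_right₀ C.t_ne u s).symm]
      exact div_mem (IntermediateField.subset_adjoin k _ (Set.mem_insert_of_mem _ rfl)) (IntermediateField.subset_adjoin k _ (Set.mem_insert _ _))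

variable [IsAlgClosed k]

theorem genus_le {x y : K} (hxy : IntermediateField.adjoin k ({x, y} : Set K) = ⊤) :
    2 * (genus k K : ℤ) ≤ ((FunFld.mapDiv k ![(1 : K), x, y]).deg - 1) *
      ((FunFld.mapDiv k ![(1 : K), x, y]).deg - 2) := by
  obtain ⟨hd, s, t, u, C⟩ := exists_chart hK hxy
  set D := FunFld.mapDiv k ![(1 : K), x, y]
  set m : ℕ := 2 * genus k K + D.deg.toNat with hm
  have h1 := C.finrank_pow hK hd (m := m) (by omega)
  have := L_finite hK.1 ((m : ℕ) • D)
  have h2 := Submodule.finrank_mono (C.pow_le m)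
  have hdeg : ((m : ℕ) • D).deg = m * D.deg := by rw [← natCast_zsmul, deg_zsmul]
  have h3 := ell_of_deg_gt hK (D := (m : ℕ) • D) (by
    rw [hdeg]; nlinarith [Int.toNat_of_nonneg hd.le])
  rw [hdeg] at h3
  simp only [ell] at h3
  have h2' : (Module.finrank k ↥(Submodule.span k (Set.range ![(1 : K), x, y]) ^ m) : ℤ) ≤
      (Module.finrank k ↥(L ((m : ℕ) • D)) : ℤ) := Int.ofNat_le.mpr h2
  linarith

/-- Equality in the genus bound makes the model nonsingular. -/
theorem nonsingular_of_genus_eq {x y : K} (hxy : IntermediateField.adjoin k ({x, y} : Set K) = ⊤)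
    (hg : 2 * (genus k K : ℤ) = ((FunFld.mapDiv k ![(1 : K), x, y]).deg - 1) *
      ((FunFld.mapDiv k ![(1 : K), x, y]).deg - 2)) (P : Place k K) :
    IsNonsingularAt ![(1 : K), x, y] P := by
  obtain ⟨hd, s, t, u, C⟩ := exists_chart hK hxy
  have hbpf := isBpfSeries_span hK.1 ![(1 : K), x, y] ⟨0, rfl⟩
  rw [isNonsingularAt_iff_pow hbpf]
  intro z hz
  set D := FunFld.mapDiv k ![(1 : K), x, y]
  have hpoleP : poles z P = 0 := by
    rcases eq_or_ne z 0 with rfl | hz0
    · simp [poles, div_apply hK.1, Place.ord]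
    · rw [poles, Finsupp.mapRange_apply, div_apply hK.1]
      have := (val_le_one_iff P hz0).mp hz
      omega
  have hp0 : (0 : ℤ) ≤ (poles z : Divisor k K).deg := Divisor.deg_nonneg (poles_nonneg z)
  set n : ℕ := 2 * genus k K + D.deg.toNat + (poles z : Divisor k K).deg.toNat with hn
  have hdeg : ((n : ℕ) • D).deg = n * D.deg := by rw [← natCast_zsmul, deg_zsmul]
  have hbig : 2 * (genus k K : ℤ) + (poles z : Divisor k K).deg ≤ n * D.deg := by
    nlinarith [Int.toNat_of_nonneg hd.le, Int.toNat_of_nonneg hp0]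
  have heq : Submodule.span k (Set.range ![(1 : K), x, y]) ^ n = L ((n : ℕ) • D) := by
    have := L_finite hK.1 ((n : ℕ) • D)
    refine Submodule.eq_of_le_of_finrank_le (C.pow_le n) ?_
    have h1 := C.finrank_pow hK hd (m := n) (by omega)
    have h3 := ell_of_deg_gt hK (D := (n : ℕ) • D) (by rw [hdeg]; linarith)
    rw [hdeg] at h3
    simp only [ell] at h3
    nlinarith
  obtain ⟨w, hw, hw0, hwP⟩ := noBase_of_deg hK (D := (n : ℕ) • D - poles z)
    (by rw [Divisor.deg_sub, hdeg]; linarith) P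
  rw [Finsupp.sub_apply, Finsupp.smul_apply, hpoleP, sub_zero, nsmul_eq_mul] at hwP
  refine ⟨n, w, ?_, hw0, hwP, ?_⟩
  · rw [heq]; exact L_mono (sub_le_self _ (poles_nonneg z)) hw
  · rw [heq]
    intro Q
    rw [map_mul, show ((n : ℕ) • D) Q = poles z Q + ((n : ℕ) • D - poles z : Divisor k K) Q by
      rw [Finsupp.sub_apply]; omega, exp_add]
    exact mul_le_mul' (val_le_exp_poles hK.1 z Q) (hw Q)

/-- On an affine chart the coordinate ring is everything regular there. -/
theorem exists_pow_mul_mem {x y : K} (hd : 0 < (FunFld.mapDiv k ![(1 : K), x, y]).deg) {s t u : K}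
    (C : PlaneChart (FunFld.mapDiv k ![(1 : K), x, y])
      (Submodule.span k (Set.range ![(1 : K), x, y])) s t u)
    (hns : ∀ P : Place k K, IsNonsingularAt ![(1 : K), x, y] P) (n : ℕ) {z : K}
    (hz : z ∈ L ((n : ℕ) • FunFld.mapDiv k ![(1 : K), x, y])) :
    ∃ N : ℕ, s ^ N * z ∈ Submodule.span k (Set.range ![(1 : K), x, y]) ^ (n + N) := by
  classical
  set D := FunFld.mapDiv k ![(1 : K), x, y]
  set V := Submodule.span k (Set.range ![(1 : K), x, y])
  have hbpf := isBpfSeries_span hK.1 ![(1 : K), x, y] ⟨0, rfl⟩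
  let R := Algebra.adjoin k ((fun v => v / s) '' (V : Set K))
  have hR : ∀ {r : K}, r ∈ R ↔ ∃ m : ℕ, r * s ^ m ∈ V ^ m := fun {r} =>
    mem_adjoin_div_iff C.s_mem C.s_ne subset_rfl (fun v hv => Submodule.subset_span hv)
  let J : Ideal R :=
    { carrier := {r | (r : K) * (z / s ^ n) ∈ R}
      add_mem' := fun {a b} ha hb => by
        show ((a : K) + b) * (z / s ^ n) ∈ R
        rw [add_mul]; exact R.add_mem ha hb
      zero_mem' := by show (0 : K) * _ ∈ R; rw [zero_mul]; exact R.zero_mem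
      smul_mem' := fun a b hb => by
        show ((a : K) * b) * (z / s ^ n) ∈ R
        rw [mul_assoc]; exact R.mul_mem a.2 hb }
  have key : ∀ P : Place k K, P.ord s = -D P → ∃ r : R, r ∈ J ∧ P.1 (r : K) = 1 := by
    intro P hP
    have hval : P.1 (z / s ^ n) ≤ 1 := by
      rcases eq_or_ne z 0 with rfl | hz0
      · simp
      rw [val_le_one_iff P (div_ne_zero hz0 (pow_ne_zero _ C.s_ne)), div_eq_mul_inv,
        ord_mul P hz0 (inv_ne_zero (pow_ne_zero _ C.s_ne)), ord_inv, ord_pow, hP]
      have := (mem_L_iff_ord hz0).mp hz P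
      rw [Finsupp.smul_apply, nsmul_eq_mul] at this
      linarith
    obtain ⟨m, b, hb, hb0, hbP, hzb⟩ := (isNonsingularAt_iff_pow hbpf P).mp (hns P) _ hval
    refine ⟨⟨b / s ^ m, hR.mpr ⟨m, by rwa [div_mul_cancel₀ _ (pow_ne_zero _ C.s_ne)]⟩⟩, ?_, ?_⟩
    · show b / s ^ m * (z / s ^ n) ∈ R
      exact hR.mpr ⟨m, by
        rw [mul_right_comm, div_mul_cancel₀ _ (pow_ne_zero _ C.s_ne), mul_comm]; exact hzb⟩
    · show P.1 (b / s ^ m) = 1
      rw [map_div₀, map_pow, val_eq_exp P hb0, val_eq_exp P C.s_ne, hbP, hP, neg_neg, neg_neg,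
        ← exp_nsmul, nsmul_eq_mul, div_self exp_ne_zero]
  by_cases hJ : J = ⊤
  · have h1 : (1 : K) * (z / s ^ n) ∈ R := (Ideal.eq_top_iff_one J).mp hJ
    obtain ⟨m, hm⟩ := hR.mp h1
    refine ⟨m, ?_⟩
    rw [pow_add]
    have h2 := Submodule.mul_mem_mul (Submodule.pow_mem_pow V C.s_mem n) hm
    rwa [show s ^ n * (1 * (z / s ^ n) * s ^ m) = s ^ m * z by
      field_simp [C.s_ne]] at h2
  exfalso
  obtain ⟨W, hRW, hW⟩ := Ideal.image_subset_nonunits_valuationSubring (A := R.toSubring) J hJ
  have htr := C.transcendental hK hd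
  obtain ⟨P₀, hP₀⟩ := exists_place_zero hK.1 htr
  obtain ⟨r₀, hr₀, hr₀v⟩ := key P₀ (C.exact_s hP₀.le)
  have hWtop : W ≠ ⊤ := fun e => by
    have h1 := hW ⟨r₀, hr₀, rfl⟩
    rw [SetLike.mem_coe, ValuationSubring.mem_nonunits_iff] at h1
    have hne : (r₀ : K) ≠ 0 := fun e0 => by
      rw [e0, map_zero] at hr₀v; exact zero_ne_one hr₀v
    have h2 : W.valuation (r₀ : K)⁻¹ ≤ 1 := (W.valuation_le_one_iff _).mpr (by rw [e]; trivial)
    rw [map_inv₀, inv_le_one₀ (zero_lt_iff.mpr (by simpa using hne))] at h2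
    exact absurd h1 (not_lt.mpr h2)
  obtain ⟨P, hP⟩ := exists_place_of_valuationSubring hK.1 W
    (fun c => hRW (R.algebraMap_mem c)) hWtop
  have htP : P.1 (t / s) ≤ 1 := by
    show t / s ∈ P.O
    rw [hP]
    exact hRW (Algebra.subset_adjoin ⟨t, C.t_mem, rfl⟩)
  obtain ⟨r, hr, hrv⟩ := key P (C.exact_s htP)
  have h1 := hW ⟨r, hr, rfl⟩
  rw [SetLike.mem_coe, ValuationSubring.mem_nonunits_iff] at h1
  have h2 : P.1 ((r : K)⁻¹) ≤ 1 := by rw [map_inv₀, hrv, inv_one]
  have h3 : (r : K)⁻¹ ∈ W := by rw [← hP]; exact h2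
  rw [← W.valuation_le_one_iff, map_inv₀] at h3
  have hne : W.valuation (r : K) ≠ 0 := by
    simp only [ne_eq, map_eq_zero]
    intro e0; rw [e0, map_zero] at hrv; exact zero_ne_one hrv
  rw [inv_le_one₀ (zero_lt_iff.mpr hne)] at h3
  exact absurd h1 (not_lt.mpr h3)

/-- A nonsingular plane model attains the genus bound. -/
theorem genus_eq_of_nonsingular {x y : K} (hxy : IntermediateField.adjoin k ({x, y} : Set K) = ⊤)
    (hns : ∀ P : Place k K, IsNonsingularAt ![(1 : K), x, y] P) :
    2 * (genus k K : ℤ) = ((FunFld.mapDiv k ![(1 : K), x, y]).deg - 1) *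
      ((FunFld.mapDiv k ![(1 : K), x, y]).deg - 2) := by
  classical
  obtain ⟨hd, s, t, u, C⟩ := exists_chart hK hxy
  set D := FunFld.mapDiv k ![(1 : K), x, y]
  set V := Submodule.span k (Set.range ![(1 : K), x, y])
  set n₀ : ℕ := 2 * genus k K + 2 + D.deg.toNat with hn₀
  have := L_finite hK.1 ((n₀ : ℕ) • D)
  let basis := Module.finBasis k (L ((n₀ : ℕ) • D))
  choose Ns hNs using fun i => exists_pow_mul_mem hK hd C hns n₀ (basis i).2
  choose Nt hNt using fun i => exists_pow_mul_mem hK hd C.symm hns n₀ (basis i).2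
  set N := Finset.univ.sup Ns + Finset.univ.sup Nt with hN
  have hboth : ∀ w ∈ ({s, t} : Set K), ∀ z ∈ L ((n₀ : ℕ) • D), ∀ a, N ≤ a →
      w ^ a * z ∈ V ^ (n₀ + a) := by
    intro w hw z hz a ha
    have hwV : w ∈ V := by rcases hw with rfl | rfl <;> [exact C.s_mem; exact C.t_mem]
    have hi : ∀ i, w ^ a * (basis i : K) ∈ V ^ (n₀ + a) := fun i => by
      obtain ⟨e, he, h1⟩ : ∃ e ≤ a, w ^ e * (basis i : K) ∈ V ^ (n₀ + e) := by
        rcases hw with rfl | rfl
        · exact ⟨Ns i, le_trans (by have := Finset.le_sup (f := Ns) (Finset.mem_univ i); omega) ha, hNs i⟩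
        · exact ⟨Nt i, le_trans (by have := Finset.le_sup (f := Nt) (Finset.mem_univ i); omega) ha, hNt i⟩
      have h2 := Submodule.mul_mem_mul (Submodule.pow_mem_pow V hwV (a - e)) h1
      rw [← pow_add, ← mul_assoc, ← pow_add, Nat.sub_add_cancel he] at h2
      rwa [show a - e + (n₀ + e) = n₀ + a by omega] at h2
    have hz' : z = ∑ i, basis.repr ⟨z, hz⟩ i • (basis i : K) := by
      conv_lhs => rw [show z = ((⟨z, hz⟩ : L ((n₀ : ℕ) • D)) : K) from rfl, ← basis.sum_repr ⟨z, hz⟩]
      rw [Submodule.coe_sum]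
      rfl
    rw [hz', Finset.mul_sum]
    exact Submodule.sum_mem _ fun i _ => by rw [mul_smul_comm]; exact Submodule.smul_mem _ _ (hi i)
  have key : ∀ (q a b : ℕ), a + b + q = 2 * N → ∀ z ∈ L (((n₀ + q) : ℕ) • D),
      s ^ a * t ^ b * z ∈ V ^ (n₀ + 2 * N) := by
    intro q
    induction q with
    | zero =>
      intro a b hab z hz
      rw [add_zero] at hz hab
      rcases le_or_gt N a with hN' | hN'
      · have h1 := Submodule.mul_mem_mul (Submodule.pow_mem_pow V C.t_mem b)
          (hboth s (Set.mem_insert _ _) z hz a hN')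
        rw [← pow_add, show b + (n₀ + a) = n₀ + 2 * N by omega] at h1
        rwa [show t ^ b * (s ^ a * z) = s ^ a * t ^ b * z by ring] at h1
      · have h1 := Submodule.mul_mem_mul (Submodule.pow_mem_pow V C.s_mem a)
          (hboth t (Set.mem_insert_of_mem _ rfl) z hz b (by omega))
        rw [← pow_add, show a + (n₀ + b) = n₀ + 2 * N by omega] at h1
        rwa [show s ^ a * (t ^ b * z) = s ^ a * t ^ b * z by ring] at h1
    | succ q ih =>
      intro a b hab z hz
      rw [← add_assoc, succ_nsmul] at hz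
      obtain ⟨z₁, hz₁, z₂, hz₂, rfl⟩ := pencil_decomp hK (C.le C.s_mem) C.s_ne (C.le C.t_mem) C.t_ne
        C.exact (((n₀ + q) : ℕ) • D) (by
          rw [Divisor.deg_sub, ← natCast_zsmul, deg_zsmul]
          push_cast
          nlinarith [Int.toNat_of_nonneg hd.le]) hz hd.le
      rw [show s ^ a * t ^ b * (z₁ * s + z₂ * t) =
        s ^ (a + 1) * t ^ b * z₁ + s ^ a * t ^ (b + 1) * z₂ by ring]
      exact Submodule.add_mem _ (ih _ _ (by omega) _ hz₁) (ih _ _ (by omega) _ hz₂)
  set m := n₀ + 2 * N with hm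
  have heq : V ^ m = L ((m : ℕ) • D) := le_antisymm (C.pow_le m) fun z hz => by
    have := key (2 * N) 0 0 (by omega) z hz
    simpa using this
  have h1 := C.finrank_pow hK hd (m := m) (by omega)
  have hdeg : ((m : ℕ) • D).deg = m * D.deg := by rw [← natCast_zsmul, deg_zsmul]
  have h3 := ell_of_deg_gt hK (D := (m : ℕ) • D) (by
    rw [hdeg]; nlinarith [Int.toNat_of_nonneg hd.le])
  rw [hdeg] at h3
  rw [heq] at h1
  simp only [ell] at h3
  linarith

omit hK in
/-- A map nonsingular somewhere is birational onto its image. -/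
theorem adjoin_ratios_eq_top (_hK : IsFunctionField k K) {n : ℕ} (φ : Fin (n + 1) → K) (h0 : φ 0 ≠ 0)
    (P : Place k K) (h : IsNonsingularAt φ P) :
    IntermediateField.adjoin k (Set.range fun i => φ i / φ 0) = ⊤ := by
  set E := IntermediateField.adjoin k (Set.range fun i => φ i / φ 0)
  have key : ∀ z : K, P.1 z ≤ 1 → z ∈ E := by
    intro z hz
    obtain ⟨j, hj0, -, u, hu, w, hw, hw1, he⟩ := h z hz
    have hR : ∀ r ∈ Algebra.adjoin k (Set.range fun i => φ i / φ j), r ∈ E := fun r hr => by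
      refine (Algebra.adjoin_le (S := E.toSubalgebra) ?_) hr
      rintro _ ⟨i, rfl⟩
      show φ i / φ j ∈ E
      rw [← div_div_div_cancel_right₀ h0 (φ i) (φ j)]
      exact div_mem (IntermediateField.subset_adjoin k _ ⟨i, rfl⟩)
        (IntermediateField.subset_adjoin k _ ⟨j, rfl⟩)
    have hw0 : w ≠ 0 := fun e => by rw [e, map_zero] at hw1; exact zero_ne_one hw1
    rw [show z = u / w by rw [← he, mul_div_cancel_right₀ _ hw0]]
    exact div_mem (hR u hu) (hR w hw)
  rw [eq_top_iff]
  intro z _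
  rcases le_or_gt (P.1 z) 1 with hz | hz
  · exact key z hz
  · have := key z⁻¹ (by rw [map_inv₀]; exact inv_le_one_of_one_le₀ hz.le)
    simpa using inv_mem this

end Groth.Agent.FFLib
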