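import Groth.Agent.FFLib.Diff.Dual
import Groth.Agent.FFLib.Jacobian
import Groth.Agent.FFLib.PlaneGenus
import Groth.Agent.FFLib.PlaneRel
import Groth.Agent.FFLib.Rational
import Groth.Agent.FFLib.Diff.Nonsing
import Groth.Agent.FFLib.SV.AtPlace
import Mathlib.FieldTheory.SeparableDegree

/-! `dx / f_y` at a finite point of a monic affine plane model. -/

set_option linter.unusedSectionVars false
set_option linter.style.haveILetI false

namespace Groth.Agent.FFLib.Adjoint

open FunFld WithZero Groth.Agent.FFLib IntermediateField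

universe u v

variable {k : Type u} {K : Type v} [Field k] [Field K] [Algebra k K] [IsAlgClosed k]

local notation:max "kx" x:max => k⟮x⟯

theorem val_pderiv_mem {L : Type*} [Field L] [Algebra k L] (Q : Place k L) {σ : Type*} {x : σ → L} {a : σ → k}
    (hx : ∀ i, Q.1 (x i) ≤ 1) (ha : ∀ i, Q.1 (x i - algebraMap k L (a i)) < 1) (p : MvPolynomial σ k) :
    Q.1 (MvPolynomial.aeval x p) ≤ 1 ∧
      Q.1 (MvPolynomial.aeval x p - algebraMap k L (MvPolynomial.eval a p)) < 1 := by
  induction p using MvPolynomial.induction_on with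
  | C c => refine ⟨?_, ?_⟩ <;> simp [Q.2.1 c]
  | add p q hp hq =>
    rw [map_add (MvPolynomial.aeval x), map_add (MvPolynomial.eval a), map_add (algebraMap k L),
      add_sub_add_comm]
    exact ⟨(Q.1.map_add _ _).trans (max_le hp.1 hq.1), (Q.1.map_add _ _).trans_lt (max_lt hp.2 hq.2)⟩
  | mul_X p i hp =>
    rw [map_mul (MvPolynomial.aeval x), map_mul (MvPolynomial.eval a), MvPolynomial.aeval_X,
      MvPolynomial.eval_X, map_mul (algebraMap k L),
      show MvPolynomial.aeval x p * x i - algebraMap k L (MvPolynomial.eval a p) * algebraMap k L (a i) =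
        (MvPolynomial.aeval x p - algebraMap k L (MvPolynomial.eval a p)) * x i +
          algebraMap k L (MvPolynomial.eval a p) * (x i - algebraMap k L (a i)) by ring]
    refine ⟨by rw [map_mul]; exact mul_le_one' hp.1 (hx i), (Q.1.map_add _ _).trans_lt (max_lt ?_ ?_)⟩
    · rw [map_mul]; exact lt_of_le_of_lt (mul_le_of_le_one_right' (hx i)) hp.2
    · rw [map_mul]; exact lt_of_le_of_lt (mul_le_of_le_one_left' (Q.2.1 _)) (ha i)

/-- A value at a point does not vanish, so the function is a unit. -/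
theorem val_aeval_eq_one {L : Type*} [Field L] [Algebra k L] (Q : Place k L) {σ : Type*} {x : σ → L} {a : σ → k}
    (hx : ∀ i, Q.1 (x i) ≤ 1) (ha : ∀ i, Q.1 (x i - algebraMap k L (a i)) < 1) {p : MvPolynomial σ k}
    (hp : MvPolynomial.eval a p ≠ 0) : Q.1 (MvPolynomial.aeval x p) = 1 := by
  refine (Valuation.map_eq_of_sub_lt _ ?_).trans (val_algebraMap Q hp)
  rw [val_algebraMap Q hp]
  exact (val_pderiv_mem Q hx ha p).2

theorem mem_affLoc_pair {x y : K} (Q : Place k K) :
    x ∈ affLoc Q ![x, y] ∧ y ∈ affLoc Q ![x, y] :=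
  ⟨adjoin_le_affLoc Q _ (Algebra.subset_adjoin ⟨0, rfl⟩), adjoin_le_affLoc Q _ (Algebra.subset_adjoin ⟨1, rfl⟩)⟩

/-- A functional field `k(x)` is nonsingular: its integers at a place are fractions in `x`. -/
theorem mem_affLoc_line {x y : K} (hx : Transcendental k x) (Q : Place k K) (hxQ : Q.1 x ≤ 1)
    (P : Place k (kx x)) {e : ℕ} (he : IsOverWith Q P e) (he1 : 1 ≤ e) {c : kx x} (hc : P.1 c ≤ 1) :
    (c : K) ∈ affLoc Q ![x, y] := by
  classical
  set g := AdjoinSimple.gen k x with hgdef
  have hF := isFF_adjoin (k := k) hx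
  have hgtr : Transcendental k g := fun h => hx (h.algHom (kx x).val)
  have hgP : P.1 g ≤ 1 := by
    have h := he g
    rw [show algebraMap (kx x) K g = x from rfl] at h
    rw [h] at hxQ
    exact (pow_le_one_iff (by omega)).mp hxQ
  obtain ⟨a, ha⟩ := exists_value hF (deg_eq_one hF P) hgP
  have htop : IntermediateField.adjoin k (Set.range fun _ : Fin 1 => g) = ⊤ := by
    apply IntermediateField.map_injective (kx x).val
    rw [Set.range_const, IntermediateField.adjoin_map, Set.image_singleton, ← AlgHom.fieldRange_eq_map,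
      IntermediateField.fieldRange_val]
    rfl
  have hker : RingHom.ker (MvPolynomial.aeval (R := k) fun _ : Fin 1 => g) =
      Ideal.span (∅ : Set (MvPolynomial (Fin 1) k)) := by
    rw [Ideal.span_empty, ← RingHom.injective_iff_ker_eq_bot]
    exact algebraicIndependent_unique_type_iff.mpr hgtr
  have htan : Module.finrank k (tangent (∅ : Set (MvPolynomial (Fin 1) k)) fun _ => a) = 1 := by
    rw [show tangent (∅ : Set (MvPolynomial (Fin 1) k)) (fun _ => a) = ⊤ from
      eq_top_iff.mpr fun v _ => by simp [mem_tangent], finrank_top]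
    simp
  obtain ⟨w, hw, hw1, hcw⟩ := ((jacobian_criterion P (x := fun _ : Fin 1 => g) (a := fun _ => a) (fun _ => ha)
    htop hker).mpr htan) c hc
  have hmap : ∀ z ∈ Algebra.adjoin k (Set.range fun _ : Fin 1 => g), (z : K) ∈ Algebra.adjoin k (Set.range ![x, y]) := by
    intro z hz
    have h : Algebra.adjoin k (Set.range fun _ : Fin 1 => g) ≤
        (Algebra.adjoin k (Set.range ![x, y])).comap (kx x).val := Algebra.adjoin_le (by
      rintro _ ⟨_, rfl⟩
      exact Algebra.subset_adjoin ⟨0, rfl⟩)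
    exact h hz
  refine ⟨(w : K), hmap w hw, ?_, hmap _ hcw⟩
  rw [show (w : K) = algebraMap (kx x) K w from rfl, he, hw1, one_pow]

/-- The order of `dx / f_y` at a finite point, and the conductor. -/
theorem adjoint_affine (hK : IsFunctionField k K) {x y : K}
    (hxy : IntermediateField.adjoin k ({x, y} : Set K) = ⊤)
    (hdx : KaehlerDifferential.D k K x ≠ 0)
    (hexact : ∀ Q : Place k K, Q.1 y ≤ 1 ∨ Q.1 y ≤ Q.1 x) {e : ℕ}
    (hdeg : (FunFld.mapDiv k ![(1 : K), x, y]).deg = e)
    (h : Polynomial (kx x)) (hh : h.natDegree ≤ e) {c : k} (hc : c ≠ 0)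
    (hce : h.coeff e = algebraMap k (kx x) c) (hroot : Polynomial.aeval y h = 0)
    (hfy : Polynomial.aeval y (Polynomial.derivative h) ≠ 0)
    (Q : Place k K) (hxQ : Q.1 x ≤ 1) (ψ : K →ₐ[k] LaurentSeries k) (hψ : LocRes.IsExpansionAt Q.1 ψ) :
    0 ≤ LocRes.ordDiff ψ 1 x ∧ LocRes.ordDiff ψ 1 x ≤ Q.ord (Polynomial.aeval y (Polynomial.derivative h)) ∧
      (Q.ord (Polynomial.aeval y (Polynomial.derivative h)) = LocRes.ordDiff ψ 1 x →
        ∀ z : K, Q.1 z ≤ 1 → z ∈ affLoc Q ![x, y]) := by
  classical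
  have hx : Transcendental k x := fun halg => hdx (by
    obtain ⟨a, rfl⟩ := hK.2 x halg
    exact Derivation.map_algebraMap _ _)
  have hx0 : x ≠ 0 := fun e0 => hx (e0 ▸ isAlgebraic_zero)
  set φ3 : Fin 3 → K := ![(1 : K), x, y]
  set D := FunFld.mapDiv k φ3
  -- the chart
  have hbpf := isBpfSeries_span hK.1 φ3 ⟨0, rfl⟩
  have hchart : PlaneChart D (Submodule.span k (Set.range φ3)) 1 x y := by
    refine ⟨by congr 1; ext z; simp [φ3, eq_comm, or_comm, or_left_comm, or_assoc], hbpf.le, one_ne_zero, hx0, fun R => ?_, ?_⟩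
    · have hD : D R = -Finset.univ.inf' Finset.univ_nonempty (fun i => R.ord (φ3 i)) := mapDiv_apply hK.1 φ3 R
      rw [hD, neg_neg]
      have hinf : min (R.ord (1 : K)) (R.ord x) ≤ R.ord y := by
        rcases eq_or_ne y 0 with rfl | hy0
        · rw [show R.ord (0 : K) = 0 by simp [Place.ord], show R.ord (1 : K) = 0 by simp [Place.ord]]
          exact min_le_left _ _
        rw [show R.ord (1 : K) = 0 by simp [Place.ord]]
        rcases hexact R with h1 | h1
        · exact le_trans (min_le_left _ _) ((val_le_one_iff R hy0).mp h1)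
        · refine le_trans (min_le_right _ _) ?_
          rw [val_eq_exp R hx0, val_eq_exp R hy0, exp_le_exp] at h1
          omega
      have : Finset.univ.inf' Finset.univ_nonempty (fun i => R.ord (φ3 i)) = min (R.ord (1 : K)) (R.ord x) := by
        refine le_antisymm (le_min (Finset.inf'_le _ (Finset.mem_univ (0 : Fin 3)))
          (Finset.inf'_le _ (Finset.mem_univ (1 : Fin 3)))) (Finset.le_inf' _ _ fun i _ => ?_)
        fin_cases i
        · exact min_le_left _ _
        · exact min_le_right _ _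
        · exact hinf
      rw [this]
      rcases le_total (R.ord (1 : K)) (R.ord x) with h1 | h1
      · exact Or.inl (min_eq_left h1).symm
      · exact Or.inr (min_eq_right h1).symm
    · rw [div_one, div_one]; exact hxy
  have hd : 0 < D.deg := (exists_chart hK hxy).1
  haveI hfin : FiniteDimensional (kx x) K := IsFF.finite_adjoin hK.1 hx
  have hgen : IntermediateField.adjoin (kx x) ({y} : Set K) = ⊤ := by
    refine IntermediateField.restrictScalars_injective k ?_
    rw [adjoin_adjoin_left, IntermediateField.restrictScalars_top, Set.singleton_union]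
    exact hxy
  have hint : IsIntegral (kx x) y := IsIntegral.of_finite _ _
  have hnd : (minpoly (kx x) y).natDegree = e := by
    have h1 := hchart.natDegree_minpoly hK hd
    rw [div_one, div_one, hdeg] at h1
    exact_mod_cast h1
  have hdeg' : h.natDegree = e := le_antisymm hh (Polynomial.le_natDegree_of_ne_zero (by
    rw [hce]; simpa using hc))
  have hlead : h.leadingCoeff = algebraMap k (kx x) c := by rw [Polynomial.leadingCoeff, hdeg', hce]
  have heq : h = Polynomial.C (algebraMap k (kx x) c) * minpoly (kx x) y := by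
    rw [← hlead]
    exact Polynomial.eq_leadingCoeff_mul_of_monic_of_dvd_of_natDegree_le (minpoly.monic hint)
      (minpoly.dvd _ _ hroot) (by omega)
  set g' := Polynomial.aeval y (Polynomial.derivative (minpoly (kx x) y)) with hg'
  have hfyg : Polynomial.aeval y (Polynomial.derivative h) = algebraMap k K c * g' := by
    rw [heq, Polynomial.derivative_C_mul, map_mul, Polynomial.aeval_C, ← IsScalarTower.algebraMap_apply]
  have hg'0 : g' ≠ 0 := fun h0 => hfy (by rw [hfyg, h0, mul_zero])
  have hordg : Q.ord (Polynomial.aeval y (Polynomial.derivative h)) = Q.ord g' := by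
    rw [hfyg, ord_mul Q (by simpa using hc) hg'0, ord_algebraMap, zero_add]
  haveI : Algebra.IsSeparable (kx x) K := by
    have hsep : IsSeparable (kx x) y := by
      refine Polynomial.separable_iff_derivative_ne_zero (minpoly.irreducible hint) |>.mpr fun h0 => hg'0 ?_
      rw [hg', h0, map_zero]
    have := (IntermediateField.isSeparable_adjoin_simple_iff_isSeparable (kx x) K).mpr hsep
    rw [hgen] at this
    exact Algebra.IsSeparable.of_algHom (kx x) _ (IntermediateField.topEquiv (F := kx x) (E := K)).symm.toAlgHom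
  -- the place below
  set g := AdjoinSimple.gen k x with hgdef
  have hgx : algebraMap (kx x) K g = x := rfl
  have hF0 := isFF_adjoin (k := k) hx
  have hK0 : IsFunctionField k (kx x) := ⟨hF0, fun z hz => by
    obtain ⟨a, ha⟩ := hK.2 _ (hz.algHom (kx x).val)
    exact ⟨a, Subtype.ext ha⟩⟩
  have hg0 := isGeometric_of_perfect hK0
  obtain ⟨P, eP, he1, he⟩ := exists_over hF0 Q
  have hgP : P.1 g ≤ 1 := by
    have h' := he g
    rw [hgx] at h'
    rw [h'] at hxQ
    exact (pow_le_one_iff (by omega)).mp hxQ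
  obtain ⟨c0, hc0⟩ := exists_value hF0 (deg_eq_one hF0 P) hgP
  set t := g - algebraMap k (kx x) c0 with htdef
  have httop : k⟮t⟯ = (⊤ : IntermediateField k (kx x)) := by
    have h1 : k⟮g⟯ = (⊤ : IntermediateField k (kx x)) := by
      apply IntermediateField.map_injective (kx x).val
      rw [IntermediateField.adjoin_map, Set.image_singleton, ← AlgHom.fieldRange_eq_map,
        IntermediateField.fieldRange_val]
      rfl
    rw [eq_top_iff, ← h1, adjoin_simple_le_iff]
    have h2 : g = t + algebraMap k (kx x) c0 := by rw [htdef, sub_add_cancel]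
    rw [h2]
    exact add_mem (mem_adjoin_simple_self k t) (IntermediateField.algebraMap_mem _ c0)
  have httr : Transcendental k t := fun halg => by
    have : IsAlgebraic k g := by
      rw [show g = t + algebraMap k (kx x) c0 by rw [htdef, sub_add_cancel]]
      exact halg.add (isAlgebraic_algebraMap c0)
    exact hx (this.algHom (kx x).val)
  have htP : P.1 t = exp (-1) := by
    have h1 := sum_ord_deg_le hF0 {P} httr (by simpa using hc0)
    rw [Finset.sum_singleton, deg_eq_one hF0 P, httop, IntermediateField.finrank_top] at h1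
    have ht0 : t ≠ 0 := fun e0 => httr (e0 ▸ isAlgebraic_zero)
    have h2 := (val_lt_one_iff P ht0).mp hc0
    rw [val_eq_exp P ht0]
    congr 1
    push_cast at h1
    omega
  obtain ⟨φ, hφ, -⟩ := exists_expansion' hK0 P htP
  have hDg : KaehlerDifferential.D k (kx x) g ≠ 0 := fun h0 => hdx (by
    have h1 := KaehlerDifferential.map_D k k (kx x) K g
    rw [h0, map_zero, hgx] at h1
    exact h1.symm)
  have hDt : LocRes.D k (φ t) = LocRes.D k (φ g) := by
    rw [htdef, map_sub, map_sub]
    have : LocRes.D k (φ (algebraMap k (kx x) c0)) = 0 := dExp_const φ c0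
    rw [this, sub_zero]
  have hxφ : LocRes.vDiff φ 1 g = 1 := by
    rw [vDiff_one, ← hDt, ← vDiff_one]
    exact vDiff_unif hφ htP
  have hxψ : LocRes.vDiff ψ 1 (algebraMap (kx x) K g) ≠ 0 := by
    rw [hgx, vDiff_one]
    exact (map_ne_zero _).mpr (dExp_ne_zero hψ hK (isGeometric_of_perfect hK) hdx)
  have hdiff : LocRes.diffExp φ ψ eP g = LocRes.ordDiff ψ 1 x := by
    rw [LocRes.diffExp, hgx, show LocRes.ordDiff φ 1 g = 0 by rw [LocRes.ordDiff, hxφ]; simp, mul_zero, sub_zero]
  have hf : IsResTrivial P Q := fun z hz => by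
    obtain ⟨a, ha⟩ := exists_value hK.1 (deg_eq_one hK.1 Q) hz
    exact ⟨algebraMap k (kx x) a, P.2.1 a, by rwa [← IsScalarTower.algebraMap_apply]⟩
  have hy1 : ∀ R : Place k K, IsOver R P → R.1 y ≤ 1 := by
    rintro R ⟨e', he'⟩
    rcases hexact R with h1 | h1
    · exact h1
    · refine h1.trans ?_
      rw [← hgx, he']
      exact pow_le_one' hgP e'
  have hadj : Algebra.adjoin (kx x) ({y} : Set K) = ⊤ := by
    have h1 := (IntermediateField.adjoin_simple_toSubalgebra_of_isAlgebraic hint.isAlgebraic).symm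
    rw [h1, hgen, IntermediateField.top_toSubalgebra]
  obtain ⟨hle, heqcase⟩ := diffExp_le_deriv hφ hψ hK0 hg0 he (x := g) (by rw [hxφ]; exact one_ne_zero) hxψ hf
    hadj hy1
  rw [hdiff] at hle heqcase
  refine ⟨?_, hordg ▸ hle, fun hEq z hz => ?_⟩
  · have h1 : LocRes.vDiff ψ 1 x ≤ exp (1 : ℤ) ∧ Low (ψ x) 0 :=
      ⟨by
        have hlow : Low (ψ x) 0 := (low_map_zero_iff hψ x).mpr hxQ
        rw [vDiff_one, show (1 : ℤ) = -(0 - 1) by ring]
        exact (low_iff_val _ _).mp hlow.deriv, (low_map_zero_iff hψ x).mpr hxQ⟩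
    have hval : LocRes.vDiff ψ 1 x ≤ 1 := by
      rw [vDiff_one, ← exp_zero, show (0 : ℤ) = -0 from rfl]
      refine (low_iff_val _ _).mp fun i hi => ?_
      rw [LocRes.D_coeff]
      rcases eq_or_lt_of_le (show i + 1 ≤ 0 by omega) with h0 | h0
      · rw [h0]; simp
      · rw [h1.2 _ h0, smul_zero]
    replace h1 := hval
    have h2 : LocRes.vDiff ψ 1 x ≠ 0 := by rw [← hgx]; exact hxψ
    rw [LocRes.ordDiff]
    rw [← exp_log h2, ← exp_zero, exp_le_exp] at h1
    omega
  rw [hordg] at hEq
  obtain ⟨u, hu1, hu⟩ := heqcase hEq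
  -- semilocally integral elements
  have hsemi : ∀ w : K, (∀ R : Place k K, IsOver R P → R.1 w ≤ 1) → w ∈ affLoc Q ![x, y] := by
    have hpol : ∀ p : Polynomial P.O,
        p.eval₂ ((algebraMap (kx x) K).comp P.O.subtype) y ∈ affLoc Q ![x, y] := fun p => by
      rw [Polynomial.eval₂_eq_sum_range]
      refine sum_mem fun i _ => Subalgebra.mul_mem _ ?_ (pow_mem (mem_affLoc_pair Q).2 i)
      exact mem_affLoc_line hx Q hxQ P he he1 (p.coeff i).2
    have hu' : u⁻¹ ∈ affLoc Q ![x, y] := by
      obtain ⟨p, hp⟩ := hu 1 (fun R _ => (map_one R.1).le)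
      rw [one_mul] at hp
      exact inv_mem_affLoc Q _ (hp ▸ hpol p) hu1
    intro w hw
    obtain ⟨p, hp⟩ := hu w hw
    have hu0 : u ≠ 0 := fun e0 => by rw [e0, map_zero] at hu1; exact zero_ne_one hu1
    rw [← mul_inv_cancel_right₀ hu0 w, ← hp]
    exact Subalgebra.mul_mem _ (hpol p) hu'
  set Qs := (over_finite (K' := K) hF0 P).toFinset
  have hQs : ∀ R, R ∈ Qs ↔ IsOver R P := fun R => Set.Finite.mem_toFinset _
  obtain ⟨s, hs⟩ := exists_approx Qs (fun R => if R = Q then 1 else 0)
    (fun R => if R = Q then 1 else max 0 (-R.ord z))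
  have hsQ : Q.1 s = 1 := by
    have h1 := hs Q ((hQs Q).mpr ⟨eP, he⟩)
    simp only [↓reduceIte] at h1
    refine (Valuation.map_eq_of_sub_lt _ ?_).trans (map_one Q.1)
    rw [map_one]
    exact h1.trans_lt (by rw [← exp_zero, exp_lt_exp]; omega)
  have hsR : ∀ R : Place k K, IsOver R P → R.1 s ≤ 1 ∧ R.1 (z * s) ≤ 1 := fun R hR => by
    by_cases hRQ : R = Q
    · subst hRQ
      exact ⟨hsQ.le, by rw [map_mul, hsQ, mul_one]; exact hz⟩
    have h1 := hs R ((hQs R).mpr hR)
    simp only [if_neg hRQ, sub_zero] at h1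
    refine ⟨h1.trans (by rw [← exp_zero, exp_le_exp]; omega), ?_⟩
    rcases eq_or_ne z 0 with rfl | hz0
    · simp
    rw [map_mul, val_eq_exp R hz0]
    refine (mul_le_mul' le_rfl h1).trans ?_
    rw [← exp_add, ← exp_zero, exp_le_exp]; omega
  have hs0 : s ≠ 0 := fun e0 => by rw [e0, map_zero] at hsQ; exact zero_ne_one hsQ
  rw [← mul_inv_cancel_right₀ hs0 z]
  exact Subalgebra.mul_mem _ (hsemi _ fun R hR => (hsR R hR).2)
    (inv_mem_affLoc Q _ (hsemi _ fun R hR => (hsR R hR).1) hsQ)

end Groth.Agent.FFLib.Adjoint
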