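import Mathlib.RingTheory.MvPolynomial.EulerIdentity
import Mathlib.RingTheory.Kaehler.Basic
import Mathlib.LinearAlgebra.Matrix.Determinant.Basic
import Mathlib.Algebra.MvPolynomial.PDeriv
import Mathlib.Tactic

/-! A change of coordinates in the plane and the differential `dx / f_y`. -/

set_option linter.unusedSectionVars false

namespace Groth.Agent.FFLib

open MvPolynomial

variable {k K : Type*} [Field k] [Field K] [Algebra k K]

theorem D_mvAeval {σ : Type*} [Fintype σ] {R M : Type*} [CommRing R] [Algebra k R] [AddCommGroup M] [Module k M]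
    [Module R M] [IsScalarTower k R M] (D : Derivation k R M) (g : MvPolynomial σ k) (p : σ → R) :
    D (aeval p g) = ∑ i, aeval p (pderiv i g) • D (p i) := by
  classical
  induction g using MvPolynomial.induction_on with
  | C a => simp
  | add f g hf hg => simp [hf, hg, add_smul, Finset.sum_add_distrib]
  | mul_X f j hf =>
    rw [map_mul, aeval_X, Derivation.leibniz, hf, Finset.smul_sum]
    simp only [pderiv_mul, map_add, map_mul, aeval_X, add_smul, Finset.sum_add_distrib, pderiv_X, Pi.single_apply,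
      apply_ite (aeval p), map_one, map_zero, mul_ite, mul_one, mul_zero, ite_smul, zero_smul,
      Finset.sum_ite_eq, Finset.mem_univ, if_true, ← smul_assoc, smul_eq_mul, mul_comm (aeval p (pderiv _ f))]
    exact add_comm _ _

theorem sum_X_mul_pderiv_eval {σ : Type*} [Fintype σ] {g : MvPolynomial σ k} {e : ℕ} (hg : g.IsHomogeneous e)
    (p : σ → K) : ∑ i, p i * aeval p (pderiv i g) = (e : K) * aeval p g := by
  have h := congrArg (aeval p) hg.sum_X_mul_pderiv
  simpa [nsmul_eq_mul] using h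

/-- Cofactors of a `3 × 3` matrix applied to two vectors. -/
theorem cross_identity {M : Type*} [AddCommGroup M] [Module K M] (A : Matrix (Fin 3) (Fin 3) K) (u : Fin 3 → K)
    (du : Fin 3 → M) :
    A.det • (u 0 • du 1 - u 1 • du 0) =
      A 0 2 • ((∑ j, A 1 j * u j) • (∑ j, A 2 j • du j) - (∑ j, A 2 j * u j) • (∑ j, A 1 j • du j)) +
      A 1 2 • ((∑ j, A 2 j * u j) • (∑ j, A 0 j • du j) - (∑ j, A 0 j * u j) • (∑ j, A 2 j • du j)) +
      A 2 2 • ((∑ j, A 0 j * u j) • (∑ j, A 1 j • du j) - (∑ j, A 1 j * u j) • (∑ j, A 0 j • du j)) := by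
  simp only [Matrix.det_fin_three, Fin.sum_univ_three]
  module

theorem aeval_scale {σ : Type*} {g : MvPolynomial σ k} {e : ℕ} (hg : g.IsHomogeneous e) (c : K) (p : σ → K) :
    aeval (fun i => c * p i) g = c ^ e * aeval p g := by
  classical
  rw [aeval_def, aeval_def, eval₂_eq, eval₂_eq, Finset.mul_sum]
  refine Finset.sum_congr rfl fun m hm => ?_
  have hdeg : ∑ i ∈ m.support, m i = e := by
    have h := hg (mem_support_iff.mp hm)
    rw [Finsupp.weight_apply, Finsupp.sum] at h
    simpa using h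
  simp only [mul_pow, Finset.prod_mul_distrib, Finset.prod_pow_eq_pow_sum, hdeg]
  ring

/-- `dx / f_y` under a projective change of coordinates. -/
theorem coord_change (f : MvPolynomial (Fin 3) k) {e : ℕ} (hf : f.IsHomogeneous e) (x y : K)
    (hfxy : aeval ![(1 : K), x, y] f = 0) (A : Matrix (Fin 3) (Fin 3) k) (u : Fin 3 → K)
    (hu : ∀ i, ∑ j, algebraMap k K (A i j) * u j = ![(1 : K), x, y] i) (hu0 : u 0 ≠ 0)
    (hfy : aeval ![(1 : K), x, y] (pderiv 2 f) ≠ 0)
    (hfy' : aeval ![(1 : K), u 1 / u 0, u 2 / u 0]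
      (pderiv 2 (aeval (fun i : Fin 3 => ∑ j, C (A i j) * X j) f)) ≠ 0) :
    (aeval ![(1 : K), x, y] (pderiv 2 f))⁻¹ • KaehlerDifferential.D k K x =
      (algebraMap k K A.det * (u 0)⁻¹ ^ ((e : ℤ) - 3) *
        (aeval ![(1 : K), u 1 / u 0, u 2 / u 0] (pderiv 2 (aeval (fun i : Fin 3 => ∑ j, C (A i j) * X j) f)))⁻¹) •
        KaehlerDifferential.D k K (u 1 / u 0) := by
  classical
  have he : 1 ≤ e := by
    by_contra h0
    obtain rfl : e = 0 := by omega
    rw [totalDegree_eq_zero_iff_eq_C.mp (Nat.le_zero.mp hf.totalDegree_le)] at hfy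
    simp at hfy
  set p : Fin 3 → K := ![(1 : K), x, y]
  set v : Fin 3 → K := ![(1 : K), u 1 / u 0, u 2 / u 0]
  set F := aeval (fun i : Fin 3 => ∑ j, C (A i j) * X j) f
  set g := fun i => aeval p (pderiv i f) with hg
  have hv : ∀ j, v j = (u 0)⁻¹ * u j := fun j => by
    fin_cases j <;> simp [v, div_eq_inv_mul, hu0]
  have hAv : (fun i => aeval v (∑ j, C (A i j) * X j)) = fun i => (u 0)⁻¹ * p i := by
    funext i
    rw [← hu i, Finset.mul_sum, map_sum]
    refine Finset.sum_congr rfl fun j _ => ?_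
    rw [map_mul, aeval_C, aeval_X, hv]; ring
  have hF2 : aeval v (pderiv 2 F) = (u 0)⁻¹ ^ (e - 1) * ∑ i, algebraMap k K (A i 2) * g i := by
    have key : pderiv 2 F = ∑ i, C (A i 2) * aeval (fun i : Fin 3 => ∑ j, C (A i j) * X j) (pderiv i f) := by
      simp only [F]
      rw [D_mvAeval (pderiv 2) f]
      refine Finset.sum_congr rfl fun i _ => ?_
      rw [smul_eq_mul, mul_comm]
      congr 1
      simp [Fin.sum_univ_three, pderiv_X, Pi.single_apply]
    rw [key, map_sum, Finset.mul_sum]
    refine Finset.sum_congr rfl fun i _ => ?_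
    rw [map_mul, aeval_C, ← AlgHom.comp_apply, comp_aeval, hAv, aeval_scale hf.pderiv]
    ring
  rw [hF2] at hfy'
  have hG : ∑ i, algebraMap k K (A i 2) * g i ≠ 0 := right_ne_zero_of_mul hfy'
  have hEuler : g 0 + x * g 1 + y * g 2 = 0 := by
    have h := sum_X_mul_pderiv_eval hf p
    rw [hfxy, mul_zero, Fin.sum_univ_three] at h
    simpa [p] using h
  have hd : g 1 • KaehlerDifferential.D k K x + g 2 • KaehlerDifferential.D k K y = 0 := by
    have h := D_mvAeval (KaehlerDifferential.D k K) f p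
    rw [hfxy, map_zero, Fin.sum_univ_three] at h
    simpa [p] using h.symm
  have hp : ∀ i, ∑ j, algebraMap k K (A i j) • KaehlerDifferential.D k K (u j) = KaehlerDifferential.D k K (p i) :=
    fun i => by
    rw [← hu i, map_sum]
    refine Finset.sum_congr rfl fun j _ => ?_
    rw [Derivation.leibniz, Derivation.map_algebraMap, smul_zero, add_zero]
  have hc := cross_identity (A.map (algebraMap k K)) u (fun j => KaehlerDifferential.D k K (u j))
  simp only [Matrix.map_apply] at hc
  rw [← RingHom.mapMatrix_apply, ← RingHom.map_det, hu 0, hu 1, hu 2, hp 0, hp 1, hp 2] at hc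
  simp only [p, Matrix.cons_val_zero, Matrix.cons_val_one, Matrix.cons_val, Derivation.map_one_eq_zero, smul_zero,
    one_smul, zero_sub] at hc
  rw [hF2, Derivation.leibniz_div, ← zpow_natCast, Nat.cast_sub he]
  have hgg : g 2 • (algebraMap k K A.det • (u 0 • KaehlerDifferential.D k K (u 1) - u 1 • KaehlerDifferential.D k K (u 0))) =
      (∑ i, algebraMap k K (A i 2) * g i) • KaehlerDifferential.D k K x := by
    rw [hc, Fin.sum_univ_three, show g 0 = -(x * g 1 + y * g 2) by linear_combination hEuler]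
    have hdy : g 2 • KaehlerDifferential.D k K y = -(g 1 • KaehlerDifferential.D k K x) :=
      eq_neg_of_add_eq_zero_right hd
    linear_combination (norm := module)
      (algebraMap k K (A 0 2) * x - algebraMap k K (A 1 2)) • hdy
  have h2 : (g 2)⁻¹ • KaehlerDifferential.D k K x =
      (∑ i, algebraMap k K (A i 2) * g i)⁻¹ • (algebraMap k K A.det •
        (u 0 • KaehlerDifferential.D k K (u 1) - u 1 • KaehlerDifferential.D k K (u 0))) := by
    rw [eq_inv_smul_iff₀ hG, smul_comm, ← hgg, inv_smul_smul₀ (show g 2 ≠ 0 from hfy)]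
  rw [show (aeval p) (pderiv 2 f) = g 2 from rfl, h2]
  simp only [smul_smul]
  congr 1
  have hw : (u 0)⁻¹ ≠ 0 := inv_ne_zero hu0
  rw [show ((e : ℤ) - ((1 : ℕ) : ℤ)) = ((e : ℤ) - 3) + ((2 : ℕ) : ℤ) by push_cast; ring, zpow_add₀ hw, zpow_natCast]
  have hz : (u 0)⁻¹ ^ ((e : ℤ) - 3) ≠ 0 := zpow_ne_zero _ hw
  generalize (u 0)⁻¹ ^ ((e : ℤ) - 3) = Z at hz ⊢
  field_simp

end Groth.Agent.FFLib
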