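import Groth.Agent.FFLib.PlaneGenus
import Groth.Agent.FFLib.PlaneCoord
import Groth.Agent.FFLib.SV.WDiv

/-! The adjoint divisor under a change of coordinates. -/

set_option linter.unusedSectionVars false

namespace Groth.Agent.FFLib

open FunFld WithZero

variable {k K : Type*} [Field k] [Field K] [Algebra k K]

theorem vDiff_of_smul_eq {F : Type*} [Field F] [Algebra k F] (φ : K →ₐ[k] LaurentSeries F) {a b x x' : K}
    (h : a • KaehlerDifferential.D k K x = b • KaehlerDifferential.D k K x') :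
    LocRes.vDiff φ a x = LocRes.vDiff φ b x' := by
  let _i := φ.toRingHom.toAlgebra
  have _t : IsScalarTower k K (LaurentSeries F) := LocRes.isScalarTower_exp φ
  have h' := congrArg (LocRes.dExp φ).liftKaehlerDifferential h
  rw [map_smul, map_smul, Derivation.liftKaehlerDifferential_comp_D, Derivation.liftKaehlerDifferential_comp_D] at h'
  exact congrArg Valued.v h'

theorem val_span_le_mapDiv (hF : IsFF k K) {ι : Type*} [Fintype ι] [Nonempty ι] (φ : ι → K) (h1 : ∃ i, φ i = 1)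
    {z : K} (hz : z ∈ Submodule.span k (Set.range φ)) (P : Place k K) : P.1 z ≤ exp (FunFld.mapDiv k φ P) :=
  (isBpfSeries_span hF φ h1).1 hz P

theorem mapDiv_le_of_val (hF : IsFF k K) {ι : Type*} [Fintype ι] [Nonempty ι] (φ : ι → K) (h1 : ∃ i, φ i = 1)
    {P : Place k K} {n : ℤ} (h : ∀ i, P.1 (φ i) ≤ exp n) : FunFld.mapDiv k φ P ≤ n := by
  obtain ⟨j, hj⟩ := h1
  have hn : 0 ≤ n := by
    have := h j
    rw [hj, map_one, ← exp_zero, exp_le_exp] at this
    exact this
  rw [mapDiv_apply hF, neg_le, Finset.le_inf'_iff]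
  intro i _
  rcases eq_or_ne (φ i) 0 with h0 | h0
  · rw [h0, ord_zero]; omega
  · exact (val_le_exp_iff P h0 n).mp (h i)

theorem adjoint_coord_change [IsAlgClosed k] (hK : IsFunctionField k K) (f : MvPolynomial (Fin 3) k) {e : ℕ}
    (hf : f.IsHomogeneous e) (x y : K) (hfxy : MvPolynomial.aeval ![(1 : K), x, y] f = 0)
    (hdx : KaehlerDifferential.D k K x ≠ 0) (he : (FunFld.mapDiv k ![(1 : K), x, y]).deg = e)
    (A : Matrix (Fin 3) (Fin 3) k) (hA : A.det ≠ 0) (u : Fin 3 → K)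
    (hu : ∀ i, ∑ j, algebraMap k K (A i j) * u j = ![(1 : K), x, y] i) (hu0 : u 0 ≠ 0)
    (hfy : MvPolynomial.aeval ![(1 : K), x, y] (MvPolynomial.pderiv 2 f) ≠ 0)
    (hfy' : MvPolynomial.aeval ![(1 : K), u 1 / u 0, u 2 / u 0] (MvPolynomial.pderiv 2
      (MvPolynomial.aeval (fun i : Fin 3 => ∑ j, MvPolynomial.C (A i j) * MvPolynomial.X j) f)) ≠ 0)
    (Φ : Place k K → (K →ₐ[k] LaurentSeries k)) (hΦ : ∀ P : Place k K, LocRes.IsExpansionAt P.1 (Φ P)) :
    ((FunFld.mapDiv k ![(1 : K), x, y]).deg - 3) • FunFld.mapDiv k ![(1 : K), x, y] -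
        FunFld.divDiff Φ (MvPolynomial.aeval ![(1 : K), x, y] (MvPolynomial.pderiv 2 f))⁻¹ x =
      ((FunFld.mapDiv k ![(1 : K), u 1 / u 0, u 2 / u 0]).deg - 3) •
          FunFld.mapDiv k ![(1 : K), u 1 / u 0, u 2 / u 0] -
        FunFld.divDiff Φ (MvPolynomial.aeval ![(1 : K), u 1 / u 0, u 2 / u 0] (MvPolynomial.pderiv 2
          (MvPolynomial.aeval (fun i : Fin 3 => ∑ j, MvPolynomial.C (A i j) * MvPolynomial.X j) f)))⁻¹ (u 1 / u 0) := by
  classical
  have hF := hK.1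
  have hg := isGeometric_of_perfect hK
  set p : Fin 3 → K := ![(1 : K), x, y] with hp
  set v : Fin 3 → K := ![(1 : K), u 1 / u 0, u 2 / u 0] with hvdef
  set g := MvPolynomial.aeval p (MvPolynomial.pderiv 2 f) with hgdef
  set G := MvPolynomial.aeval v (MvPolynomial.pderiv 2
      (MvPolynomial.aeval (fun i : Fin 3 => ∑ j, MvPolynomial.C (A i j) * MvPolynomial.X j) f)) with hGdef
  have hv : ∀ j, v j = (u 0)⁻¹ * u j := fun j => by
    fin_cases j <;> simp [v, div_eq_inv_mul, hu0]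
  have hspan : ∀ j, u j ∈ Submodule.span k (Set.range p) := fun j => by
    have hinj : A⁻¹ * A = 1 := Matrix.nonsing_inv_mul A (Ne.isUnit hA)
    have h : u j = ∑ i, (A⁻¹ j i) • p i := by
      simp only [← hu, Algebra.smul_def, Finset.mul_sum, ← mul_assoc, ← map_mul]
      rw [Finset.sum_comm]
      simp only [← Finset.sum_mul, ← map_sum, ← Matrix.mul_apply, hinj, Matrix.one_apply]
      simp
    rw [h]
    exact Submodule.sum_mem _ fun i _ => Submodule.smul_mem _ _ (Submodule.subset_span ⟨i, rfl⟩)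
  have hspan' : ∀ i, (u 0)⁻¹ * p i ∈ Submodule.span k (Set.range v) := fun i => by
    rw [← hu, Finset.mul_sum]
    refine Submodule.sum_mem _ fun j _ => ?_
    rw [show (u 0)⁻¹ * (algebraMap k K (A i j) * u j) = A i j • v j by rw [hv, Algebra.smul_def]; ring]
    exact Submodule.smul_mem _ _ (Submodule.subset_span ⟨j, rfl⟩)
  have hM : ∀ P : Place k K, FunFld.mapDiv k v P = FunFld.mapDiv k p P + P.ord (u 0) := fun P => by
    refine le_antisymm (mapDiv_le_of_val hF v ⟨0, rfl⟩ fun j => ?_) (le_sub_iff_add_le.mp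
      (mapDiv_le_of_val hF p ⟨0, rfl⟩ fun i => ?_))
    · rw [hv, map_mul, map_inv₀, val_eq_exp P hu0, ← exp_neg, neg_neg, add_comm (FunFld.mapDiv k p P), exp_add]
      exact mul_le_mul' le_rfl (val_span_le_mapDiv hF p ⟨0, rfl⟩ (hspan j) P)
    · have h := val_span_le_mapDiv hF v ⟨0, rfl⟩ (hspan' i) P
      rw [map_mul, map_inv₀, inv_mul_le_iff₀ (zero_lt_iff.mpr (val_ne_zero P hu0)), val_eq_exp P hu0, ← exp_add] at h
      refine h.trans_eq ?_
      congr 1; ring
  have hdeg : (FunFld.mapDiv k v).deg = e := by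
    rw [show FunFld.mapDiv k v = FunFld.mapDiv k p + FunFld.div k (u 0) from Finsupp.ext fun P => by
      rw [Finsupp.add_apply, div_apply hF]; exact hM P, Divisor.deg_add, deg_div hF, he, add_zero]
  have key := coord_change f hf x y hfxy A u hu hu0 hfy hfy'
  have hc0 : algebraMap k K A.det ≠ 0 := by simpa using hA
  have hdx' : KaehlerDifferential.D k K (u 1 / u 0) ≠ 0 := fun h => by
    rw [h, smul_zero, smul_eq_zero] at key
    exact key.elim (fun h => inv_ne_zero hfy h) hdx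
  have hord : ∀ P : Place k K, LocRes.ordDiff (Φ P) g⁻¹ x =
      ((e : ℤ) - 3) * (-P.ord (u 0)) + LocRes.ordDiff (Φ P) G⁻¹ (u 1 / u 0) := fun P => by
    have hne : LocRes.vDiff (Φ P) G⁻¹ (u 1 / u 0) ≠ 0 := by
      rw [vDiff_eq hK hg (fun _ => k) Φ hΦ hdx']
      exact mul_ne_zero (val_ne_zero P (inv_ne_zero hfy')) exp_ne_zero
    unfold LocRes.ordDiff
    rw [vDiff_of_smul_eq (Φ P) key, LocRes.vDiff, map_mul (Φ P), map_mul, map_mul, mul_assoc, (hΦ P).1,
      ← map_mul, show Valued.v (Φ P G⁻¹ * LocRes.D k (Φ P (u 1 / u 0))) = LocRes.vDiff (Φ P) G⁻¹ (u 1 / u 0) from rfl,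
      log_mul (val_ne_zero P (mul_ne_zero hc0 (zpow_ne_zero _ (inv_ne_zero hu0)))) hne, map_mul,
      val_algebraMap P hA, one_mul, map_zpow₀, map_inv₀, val_eq_exp P hu0, ← exp_neg, ← exp_zsmul, log_exp,
      smul_eq_mul]
    ring
  ext P
  rw [he, hdeg, Finsupp.sub_apply, Finsupp.sub_apply, Finsupp.smul_apply, Finsupp.smul_apply, hM,
    FunFld.divDiff, dif_pos (finite_ordDiff hK hg (fun _ => k) Φ hΦ (inv_ne_zero hfy) hdx),
    FunFld.divDiff, dif_pos (finite_ordDiff hK hg (fun _ => k) Φ hΦ (inv_ne_zero hfy') hdx'),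
    Finsupp.ofSupportFinite_coe, Finsupp.ofSupportFinite_coe, hord, smul_eq_mul, smul_eq_mul]
  ring

end Groth.Agent.FFLib
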