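import Groth.Agent.FFLib.Jacobian
import Groth.Agent.FFLib.PlaneRel
import Groth.Agent.FFLib.PlaneCoord

/-! The Jacobian criterion for projective maps. -/

namespace Groth.Agent.FFLib

open FunFld WithZero MvPolynomial

noncomputable section

variable {k K : Type*} [Field k] [Field K] [Algebra k K] (P : Place k K) {ι : Type*} [Fintype ι] (φ : ι → K) {j : ι}
  (hj0 : φ j ≠ 0)

omit [Fintype ι] in
include hj0 in
theorem val_ratio_le (hj : ∀ i, P.1 (φ i) ≤ P.1 (φ j)) (i : ι) : P.1 (φ i / φ j) ≤ 1 := by
  rw [map_div₀, div_le_one₀ (zero_lt_iff.mpr (val_ne_zero P hj0))]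
  exact hj i

omit [Fintype ι] in
/-- Forms and their values at the ratios. -/
theorem aeval_form_mul {e : ℕ} {f : MvPolynomial ι k} (hf : f.IsHomogeneous e) (v : ι → K) :
    aeval (fun i => Polynomial.C (v i) * Polynomial.X) f = Polynomial.C (aeval v f) * Polynomial.X ^ e := by
  simp only [aeval_def, eval₂_eq, map_sum, Finset.sum_mul, map_mul, map_prod, map_pow]
  refine Finset.sum_congr rfl fun d hd => ?_
  simp only [mul_pow, Finset.prod_mul_distrib, Finset.prod_pow_eq_pow_sum]
  rw [show ∑ l ∈ d.support, d l = e from (hf.degree_eq_sum_deg_support hd).symm, mul_assoc]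
  rfl

include hj0 in
theorem aeval_ratio_eq_zero {e : ℕ} {f : MvPolynomial ι k} (hf : f.IsHomogeneous e) (h : aeval φ f = 0) :
    aeval (fun i => φ i / φ j) f = 0 := by
  rw [show (fun i => φ i / φ j) = fun i => (φ j)⁻¹ * φ i from funext fun i => div_eq_inv_mul _ _,
    aeval_scale hf, h, mul_zero]

include hj0 in
/-- The relations of the ratios come from the homogeneous relations. -/
theorem ker_ratio {F : Set (MvPolynomial ι k)}
    (hF : RingHom.ker (aeval (R := k) fun i => Polynomial.C (φ i) * Polynomial.X) = Ideal.span F)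
    (hhom : ∀ f ∈ F, f.IsHomogeneous f.totalDegree) :
    RingHom.ker (aeval (R := k) fun i => φ i / φ j) = Ideal.span (insert (X j - 1) F) := by
  classical
  refine le_antisymm (fun p hp => ?_) (Ideal.span_le.mpr ?_)
  · set N := p.totalDegree
    let H : MvPolynomial ι k := ∑ i ∈ Finset.range (N + 1), X j ^ (N - i) * homogeneousComponent i p
    have hH : H.IsHomogeneous N := IsHomogeneous.sum _ _ _ fun i hi => by
      have := ((isHomogeneous_X k j).pow (N - i)).mul (homogeneousComponent_isHomogeneous i p)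
      rwa [one_mul, Nat.sub_add_cancel (Nat.lt_succ_iff.mp (Finset.mem_range.mp hi))] at this
    have hHp : p - H ∈ Ideal.span (insert (X j - 1) F) := by
      rw [show p = ∑ i ∈ Finset.range (N + 1), homogeneousComponent i p from (sum_homogeneousComponent p).symm,
        ← Finset.sum_sub_distrib]
      refine sum_mem fun i _ => ?_
      rw [show homogeneousComponent i p - X j ^ (N - i) * homogeneousComponent i p =
        -((X j ^ (N - i) - 1) * homogeneousComponent i p) by ring]
      refine neg_mem (Ideal.mul_mem_right _ _ (Ideal.mem_of_dvd _ ?_ (Ideal.subset_span (Set.mem_insert _ _))))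
      simpa using sub_dvd_pow_sub_pow (X j : MvPolynomial ι k) 1 (N - i)
    have hHx : aeval (fun i => φ i / φ j) H = 0 := by
      rw [← RingHom.mem_ker.mp hp]
      conv_rhs => rw [← sum_homogeneousComponent p]
      simp only [H, map_sum, map_mul, map_pow, aeval_X, div_self hj0, one_pow, one_mul]
      rfl
    have hH0 : aeval φ H = 0 := by
      rw [show (fun i => φ i / φ j) = fun i => (φ j)⁻¹ * φ i from funext fun i => div_eq_inv_mul _ _,
        aeval_scale hH, mul_eq_zero] at hHx
      exact hHx.resolve_left (pow_ne_zero _ (inv_ne_zero hj0))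
    have hmem : H ∈ Ideal.span (insert (X j - 1) F) :=
      Ideal.span_mono (Set.subset_insert _ _) (hF ▸ RingHom.mem_ker.mpr (by
        rw [aeval_form_mul hH, hH0, map_zero, zero_mul]))
    simpa using add_mem hHp hmem
  · intro f hf
    rcases hf with rfl | hf
    · simp [hj0]
    · refine RingHom.mem_ker.mpr (aeval_ratio_eq_zero φ hj0 (hhom f hf) ?_)
      have h : f ∈ RingHom.ker (aeval (R := k) fun i => Polynomial.C (φ i) * Polynomial.X) :=
        hF ▸ Ideal.subset_span hf
      rw [RingHom.mem_ker, aeval_form_mul (hhom f hf), mul_eq_zero, Polynomial.C_eq_zero] at h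
      exact h.resolve_right (pow_ne_zero _ Polynomial.X_ne_zero)

include hj0 in
omit [Fintype ι] in
theorem adjoin_ratio_top {i₀ : ι} (hi₀ : φ i₀ ≠ 0)
    (h : IntermediateField.adjoin k (Set.range fun i => φ i / φ i₀) = ⊤) :
    IntermediateField.adjoin k (Set.range fun i => φ i / φ j) = ⊤ := by
  rw [eq_top_iff, ← h]
  refine IntermediateField.adjoin_le_iff.mpr ?_
  rintro _ ⟨i, rfl⟩
  show φ i / φ i₀ ∈ IntermediateField.adjoin k _
  rw [show φ i / φ i₀ = (φ i / φ j) / (φ i₀ / φ j) by field_simp]
  exact div_mem (IntermediateField.subset_adjoin _ _ ⟨i, rfl⟩) (IntermediateField.subset_adjoin _ _ ⟨i₀, rfl⟩)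

include hj0 in
/-- The Jacobian criterion for a projective map. -/
theorem nonsingular_iff_tangent (hj : ∀ i, P.1 (φ i) ≤ P.1 (φ j)) {a : ι → k}
    (ha : ∀ i, P.1 (φ i / φ j - algebraMap k K (a i)) < 1)
    {i₀ : ι} (hi₀ : φ i₀ ≠ 0) (hbir : IntermediateField.adjoin k (Set.range fun i => φ i / φ i₀) = ⊤)
    {F : Set (MvPolynomial ι k)}
    (hF : RingHom.ker (aeval (R := k) fun i => Polynomial.C (φ i) * Polynomial.X) = Ideal.span F)
    (hhom : ∀ f ∈ F, f.IsHomogeneous f.totalDegree) :
    IsNonsingularAt φ P ↔ Module.finrank k (tangent (insert (X j - 1) F) a) = 1 := by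
  rw [← jacobian_criterion P (x := fun i => φ i / φ j) ha (adjoin_ratio_top φ hj0 hi₀ hbir) (ker_ratio φ hj0 hF hhom)]
  exact forall₂_congr fun z _ => inLocRing_iff P φ hj0 hj z

theorem mem_tangent_insert [DecidableEq ι] {F : Set (MvPolynomial ι k)} {a v : ι → k} :
    v ∈ tangent (insert (X j - 1) F) a ↔ v j = 0 ∧ ∀ f ∈ F, ∑ i, eval a (pderiv i f) * v i = 0 := by
  rw [mem_tangent, Set.forall_mem_insert]
  refine and_congr_left fun _ => ?_
  simp [pderiv_X, Pi.single_apply, apply_ite (eval a), ite_mul]

/-- Constants at a place of an algebraically closed field. -/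
theorem exists_values [IsAlgClosed k] (hK : IsFunctionField k K) (hj0 : φ j ≠ 0)
    (hj : ∀ i, P.1 (φ i) ≤ P.1 (φ j)) :
    ∃ a : ι → k, a j = 1 ∧ ∀ i, P.1 (φ i / φ j - algebraMap k K (a i)) < 1 := by
  have h := fun i => exists_value hK.1 (deg_eq_one hK.1 P) (val_ratio_le P φ hj0 hj i)
  choose a ha using h
  refine ⟨a, ?_, ha⟩
  by_contra hne
  have h1 := ha j
  rw [div_self hj0, ← map_one (algebraMap k K), ← map_sub, val_algebraMap P (sub_ne_zero.mpr (Ne.symm hne))] at h1
  exact lt_irrefl _ h1

omit [Fintype ι] in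
/-- Residues of polynomials in integral elements. -/
theorem residue_aeval {x : ι → K} {a : ι → k} (ha : ∀ i, P.1 (x i - algebraMap k K (a i)) < 1)
    (y : ι → P.O) (hy : ∀ i, (y i : K) = x i) (p : MvPolynomial ι k) :
    IsLocalRing.residue P.O (aeval y p) = algebraMap k (Res P) (eval a p) := by
  have hres : ∀ i, IsLocalRing.residue P.O (y i) = algebraMap k (Res P) (a i) := fun i => by
    rw [residue_algebraMap, ← sub_eq_zero, ← map_sub, residue_eq_zero]
    show P.1 ((y i : K) - (algebraMap k P.O (a i) : K)) < 1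
    rw [hy, coe_algebraMap_O]; exact ha i
  induction p using MvPolynomial.induction_on with
  | C c => simp [residue_algebraMap]
  | add p q hp hq => simp [hp, hq]
  | mul_X p i hp => simp [hp, hres]

omit [Fintype ι] in
theorem coe_aeval (y : ι → P.O) (p : MvPolynomial ι k) : ((aeval y p : P.O) : K) = aeval (fun i => (y i : K)) p := by
  induction p using MvPolynomial.induction_on with
  | C c => simp [coe_algebraMap_O]
  | add p q hp hq => simp [hp, hq]
  | mul_X p i hp => simp [hp]

/-- The Euler relation at a point of the curve. -/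
theorem eval_eq_zero {x : ι → K} {a : ι → k} (ha : ∀ i, P.1 (x i - algebraMap k K (a i)) < 1)
    {p : MvPolynomial ι k} (h : aeval x p = 0) : eval a p = 0 := by
  by_contra hne
  have hd := Ideal.pow_le_self two_ne_zero (taylor_sq (x := x) (a := a) p)
  have hs : ∑ i, algebraMap k (Algebra.adjoin k (Set.range x)) (eval a (pderiv i p)) *
      (evalR x (X i) - algebraMap k _ (a i)) ∈ ptIdeal x a :=
    sum_mem fun i _ => Ideal.mul_mem_left _ _ (by rw [evalR, aeval_X]; exact Ideal.subset_span ⟨i, rfl⟩)
  have h1 := (val_ptIdeal P ha _).2 (add_mem hd hs)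
  rw [sub_add_cancel, Subalgebra.coe_sub, evalR_coe, h, zero_sub, Valuation.map_neg, Subalgebra.coe_algebraMap,
    val_algebraMap P hne] at h1
  exact lt_irrefl _ h1

/-- The ideal of homogeneous relations of a plane map is generated by its irreducible equation. -/
theorem plane_ker [IsAlgClosed k] (hK : IsFunctionField k K) {φ : Fin 3 → K} (h0 : φ 0 ≠ 0)
    (hbir : IntermediateField.adjoin k (Set.range fun i => φ i / φ 0) = ⊤) {f : MvPolynomial (Fin 3) k}
    (hf : Irreducible f) (hhom : f.IsHomogeneous f.totalDegree) (hfφ : aeval φ f = 0) :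
    RingHom.ker (aeval (R := k) fun i => Polynomial.C (φ i) * Polynomial.X) = Ideal.span {f} := by
  have hv : ![(1 : K), φ 1 / φ 0, φ 2 / φ 0] = fun i => φ i / φ 0 := by
    funext i; fin_cases i <;> simp [h0]
  have hxy : IntermediateField.adjoin k ({φ 1 / φ 0, φ 2 / φ 0} : Set K) = ⊤ := by
    rw [eq_top_iff, ← hbir]
    refine IntermediateField.adjoin_le_iff.mpr ?_
    rintro _ ⟨i, rfl⟩
    fin_cases i
    · simp [h0]
    · exact IntermediateField.subset_adjoin _ _ (Set.mem_insert _ _)
    · exact IntermediateField.subset_adjoin _ _ (Set.mem_insert_of_mem _ rfl)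
  obtain ⟨F, hFirr, -, hFker⟩ := exists_homogeneous_equation hK hxy
  rw [hv] at hFker
  let σ : Polynomial K →ₐ[k] Polynomial K :=
    (Polynomial.aeval (R := K) (Polynomial.C (φ 0) * Polynomial.X)).restrictScalars k
  have hσ : σ.comp (aeval fun i => Polynomial.C (φ i / φ 0) * Polynomial.X) =
      aeval (R := k) fun i => Polynomial.C (φ i) * Polynomial.X := by
    refine MvPolynomial.algHom_ext fun i => ?_
    rw [AlgHom.comp_apply, aeval_X, aeval_X]
    show Polynomial.aeval (R := K) _ _ = _
    rw [map_mul, Polynomial.aeval_C, Polynomial.aeval_X, Polynomial.algebraMap_eq, ← mul_assoc, ← map_mul,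
      div_mul_cancel₀ _ h0]
  have hσinj : Function.Injective σ := by
    refine Function.HasLeftInverse.injective ⟨Polynomial.aeval (R := K) (Polynomial.C (φ 0)⁻¹ * Polynomial.X), fun p => ?_⟩
    induction p using Polynomial.induction_on' with
    | add p q hp hq => simp only [map_add, hp, hq]
    | monomial m c =>
      rw [← Polynomial.C_mul_X_pow_eq_monomial]
      show Polynomial.aeval (R := K) _ (Polynomial.aeval (R := K) _ _) = _
      simp only [map_mul, map_pow, Polynomial.aeval_C, Polynomial.aeval_X, Polynomial.algebraMap_eq]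
      rw [show Polynomial.C (φ 0) * (Polynomial.C (φ 0)⁻¹ * Polynomial.X) = Polynomial.X by
        rw [← mul_assoc, ← map_mul, mul_inv_cancel₀ h0, map_one, one_mul]]
  have hker : RingHom.ker (aeval (R := k) fun i => Polynomial.C (φ i) * Polynomial.X) = Ideal.span {F} := by
    rw [← hFker]
    ext p
    rw [RingHom.mem_ker, RingHom.mem_ker, ← hσ, AlgHom.comp_apply, map_eq_zero_iff σ hσinj]
  have hdvd : F ∣ f := by
    rw [← Ideal.mem_span_singleton, ← hker, RingHom.mem_ker, aeval_form_mul hhom, hfφ, map_zero, zero_mul]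
  rw [hker, Ideal.span_singleton_eq_span_singleton]
  exact hFirr.associated_of_dvd hf hdvd

end

end Groth.Agent.FFLib
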