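import Groth.Agent.FFLib.AdjointAffine
import Groth.Agent.FFLib.ProjJac
import Groth.Agent.FFLib.PlaneAdj
import Mathlib.Algebra.MvPolynomial.Funext

/-! The adjoint coefficient at a point of a plane map. -/

set_option linter.unusedSectionVars false
set_option linter.style.haveILetI false

namespace Groth.Agent.FFLib.Adjoint

open FunFld WithZero Groth.Agent.FFLib MvPolynomial

universe u v

variable {k : Type u} {K : Type v} [Field k] [Field K] [Algebra k K]

theorem dehom_pderiv {R : Type*} [CommRing R] [Algebra k R] (G : MvPolynomial (Fin 3) k) (a b : R) :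
    aeval ![(1 : R), a, b] (pderiv 2 G) =
      aeval ![a, b] (pderiv 1 (aeval ![(1 : MvPolynomial (Fin 2) k), X 0, X 1] G)) := by
  rw [D_mvAeval (pderiv 1) G, map_sum, Fin.sum_univ_three]
  simp only [smul_eq_mul, map_mul, Matrix.cons_val_zero, Matrix.cons_val_one, Matrix.cons_val, Derivation.map_one_eq_zero,
    pderiv_X_self, pderiv_X_of_ne (show (0 : Fin 2) ≠ 1 by decide), map_zero, mul_zero, zero_add, mul_one, map_one]
  rw [← AlgHom.comp_apply, comp_aeval]
  congr 2
  funext i
  fin_cases i <;> simp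

theorem exists_homogenization (f : MvPolynomial (Fin 2) k) :
    ∃ H : MvPolynomial (Fin 3) k, H.IsHomogeneous f.totalDegree ∧
      aeval ![(1 : MvPolynomial (Fin 2) k), X 0, X 1] H = f := by
  refine ⟨∑ i ∈ Finset.range (f.totalDegree + 1), X 0 ^ (f.totalDegree - i) *
    rename Fin.succ (homogeneousComponent i f), IsHomogeneous.sum _ _ _ fun i hi => ?_, ?_⟩
  · have := ((isHomogeneous_X k (0 : Fin 3)).pow (f.totalDegree - i)).mul
      ((homogeneousComponent_isHomogeneous i f).rename_isHomogeneous (f := Fin.succ))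
    rwa [one_mul, Nat.sub_add_cancel (Nat.lt_succ_iff.mp (Finset.mem_range.mp hi))] at this
  · conv_rhs => rw [← sum_homogeneousComponent f]
    rw [map_sum]
    refine Finset.sum_congr rfl fun i _ => ?_
    rw [map_mul, map_pow, aeval_X, Matrix.cons_val_zero, one_pow, one_mul, aeval_rename]
    rw [show (![(1 : MvPolynomial (Fin 2) k), X 0, X 1] ∘ Fin.succ) = X from by funext j; fin_cases j <;> simp]
    exact aeval_X_left_apply _

/-- A homogeneous form along the pencil of lines through `b`. -/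
theorem pencil_coeff {L : Type*} [Field L] [Algebra k L] {F : MvPolynomial (Fin 3) k} {e : ℕ}
    (hF : F.IsHomogeneous e) (a : Fin 3 → L) (b : Fin 3 → k) :
    (aeval (fun i => Polynomial.C (a i) + Polynomial.C (algebraMap k L (b i)) * Polynomial.X) F).natDegree ≤ e ∧
      (aeval (fun i => Polynomial.C (a i) + Polynomial.C (algebraMap k L (b i)) * Polynomial.X) F).coeff e =
        algebraMap k L (eval b F) := by
  classical
  set q : Fin 3 → Polynomial L := fun i => Polynomial.C (a i) + Polynomial.C (algebraMap k L (b i)) * Polynomial.X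
  have hq : ∀ i, (q i).natDegree ≤ 1 := fun i =>
    (Polynomial.natDegree_add_le _ _).trans (max_le (by simp) (Polynomial.natDegree_C_mul_le _ _ |>.trans
      Polynomial.natDegree_X_le))
  have hq1 : ∀ i, (q i).coeff 1 = algebraMap k L (b i) := fun i => by simp [q, Polynomial.coeff_C]
  have hp : ∀ i n, (q i ^ n).natDegree ≤ n ∧ (q i ^ n).coeff n = algebraMap k L (b i) ^ n := fun i n => by
    refine ⟨Polynomial.natDegree_pow_le.trans (by simpa using Nat.mul_le_mul_left n (hq i)), ?_⟩
    have := Polynomial.coeff_pow_of_natDegree_le (m := n) (hq i)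
    rw [mul_one] at this
    rw [this, hq1]
  rw [aeval_def, eval₂_eq', eval_eq', map_sum, Polynomial.finsetSum_coeff]
  refine ⟨Polynomial.natDegree_sum_le_of_forall_le _ _ fun d hd => ?_, Finset.sum_congr rfl fun d hd => ?_⟩
  all_goals
    have hde : d 0 + d 1 + d 2 = e := by
      have h := hF (mem_support_iff.mp hd)
      simpa [Finsupp.weight_apply, Finsupp.sum_fintype, Fin.sum_univ_three] using h
    have h01 : (q 0 ^ d 0 * q 1 ^ d 1).natDegree ≤ d 0 + d 1 :=
      Polynomial.natDegree_mul_le.trans (add_le_add (hp 0 _).1 (hp 1 _).1)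
    rw [Fin.prod_univ_three]
  · refine (Polynomial.natDegree_C_mul_le _ _).trans ?_
    rw [← hde]
    exact Polynomial.natDegree_mul_le.trans (add_le_add h01 (hp 2 _).1)
  · rw [← hde, IsScalarTower.algebraMap_apply k L (Polynomial L), Polynomial.algebraMap_eq, Polynomial.coeff_C_mul,
      Polynomial.coeff_mul_add_eq_of_natDegree_le h01 (hp 2 _).1,
      Polynomial.coeff_mul_add_eq_of_natDegree_le (hp 0 _).1 (hp 1 _).1, (hp 0 _).2, (hp 1 _).2, (hp 2 _).2,
      Fin.prod_univ_three, map_mul, map_mul, map_mul, map_pow, map_pow, map_pow]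

/-- The `Y`-derivative in new coordinates. -/
theorem aeval_pderiv_change {F : MvPolynomial (Fin 3) k} {e : ℕ} (hF : F.IsHomogeneous e)
    (A : Matrix (Fin 3) (Fin 3) k) (p v : Fin 3 → K) (c : K)
    (hv : ∀ i, ∑ j, algebraMap k K (A i j) * v j = c * p i) :
    aeval v (pderiv 2 (aeval (fun i : Fin 3 => ∑ j, C (A i j) * X j) F)) =
      c ^ (e - 1) * ∑ i, algebraMap k K (A i 2) * aeval p (pderiv i F) := by
  have key : pderiv 2 (aeval (fun i : Fin 3 => ∑ j, C (A i j) * X j) F) =
      ∑ i, C (A i 2) * aeval (fun i : Fin 3 => ∑ j, C (A i j) * X j) (pderiv i F) := by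
    rw [D_mvAeval (pderiv 2) F]
    refine Finset.sum_congr rfl fun i _ => ?_
    rw [smul_eq_mul, mul_comm]
    congr 1
    simp [Fin.sum_univ_three, pderiv_X, Pi.single_apply]
  have hAv : (fun i => aeval v (∑ j, C (A i j) * X j)) = fun i => c * p i := by
    funext i
    rw [← hv i, map_sum]
    refine Finset.sum_congr rfl fun j _ => ?_
    rw [map_mul, aeval_C, aeval_X]
  rw [key, map_sum, Finset.mul_sum]
  refine Finset.sum_congr rfl fun i _ => ?_
  rw [map_mul, aeval_C, ← AlgHom.comp_apply, comp_aeval, hAv, aeval_scale hF.pderiv]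
  ring

theorem affLoc_mono (Q : Place k K) {σ τ : Type*} {x : σ → K} {z : τ → K}
    (h : ∀ i, x i ∈ affLoc Q z) : affLoc Q x ≤ affLoc Q z := by
  rintro r ⟨w, hw, hw1, hu⟩
  have hle : Algebra.adjoin k (Set.range x) ≤ affLoc Q z := Algebra.adjoin_le (by rintro _ ⟨i, rfl⟩; exact h i)
  have hw0 : w ≠ 0 := fun e => by rw [e, map_zero] at hw1; exact zero_ne_one hw1
  rw [← mul_inv_cancel_right₀ hw0 r]
  exact Subalgebra.mul_mem _ (hle hu) (inv_mem_affLoc Q _ (hle hw) hw1)

theorem exists_matrix {a v : Fin 3 → k} {j : Fin 3} (haj : a j = 1) (hv : ∀ t : k, v ≠ t • a) :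
    ∃ A : Matrix (Fin 3) (Fin 3) k, A.det ≠ 0 ∧ (∀ i, A i 0 = a i) ∧ ∀ i, A i 2 = v i := by
  by_contra hall
  push Not at hall
  have hd : ∀ w : Fin 3 → k, (Matrix.of fun i => ![a i, w i, v i]).det = 0 := fun w => by
    by_contra hne
    obtain ⟨i, hi⟩ := hall (Matrix.of fun i => ![a i, w i, v i]) hne (fun i => by simp)
    exact hi (by simp)
  have h0 := hd ![1, 0, 0]
  have h1 := hd ![0, 1, 0]
  have h2 := hd ![0, 0, 1]
  simp [Matrix.det_fin_three] at h0 h1 h2
  refine hv (v j) (funext fun i => ?_)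
  rw [Pi.smul_apply, smul_eq_mul]
  fin_cases j <;> fin_cases i <;> simp only [Fin.zero_eta, Fin.mk_one, Fin.reduceFinMk] at haj ⊢ <;>
    first
      | linear_combination (-(1 : k)) * v _ * haj
      | linear_combination h0 - v _ * haj
      | linear_combination -h0 - v _ * haj
      | linear_combination h1 - v _ * haj
      | linear_combination -h1 - v _ * haj
      | linear_combination h2 - v _ * haj
      | linear_combination -h2 - v _ * haj

theorem adjoint_proj [IsAlgClosed k] (hK : IsFunctionField k K) {x y : K}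
    (hxy : IntermediateField.adjoin k ({x, y} : Set K) = ⊤) (f : MvPolynomial (Fin 2) k) (hf : Irreducible f)
    (hfxy : aeval ![x, y] f = 0) (Q : Place k K) (Φ : K →ₐ[k] LaurentSeries k)
    (hΦ : LocRes.IsExpansionAt Q.1 Φ) (hne : LocRes.vDiff Φ (aeval ![x, y] (pderiv 1 f))⁻¹ x ≠ 0) :
    0 ≤ ((FunFld.mapDiv k ![(1 : K), x, y]).deg - 3) * FunFld.mapDiv k ![(1 : K), x, y] Q -
        LocRes.ordDiff Φ (aeval ![x, y] (pderiv 1 f))⁻¹ x ∧
    (((FunFld.mapDiv k ![(1 : K), x, y]).deg - 3) * FunFld.mapDiv k ![(1 : K), x, y] Q -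
        LocRes.ordDiff Φ (aeval ![x, y] (pderiv 1 f))⁻¹ x = 0 ↔
      IsNonsingularAt ![(1 : K), x, y] Q) := by
  classical
  have hF0 := hK.1
  set p : Fin 3 → K := ![(1 : K), x, y] with hp
  set D := FunFld.mapDiv k p with hD
  set g : K := aeval ![x, y] (pderiv 1 f) with hgdef
  have hg0 : g ≠ 0 := fun h0 => hne (by
    rw [LocRes.vDiff, h0, inv_zero, map_zero, zero_mul, map_zero])
  have hvx : LocRes.vDiff Φ 1 x ≠ 0 := fun h0 => hne (by
    have : LocRes.D k (Φ x) = 0 := by
      rw [vDiff_one] at h0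
      exact (Valuation.zero_iff _).mp h0
    rw [LocRes.vDiff, this, mul_zero, map_zero])
  have hdx : KaehlerDifferential.D k K x ≠ 0 := D_ne_of_vDiff hvx
  -- the homogeneous equation
  obtain ⟨F, hFhom, hFf⟩ := exists_homogenization f
  set e := f.totalDegree with he
  have hDe : D.deg = e := deg_eq_totalDegree hK hxy hf hfxy
  have hFp : aeval p F = 0 := by
    rw [← hfxy, ← hFf, ← AlgHom.comp_apply, comp_aeval]
    congr 1
    refine congrArg _ (funext fun i => ?_)
    fin_cases i <;> simp [p]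
  have hg2 : aeval p (pderiv 2 F) = g := by rw [hgdef, ← hFf, hp]; exact dehom_pderiv F x y
  -- the point
  obtain ⟨j, -, hjmax⟩ := Finset.exists_max_image Finset.univ (fun i => Q.1 (p i)) Finset.univ_nonempty
  have hj : ∀ i, Q.1 (p i) ≤ Q.1 (p j) := fun i => hjmax i (Finset.mem_univ i)
  have hj0 : p j ≠ 0 := fun h0 => by
    have := hj 0
    rw [h0, map_zero, show p 0 = 1 from rfl, map_one] at this
    exact not_le.mpr zero_lt_one this
  obtain ⟨a, haj, ha⟩ := exists_values Q p hK hj0 hj
  have hra : ∀ i, Q.1 (p i / p j) ≤ 1 := val_ratio_le Q p hj0 hj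
  have hFa : eval a F = 0 := eval_eq_zero Q ha (aeval_ratio_eq_zero p hj0 hFhom hFp)
  have hbir : IntermediateField.adjoin k (Set.range fun i => p i / p 0) = ⊤ := by
    rw [eq_top_iff, ← hxy]
    refine IntermediateField.adjoin_le_iff.mpr ?_
    rintro _ (rfl | rfl)
    · exact IntermediateField.subset_adjoin _ _ ⟨1, by simp [p]⟩
    · exact IntermediateField.subset_adjoin _ _ ⟨2, by simp [p]⟩
  -- nonsingular points have a nonzero gradient
  have hgrad : IsNonsingularAt p Q → ∃ i, eval a (pderiv i F) ≠ 0 := fun hns => by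
    by_contra! hall
    obtain ⟨G, hG, hGhom, hGker⟩ := exists_homogeneous_equation hK hxy
    have hmem : F ∈ Ideal.span {G} := by
      rw [← hGker, RingHom.mem_ker, aeval_form_mul hFhom, show aeval ![(1 : K), x, y] F = 0 from hFp, map_zero,
        zero_mul]
    have hFne : F ≠ 0 := fun h0 => hf.ne_zero (by rw [← hFf, h0, map_zero])
    obtain ⟨c, hc⟩ := Ideal.mem_span_singleton.mp hmem
    have hGdeg : G.totalDegree = e := by
      have h1 := hFhom.totalDegree hFne
      rw [hc, totalDegree_mul_of_isDomain hG.ne_zero (fun h0 => hFne (by rw [hc, h0, mul_zero]))] at h1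
      have hGf : f ∣ aeval ![(1 : MvPolynomial (Fin 2) k), X 0, X 1] G := by
        rw [← Ideal.mem_span_singleton, ← ker_eq_span hK hxy hf hfxy, RingHom.mem_ker, ← AlgHom.comp_apply,
          comp_aeval]
        have h0 : aeval p G = 0 := by
          have h2 : G ∈ Ideal.span {G} := Ideal.mem_span_singleton_self G
          rw [← hGker, RingHom.mem_ker, aeval_form_mul hGhom, mul_eq_zero, Polynomial.C_eq_zero] at h2
          exact h2.resolve_right (pow_ne_zero _ Polynomial.X_ne_zero)
        rw [← h0]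
        congr 1
        refine congrArg _ (funext fun i => ?_)
        fin_cases i <;> simp [p]
      have hGne : aeval ![(1 : MvPolynomial (Fin 2) k), X 0, X 1] G ≠ 0 := fun h0 => hf.ne_zero (by
        rw [← hFf, hc, map_mul, h0, zero_mul])
      obtain ⟨d, hd⟩ := hGf
      have h3 : e ≤ (aeval ![(1 : MvPolynomial (Fin 2) k), X 0, X 1] G).totalDegree := by
        rw [hd, totalDegree_mul_of_isDomain hf.ne_zero (fun h0 => hGne (by rw [hd, h0, mul_zero]))]
        exact Nat.le_add_right _ _
      have h4 : (aeval ![(1 : MvPolynomial (Fin 2) k), X 0, X 1] G).totalDegree ≤ G.totalDegree := by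
        conv_lhs => rw [aeval_def, eval₂_eq']
        refine totalDegree_finsetSum_le fun d hd => ?_
        refine (totalDegree_mul _ _).trans ?_
        rw [algebraMap_eq, totalDegree_C, zero_add, Fin.prod_univ_three]
        simp only [Matrix.cons_val_zero, Matrix.cons_val_one, Matrix.cons_val, one_pow, one_mul]
        refine (totalDegree_mul _ _).trans ?_
        rw [totalDegree_X_pow, totalDegree_X_pow]
        refine le_trans ?_ (le_totalDegree hd)
        rw [Finsupp.sum_fintype _ _ (fun _ => rfl), Fin.sum_univ_three]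
        omega
      omega
    have hcC : c = C (c.coeff 0) := by
      refine totalDegree_eq_zero_iff_eq_C.mp ?_
      have h1 := hFhom.totalDegree hFne
      rw [hc, totalDegree_mul_of_isDomain hG.ne_zero (fun h0 => hFne (by rw [hc, h0, mul_zero])), hGdeg] at h1
      omega
    have hc0 : c.coeff 0 ≠ 0 := fun h0 => hFne (by rw [hc, hcC, h0, map_zero, mul_zero])
    have h := (nonsingular_iff_tangent Q p hj0 hj ha (show p 0 ≠ 0 from one_ne_zero) hbir hGker
      (fun q hq => by rw [Set.mem_singleton_iff.mp hq]; exact hGhom)).mp hns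
    have htan : LinearMap.ker (LinearMap.proj j : (Fin 3 → k) →ₗ[k] k) ≤ tangent (insert (X j - 1) {G}) a := by
      intro w hw
      rw [mem_tangent_insert]
      refine ⟨hw, fun q hq => ?_⟩
      rw [Set.mem_singleton_iff.mp hq]
      refine Finset.sum_eq_zero fun i _ => ?_
      have hi := hall i
      rw [hc, hcC, mul_comm, pderiv_C_mul, map_mul, eval_C, mul_eq_zero] at hi
      rw [hi.resolve_left hc0, zero_mul]
    have h2 := Submodule.finrank_mono htan
    have h3 := LinearMap.finrank_range_add_finrank_ker (LinearMap.proj j : (Fin 3 → k) →ₗ[k] k)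
    have h4 : Module.finrank k (LinearMap.range (LinearMap.proj j : (Fin 3 → k) →ₗ[k] k)) ≤ 1 :=
      (Submodule.finrank_le _).trans (Module.finrank_self k).le
    rw [Module.finrank_fin_fun] at h3
    omega
  -- the centre of projection
  have hlin : ∃ w : Fin 3 → k, (∃ i, w i ≠ 0) ∧ ∀ v : Fin 3 → k, ∑ i, w i * v i ≠ 0 →
      (∑ i, algebraMap k K (v i) * aeval p (pderiv i F) ≠ 0) ∧
      (IsNonsingularAt p Q → ∑ i, v i * eval a (pderiv i F) ≠ 0) := by
    have hval : ∀ v : Fin 3 → k, (∑ i, v i * eval a (pderiv i F) ≠ 0) →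
        ∑ i, algebraMap k K (v i) * aeval p (pderiv i F) ≠ 0 := fun v hv h0 => by
      have h1 := val_aeval_eq_one Q hra ha (p := ∑ i, C (v i) * pderiv i F) (by simpa using hv)
      rw [map_sum] at h1
      simp only [map_mul, aeval_C] at h1
      have h2 : ∀ i, aeval (fun l => p l / p j) (pderiv i F) = (p j)⁻¹ ^ (e - 1) * aeval p (pderiv i F) := fun i => by
        rw [show (fun l => p l / p j) = fun l => (p j)⁻¹ * p l from funext fun l => div_eq_inv_mul _ _,
          aeval_scale hFhom.pderiv]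
      simp only [h2, mul_left_comm _ ((p j)⁻¹ ^ (e - 1)), ← Finset.mul_sum, h0, mul_zero, map_zero] at h1
      exact zero_ne_one h1
    by_cases hns : IsNonsingularAt p Q
    · refine ⟨fun i => eval a (pderiv i F), hgrad hns, fun v hv => ?_⟩
      have hv' : ∑ i, v i * eval a (pderiv i F) ≠ 0 := by
        rwa [show ∑ i, v i * eval a (pderiv i F) = ∑ i, eval a (pderiv i F) * v i from
          Finset.sum_congr rfl fun i _ => mul_comm _ _]
      exact ⟨hval v hv', fun _ => hv'⟩
    · obtain ⟨lam, hlam⟩ : ∃ lam : Module.Dual k K, lam g ≠ 0 := by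
        by_contra! h0
        exact hg0 ((Module.forall_dual_apply_eq_zero_iff k g).mp h0)
      refine ⟨fun i => lam (aeval p (pderiv i F)), ⟨2, by simpa only [hg2] using hlam⟩, fun v hv => ⟨fun h0 => hv ?_,
        fun h => absurd h hns⟩⟩
      have h1 := congrArg lam h0
      simp only [map_sum, map_zero, ← Algebra.smul_def, map_smul, smul_eq_mul] at h1
      rw [← h1]
      exact Finset.sum_congr rfl fun i _ => mul_comm _ _
  obtain ⟨w, ⟨i₁, hi₁⟩, hw⟩ := hlin
  obtain ⟨v, hvF, hvw⟩ : ∃ v : Fin 3 → k, eval v F ≠ 0 ∧ ∑ i, w i * v i ≠ 0 := by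
    by_contra! hall
    have hFne : F ≠ 0 := fun h0 => hf.ne_zero (by rw [← hFf, h0, map_zero])
    have hl : (∑ i, C (w i) * X i : MvPolynomial (Fin 3) k) ≠ 0 := fun h0 => hi₁ (by
      have h := congrArg (eval (Pi.single i₁ 1)) h0
      simpa [Pi.single_apply] using h)
    refine mul_ne_zero hFne hl (MvPolynomial.funext fun v => ?_)
    rw [map_mul, map_zero, map_sum]
    by_cases h0 : eval v F = 0
    · rw [h0, zero_mul]
    · simp [hall v h0]
  obtain ⟨hG0, hGa⟩ := hw v hvw
  have he1 : 1 ≤ e := by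
    by_contra hlt
    have h0 := totalDegree_eq_zero_iff_eq_C.mp (Nat.lt_one_iff.mp (not_le.mp hlt))
    rw [hgdef, h0, pderiv_C, map_zero] at hg0
    exact hg0 rfl
  obtain ⟨A, hA, hA0, hA2⟩ := exists_matrix haj (v := v) fun t ht => hvF (by
    rw [ht]
    have h := aeval_scale (K := k) hFhom t a
    rw [aeval_eq_eval, aeval_eq_eval] at h
    rw [show (t • a) = fun i => t * a i from rfl]
    exact h.trans (by rw [hFa, mul_zero]))
  set u : Fin 3 → K := fun l => ∑ i, algebraMap k K (A⁻¹ l i) * p i with hudef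
  have hinv : A * A⁻¹ = 1 := Matrix.mul_nonsing_inv A (Ne.isUnit hA)
  have hinv' : A⁻¹ * A = 1 := Matrix.nonsing_inv_mul A (Ne.isUnit hA)
  have hu : ∀ i, ∑ l, algebraMap k K (A i l) * u l = p i := fun i => by
    simp only [hudef, Finset.mul_sum, ← mul_assoc, ← map_mul]
    rw [Finset.sum_comm]
    simp only [← Finset.sum_mul, ← map_sum, ← Matrix.mul_apply, hinv, Matrix.one_apply]
    simp
  have hu0v : Q.1 (u 0 / p j) = 1 := by
    have h : u 0 / p j = aeval (fun i => p i / p j) (∑ i, C (A⁻¹ 0 i) * X i) := by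
      rw [map_sum, hudef, Finset.sum_div]
      refine Finset.sum_congr rfl fun i _ => ?_
      rw [map_mul, aeval_C, aeval_X, mul_div_assoc]
    rw [h]
    refine val_aeval_eq_one Q hra ha ?_
    have h1 : ∑ i, A⁻¹ 0 i * a i = 1 := by
      simp only [← hA0, ← Matrix.mul_apply, hinv', Matrix.one_apply_eq]
    simp [h1]
  have hu0 : u 0 ≠ 0 := fun h0 => by rw [h0, zero_div, map_zero] at hu0v; exact zero_ne_one hu0v
  set x' := u 1 / u 0 with hx'
  set y' := u 2 / u 0 with hy'
  set v' : Fin 3 → K := ![(1 : K), x', y'] with hv'def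
  have hv' : ∀ l, v' l = (u 0)⁻¹ * u l := fun l => by
    fin_cases l <;> simp [v', x', y', div_eq_inv_mul, hu0]
  have hAv' : ∀ i, ∑ l, algebraMap k K (A i l) * v' l = (u 0)⁻¹ * p i := fun i => by
    rw [← hu i, Finset.mul_sum]
    exact Finset.sum_congr rfl fun l _ => by rw [hv']; ring
  set G := aeval (fun i : Fin 3 => ∑ l, C (A i l) * X l) F with hGdef
  set G' := aeval v' (pderiv 2 G) with hG'def
  have hG'eq : G' = (u 0)⁻¹ ^ (e - 1) * ∑ i, algebraMap k K (v i) * aeval p (pderiv i F) := by
    rw [hG'def, hGdef, aeval_pderiv_change hFhom A p v' (u 0)⁻¹ hAv']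
    simp only [hA2]
  have hG'0 : G' ≠ 0 := by rw [hG'eq]; exact mul_ne_zero (pow_ne_zero _ (inv_ne_zero hu0)) hG0
  have key := coord_change F hFhom x y hFp A u hu hu0 (by rw [← hp, hg2]; exact hg0) hG'0
  rw [← hp, hg2, ← hv'def, ← hG'def] at key
  have hc0 : algebraMap k K A.det ≠ 0 := by simpa using hA
  have hdx' : KaehlerDifferential.D k K x' ≠ 0 := fun h => by
    rw [hx'] at h
    rw [h, smul_zero, smul_eq_zero] at key
    exact key.elim (fun h => inv_ne_zero hg0 h) hdx
  have hgeo := isGeometric_of_perfect hK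
  have hne' : LocRes.vDiff Φ G'⁻¹ x' ≠ 0 := by
    rw [LocRes.vDiff, map_mul, hΦ.1]
    exact mul_ne_zero (val_ne_zero Q (inv_ne_zero hG'0)) ((map_ne_zero _).mpr (dExp_ne_zero hΦ hK hgeo hdx'))
  have hord : LocRes.ordDiff Φ g⁻¹ x =
      ((e : ℤ) - 3) * (-Q.ord (u 0)) + LocRes.ordDiff Φ G'⁻¹ x' := by
    unfold LocRes.ordDiff
    rw [vDiff_of_smul_eq Φ key, LocRes.vDiff, map_mul Φ, map_mul, map_mul, mul_assoc, hΦ.1,
      ← map_mul, show Valued.v (Φ G'⁻¹ * LocRes.D k (Φ (u 1 / u 0))) = LocRes.vDiff Φ G'⁻¹ x' from rfl,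
      log_mul (val_ne_zero Q (mul_ne_zero hc0 (zpow_ne_zero _ (inv_ne_zero hu0)))) hne', map_mul,
      val_algebraMap Q hA, one_mul, map_zpow₀, map_inv₀, val_eq_exp Q hu0, ← exp_neg, ← exp_zsmul, log_exp,
      smul_eq_mul]
    ring
  have hord' : LocRes.ordDiff Φ G'⁻¹ x' = LocRes.ordDiff Φ 1 x' - Q.ord G' := by
    unfold LocRes.ordDiff
    rw [show LocRes.vDiff Φ G'⁻¹ x' = Q.1 G'⁻¹ * LocRes.vDiff Φ 1 x' from by
      rw [vDiff_one, LocRes.vDiff, map_mul, hΦ.1],
      log_mul (val_ne_zero Q (inv_ne_zero hG'0)) (by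
        rw [vDiff_one]; exact (map_ne_zero _).mpr (dExp_ne_zero hΦ hK hgeo hdx')),
      map_inv₀, val_eq_exp Q hG'0, ← exp_neg, log_exp]
    ring
  have hDQ : D Q = -Q.ord (u 0) := by
    have h1 : Q.ord (u 0) = Q.ord (p j) := by
      have h := ord_of_val_eq Q (n := 0) (x := u 0 / p j) (by rw [hu0v, neg_zero, exp_zero])
      rw [div_eq_mul_inv, ord_mul Q hu0 (inv_ne_zero hj0), ord_inv] at h
      omega
    rw [h1]
    refine le_antisymm (mapDiv_le_of_val hF0 p ⟨0, rfl⟩ fun i => ?_) ?_
    · refine (hj i).trans ?_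
      rw [val_eq_exp Q hj0]
    · have h := val_span_le_mapDiv hF0 p ⟨0, rfl⟩ (Submodule.subset_span ⟨j, rfl⟩) Q
      rw [val_eq_exp Q hj0, exp_le_exp] at h
      exact h
  have hcoef : (D.deg - 3) * D Q - LocRes.ordDiff Φ g⁻¹ x = Q.ord G' - LocRes.ordDiff Φ 1 x' := by
    rw [hDe, hord, hord', hDQ]
    ring
  rw [hcoef]
  -- the new coordinates
  have hspan : ∀ l, u l ∈ Submodule.span k (Set.range p) := fun l => by
    refine Submodule.sum_mem _ fun i _ => ?_
    rw [← Algebra.smul_def]
    exact Submodule.smul_mem _ _ (Submodule.subset_span ⟨i, rfl⟩)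
  have hspan' : ∀ i, (u 0)⁻¹ * p i ∈ Submodule.span k (Set.range v') := fun i => by
    rw [← hAv']
    refine Submodule.sum_mem _ fun l _ => ?_
    rw [← Algebra.smul_def]
    exact Submodule.smul_mem _ _ (Submodule.subset_span ⟨l, rfl⟩)
  have hxy' : IntermediateField.adjoin k ({x', y'} : Set K) = ⊤ := by
    set M := IntermediateField.adjoin k ({x', y'} : Set K)
    have hmem : ∀ i, (u 0)⁻¹ * p i ∈ M := fun i => by
      have h : Submodule.span k (Set.range v') ≤ M.toSubalgebra.toSubmodule := Submodule.span_le.mpr (by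
        rintro _ ⟨l, rfl⟩
        fin_cases l
        · exact one_mem M
        · exact IntermediateField.subset_adjoin k _ (Set.mem_insert _ _)
        · exact IntermediateField.subset_adjoin k _ (Set.mem_insert_of_mem _ rfl))
      exact h (hspan' i)
    have hpi : ∀ i, p i ∈ M := fun i => by
      have h := div_mem (hmem i) (hmem 0)
      rwa [show p 0 = 1 from rfl, mul_one, mul_div_assoc,
        show (u 0)⁻¹ * (p i / (u 0)⁻¹) = p i by field_simp] at h
    rw [eq_top_iff, ← hxy]
    refine IntermediateField.adjoin_le_iff.mpr ?_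
    rintro _ (rfl | rfl)
    · exact hpi 1
    · exact hpi 2
  have hM : ∀ P : Place k K, FunFld.mapDiv k v' P = D P + P.ord (u 0) := fun P => by
    refine le_antisymm (mapDiv_le_of_val hF0 v' ⟨0, rfl⟩ fun l => ?_) (le_sub_iff_add_le.mp
      (mapDiv_le_of_val hF0 p ⟨0, rfl⟩ fun i => ?_))
    · rw [hv', map_mul, map_inv₀, val_eq_exp P hu0, ← exp_neg, neg_neg, add_comm (D P), exp_add]
      exact mul_le_mul' le_rfl (val_span_le_mapDiv hF0 p ⟨0, rfl⟩ (hspan l) P)
    · have h := val_span_le_mapDiv hF0 v' ⟨0, rfl⟩ (hspan' i) P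
      rw [map_mul, map_inv₀, inv_mul_le_iff₀ (zero_lt_iff.mpr (val_ne_zero P hu0)), val_eq_exp P hu0, ← exp_add] at h
      refine h.trans_eq ?_
      congr 1; ring
  have hdeg' : (FunFld.mapDiv k v').deg = e := by
    rw [show FunFld.mapDiv k v' = D + FunFld.div k (u 0) from Finsupp.ext fun P => by
      rw [Finsupp.add_apply, div_apply hF0]; exact hM P, Divisor.deg_add, deg_div hF0, hDe, add_zero]
  have hGhom : G.IsHomogeneous e := by
    have h := IsHomogeneous.aeval (φ := F) (n := 1) hFhom (fun i : Fin 3 => ∑ l, C (A i l) * X l)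
      (fun i => IsHomogeneous.sum _ _ _ fun l _ => by
        simpa using (isHomogeneous_C _ _).mul (isHomogeneous_X k l))
    rwa [one_mul] at h
  have hGv : aeval v' G = 0 := by
    rw [hGdef, ← AlgHom.comp_apply, comp_aeval]
    have : (fun i => aeval v' (∑ l, C (A i l) * X l)) = fun i => (u 0)⁻¹ * p i := by
      funext i
      rw [← hAv' i, map_sum]
      exact Finset.sum_congr rfl fun l _ => by rw [map_mul, aeval_C, aeval_X]
    rw [this, aeval_scale hFhom, hFp, mul_zero]
  have hGtop : eval ![(0 : k), 0, 1] G = eval v F := by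
    rw [← aeval_eq_eval, hGdef, ← AlgHom.comp_apply, comp_aeval, aeval_eq_eval]
    congr 1
    refine congrArg _ (funext fun i => ?_)
    simp [Fin.sum_univ_three, hA2]
  have hexact : ∀ R : Place k K, R.1 y' ≤ 1 ∨ R.1 y' ≤ R.1 x' := by
    intro R
    by_contra! hlt
    obtain ⟨h1, h2⟩ := hlt
    have hy0 : v' 2 ≠ 0 := fun h0 => by
      rw [show y' = v' 2 from rfl, h0, map_zero] at h1; exact not_lt_zero h1
    refine hvF (hGtop ▸ eval_eq_zero R (x := fun i => v' i / v' 2) (fun i => ?_)
      (aeval_ratio_eq_zero v' hy0 hGhom hGv))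
    fin_cases i
    · simp only [Fin.zero_eta, Matrix.cons_val_zero, map_zero, sub_zero, map_div₀]
      rw [show v' 0 = 1 from rfl, map_one, show v' 2 = y' from rfl]
      exact (div_lt_one₀ (zero_lt_one.trans h1)).mpr h1
    · simp only [Fin.mk_one, Matrix.cons_val_one, Matrix.cons_val_zero, map_zero, sub_zero, map_div₀]
      rw [show v' 1 = x' from rfl, show v' 2 = y' from rfl]
      exact (div_lt_one₀ (zero_lt_one.trans h1)).mpr h2
    · show R.1 (v' 2 / v' 2 - algebraMap k K 1) < 1
      rw [div_self hy0, map_one, sub_self, map_zero]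
      exact zero_lt_one
  have hdiv : ∀ l, Q.1 (u l / p j) ≤ 1 := fun l => by
    rw [hudef, Finset.sum_div]
    refine Q.1.map_sum_le fun i _ => ?_
    rw [mul_div_assoc, map_mul]
    exact mul_le_one' (Q.2.1 _) (hra i)
  have hxQ : Q.1 x' ≤ 1 := by
    rw [hx', ← div_div_div_cancel_right₀ hj0 (u 1) (u 0), map_div₀, hu0v, div_one]
    exact hdiv 1
  -- the univariate equation
  set gx := IntermediateField.AdjoinSimple.gen k x'
  let T := IntermediateField.adjoin k ({x'} : Set K)
  set h : Polynomial T := aeval (fun i => Polynomial.C (algebraMap k T (A i 0) + algebraMap k T (A i 1) * gx) +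
    Polynomial.C (algebraMap k T (A i 2)) * Polynomial.X) F with hhdef
  obtain ⟨hh1, hh2⟩ := pencil_coeff (L := T) hFhom (fun i => algebraMap k T (A i 0) + algebraMap k T (A i 1) * gx)
    (fun i => A i 2)
  let η : Fin 3 → Polynomial T := ![1, Polynomial.C gx, Polynomial.X]
  have hhG : h = aeval η G := by
    rw [hhdef, hGdef, ← AlgHom.comp_apply (aeval η), comp_aeval]
    refine congrArg (fun q => aeval q F) (funext fun i => ?_)
    simp [η, Fin.sum_univ_three, Polynomial.algebraMap_apply]
  let ev : Polynomial T →ₐ[k] K := (Polynomial.aeval y').restrictScalars k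
  have hev : ∀ q : MvPolynomial (Fin 3) k, ev (aeval η q) = aeval v' q := fun q => by
    rw [← AlgHom.comp_apply, comp_aeval]
    refine congrArg (fun r => aeval r q) (funext fun i => ?_)
    fin_cases i <;> simp [η, ev, v', Polynomial.aeval_C, gx, IntermediateField.AdjoinSimple.algebraMap_gen]
  have hroot : Polynomial.aeval y' h = 0 := by
    show ev h = 0
    rw [hhG, hev, hGv]
  have hder : Polynomial.aeval y' (Polynomial.derivative h) = G' := by
    have hd : Polynomial.derivative h = aeval η (pderiv 2 G) := by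
      rw [hhG]
      let dd : Derivation k (Polynomial T) (Polynomial T) :=
        (Polynomial.derivative' (R := T)).restrictScalars k
      show dd (aeval η G) = _
      rw [D_mvAeval dd G η, Fin.sum_univ_three]
      have e0 : dd (η 0) = 0 := dd.map_one_eq_zero
      have e1 : dd (η 1) = 0 := Polynomial.derivative_C
      have e2 : dd (η 2) = 1 := Polynomial.derivative_X
      simp only [e0, e1, e2, smul_eq_mul, mul_zero, zero_add, add_zero, mul_one]
    show ev (Polynomial.derivative h) = G'
    rw [hd, hev]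
  have hA2' : eval (fun i => A i 2) F = eval v F := by simp only [hA2]
  obtain ⟨hd0, hdle, heq⟩ := adjoint_affine hK hxy' hdx' hexact hdeg' h hh1 (c := eval v F) hvF
    (by rw [← hA2']; exact hh2) hroot (by rw [hder]; exact hG'0) Q hxQ Φ hΦ
  rw [hder] at hdle heq
  refine ⟨by omega, fun h0 z hz => ?_, fun hns => ?_⟩
  · refine (inLocRing_iff Q p hj0 hj z).mpr (affLoc_mono Q (fun l => ?_) (heq (by omega) z hz))
    have hlin : ∀ i, u i / p j ∈ affLoc Q (fun l => p l / p j) := fun i => by
      rw [hudef, Finset.sum_div]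
      refine sum_mem fun l _ => ?_
      rw [mul_div_assoc]
      exact Subalgebra.mul_mem _ (Subalgebra.algebraMap_mem _ _)
        (adjoin_le_affLoc Q _ (Algebra.subset_adjoin ⟨l, rfl⟩))
    have hmem : ∀ i, u i / u 0 ∈ affLoc Q (fun l => p l / p j) := fun i => by
      rw [← div_div_div_cancel_right₀ hj0 (u i) (u 0), div_eq_mul_inv]
      exact Subalgebra.mul_mem _ (hlin i) (inv_mem_affLoc Q _ (hlin 0) hu0v)
    fin_cases l
    · exact hmem 1
    · exact hmem 2
  · have hunit : Q.1 G' = 1 := by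
      have h1 := val_aeval_eq_one Q hra ha (p := ∑ i, C (v i) * pderiv i F) (by simpa using hGa hns)
      rw [map_sum] at h1
      simp only [map_mul, aeval_C] at h1
      have h2 : ∀ i, aeval (fun l => p l / p j) (pderiv i F) = (p j)⁻¹ ^ (e - 1) * aeval p (pderiv i F) := fun i => by
        rw [show (fun l => p l / p j) = fun l => (p j)⁻¹ * p l from funext fun l => div_eq_inv_mul _ _,
          aeval_scale hFhom.pderiv]
      simp only [h2, mul_left_comm _ ((p j)⁻¹ ^ (e - 1)), ← Finset.mul_sum] at h1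
      rw [map_mul, map_pow, map_inv₀] at h1
      rw [hG'eq, map_mul, map_pow, map_inv₀]
      rwa [show Q.1 (u 0) = Q.1 (p j) from by
        rw [map_div₀] at hu0v
        exact (div_eq_one_iff_eq (val_ne_zero Q hj0)).mp hu0v]
    have h1 : Q.ord G' = 0 := ord_of_val_eq Q (by rw [hunit, neg_zero, exp_zero])
    omega

end Groth.Agent.FFLib.Adjoint
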