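import Groth.Agent.FFLib.Plucker
import Groth.Agent.FFLib.Rational

/-! Chains of limit aspects. -/

namespace Groth.Agent.FFLib

open FunFld

theorem IsSeries.mk' {k K : Type*} [Field k] [Field K] [Algebra k K] [IsAlgClosed k]
    (hK : IsFunctionField k K) {D : Divisor k K} {V : Submodule k K} {d r : ℕ} (hD : D.deg = d)
    (hV : V ≤ L D) (hr : Module.finrank k V = r + 1) : IsSeries D V d r :=
  ⟨hK, deg_eq_one hK.1, hD, hV, hr⟩

/-- A chain of aspects, rational away from the ends, glued at the places `B l` and `A (l+1)`. -/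
structure IsChain {k : Type*} [Field k] {N : ℕ} {Z : Fin (N + 1) → Type*} [∀ i, Field (Z i)]
    [∀ i, Algebra k (Z i)] (D : ∀ i, Divisor k (Z i)) (V : ∀ i, Submodule k (Z i))
    (A B : ∀ i, Place k (Z i)) (d r : ℕ) : Prop where
  series : ∀ i, IsSeries (D i) (V i) d r
  ne : ∀ i : Fin (N + 1), 0 < (i : ℕ) → (i : ℕ) < N → A i ≠ B i
  node : ∀ l : Fin N,
    vsum (D l.castSucc) (V l.castSucc) d (B l.castSucc) + vsum (D l.succ) (V l.succ) d (A l.succ) =
      (r + 1) * d

namespace IsChain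

variable {k : Type*} [Field k] {N : ℕ} {Z : Fin (N + 1) → Type*} [∀ i, Field (Z i)]
  [∀ i, Algebra k (Z i)] {D : ∀ i, Divisor k (Z i)} {V : ∀ i, Submodule k (Z i)}
  {A B : ∀ i, Place k (Z i)} {d r : ℕ} (h : IsChain D V A B d r)
include h

theorem mono {l l' : Fin (N + 1)} (h0 : 0 < (l : ℕ)) (hle : (l : ℕ) ≤ l') :
    vsum (D l) (V l) d (A l) ≤ vsum (D l') (V l') d (A l') := by
  obtain ⟨m', hm'⟩ := l'
  induction m', (show (l : ℕ) ≤ m' from hle) using Nat.le_induction with
  | base => rfl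
  | succ m hm ih =>
    refine (ih (by omega) (by omega)).trans ?_
    have hn := h.node ⟨m, by omega⟩
    have := (h.series ⟨m, by omega⟩).vsum_add_le (A ⟨m, by omega⟩) (B ⟨m, by omega⟩)
      (h.ne _ (by simpa using lt_of_lt_of_le h0 hm) (by simp; omega))
    simp only [Fin.castSucc_mk, Fin.succ_mk] at hn
    omega

theorem head_le {c : ℕ} (hc : vsum (D 0) (V 0) d (B 0) + c + r * (r + 1) ≤ (r + 1) * d + tri r)
    {l : Fin (N + 1)} (hl : 0 < (l : ℕ)) : c + tri r ≤ vsum (D l) (V l) d (A l) := by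
  obtain ⟨m, hm⟩ := l
  have hN : 0 < N := by simp at hl; omega
  have hn : vsum (D 0) (V 0) d (B 0) + vsum (D ⟨0 + 1, by omega⟩) (V ⟨0 + 1, by omega⟩) d (A ⟨0 + 1, by omega⟩) =
      (r + 1) * d := h.node ⟨0, hN⟩
  refine le_trans ?_ (h.mono (l := ⟨0 + 1, by simp at hl; omega⟩) (l' := ⟨m, hm⟩) Nat.one_pos
    (by simp at hl ⊢; omega))
  rw [two_mul_tri] at hc
  omega

variable [CharZero k] (hrat : ∀ i, genus k (Z i) = 0) {T : Finset (Fin (N + 1))}
  {Q : ∀ i, Place k (Z i)} (hQA : ∀ i ∈ T, 0 < (i : ℕ) → Q i ≠ A i)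
  (hQB : ∀ i ∈ T, (i : ℕ) < N → Q i ≠ B i) (hcusp : ∀ i ∈ T, r ≤ vdim (D i) (V i) (Q i) 2)
include hrat hcusp

/-- Plücker on one component, with the cusp accounted for when present. -/
theorem local_bound (i : Fin (N + 1)) (S : Finset (Place k (Z i))) (R : Place k (Z i))
    (hR : R ∉ S) (hRQ : i ∈ T → R ≠ Q i) (hSQ : i ∈ T → Q i ∉ S) :
    (∑ P ∈ S, vsum (D i) (V i) d P) + vsum (D i) (V i) d R + tri r + (if i ∈ T then r else 0) ≤
      (r + 1) * d + S.card * tri r := by
  classical
  by_cases hi : i ∈ T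
  · have hp := plucker (h.series i) (hrat i) R (insert (Q i) S) (by simp [hR, hRQ hi])
    have := (h.series i).cusp_le_vsum (Q i) (hcusp i hi)
    rw [Finset.sum_insert (hSQ hi), Finset.card_insert_of_notMem (hSQ hi), add_mul (S.card) 1, one_mul] at hp
    rw [if_pos hi]
    omega
  · rw [if_neg hi]
    simpa using plucker (h.series i) (hrat i) R S hR

omit hrat hcusp in
theorem card_lt_succ (m : ℕ) (hm : m < N + 1) :
    r * (T.filter fun t : Fin (N + 1) => (t : ℕ) < m + 1).card =
      r * (T.filter fun t : Fin (N + 1) => (t : ℕ) < m).card + if (⟨m, hm⟩ : Fin (N + 1)) ∈ T then r else 0 := by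
  classical
  split_ifs with hi
  · rw [show T.filter (fun t : Fin (N + 1) => (t : ℕ) < m + 1) = insert ⟨m, hm⟩ (T.filter fun t : Fin (N + 1) => (t : ℕ) < m) by
      ext t; simp [Fin.ext_iff]; constructor
      · rintro ⟨h1, h2⟩; rcases Nat.lt_or_eq_of_le h2 with h3 | h3
        · exact Or.inr ⟨h1, h3⟩
        · exact Or.inl h3
      · rintro (h1 | ⟨h1, h2⟩)
        · exact ⟨(Fin.ext h1 : t = ⟨m, hm⟩) ▸ hi, by omega⟩
        · exact ⟨h1, by omega⟩,
      Finset.card_insert_of_notMem (by simp), mul_add, mul_one]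
  · rw [add_zero, Finset.filter_congr (s := T) fun t ht => show (t : ℕ) < m + 1 ↔ (t : ℕ) < m from
      ⟨fun h2 => (Nat.lt_succ_iff_lt_or_eq.mp h2).resolve_right fun e => hi ((Fin.ext e : t = ⟨m, hm⟩) ▸ ht),
        fun h2 => by omega⟩]

omit hrat hcusp in
theorem card_gt_pred (m : ℕ) (hm : m < N + 1) (h0 : 0 < m) :
    r * (T.filter fun t : Fin (N + 1) => m - 1 < (t : ℕ)).card =
      r * (T.filter fun t : Fin (N + 1) => m < (t : ℕ)).card + if (⟨m, hm⟩ : Fin (N + 1)) ∈ T then r else 0 := by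
  classical
  split_ifs with hi
  · rw [show T.filter (fun t : Fin (N + 1) => m - 1 < (t : ℕ)) = insert ⟨m, hm⟩ (T.filter fun t : Fin (N + 1) => m < (t : ℕ)) by
      ext t; simp [Fin.ext_iff]; constructor
      · rintro ⟨h1, h2⟩; rcases Nat.lt_or_ge m t with h3 | h3
        · exact Or.inr ⟨h1, h3⟩
        · exact Or.inl (by omega)
      · rintro (h1 | ⟨h1, h2⟩)
        · exact ⟨(Fin.ext h1 : t = ⟨m, hm⟩) ▸ hi, by omega⟩
        · exact ⟨h1, by omega⟩,
      Finset.card_insert_of_notMem (by simp), mul_add, mul_one]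
  · rw [add_zero, Finset.filter_congr (s := T) fun t ht => show m - 1 < (t : ℕ) ↔ m < (t : ℕ) from
      ⟨fun h2 => by
        rcases Nat.lt_or_ge m t with h3 | h3
        · exact h3
        · exact absurd ((Fin.ext (show (t : ℕ) = m by omega) : t = ⟨m, hm⟩) ▸ ht) hi,
        fun h2 => by omega⟩]

include hQA hQB

theorem prefix_bound (m : ℕ) (hm : m + 1 < N + 1) :
    tri r + r * (T.filter fun t : Fin (N + 1) => (t : ℕ) < m + 1).card ≤
      vsum (D ⟨m + 1, hm⟩) (V ⟨m + 1, hm⟩) d (A ⟨m + 1, hm⟩) := by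
  classical
  induction m with
  | zero =>
    have hn := h.node ⟨0, by omega⟩
    simp only [Fin.castSucc_mk, Fin.succ_mk] at hn
    have hl := h.local_bound hrat hcusp ⟨0, by omega⟩ ∅ (B ⟨0, by omega⟩) (Finset.notMem_empty _)
      (fun hi => (hQB _ hi (by simp; omega)).symm) (fun _ => Finset.notMem_empty _)
    rw [Finset.sum_empty, Finset.card_empty, zero_mul] at hl
    have h0 : (T.filter fun t : Fin (N + 1) => (t : ℕ) < 0).card = 0 :=
      Finset.card_eq_zero.mpr (Finset.filter_eq_empty_iff.mpr fun t _ => by omega)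
    rw [h.card_lt_succ 0 (by omega), h0]
    omega
  | succ m ih =>
    have hn := h.node ⟨m + 1, by omega⟩
    simp only [Fin.castSucc_mk, Fin.succ_mk] at hn
    have hne := h.ne ⟨m + 1, by omega⟩ (Nat.succ_pos m) (show m + 1 < N by omega)
    have hl := h.local_bound hrat hcusp ⟨m + 1, by omega⟩ {A _} (B _)
      (by simpa using hne.symm) (fun hi => (hQB _ hi (show m + 1 < N by omega)).symm)
      (fun hi => Finset.notMem_singleton.mpr (hQA _ hi (Nat.succ_pos m)))
    rw [h.card_lt_succ (m + 1) (by omega)]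
    have := ih (by omega)
    rw [Finset.sum_singleton, Finset.card_singleton, one_mul] at hl
    omega

theorem suffix_bound (j : ℕ) (m : ℕ) (hm : m + j + 1 = N) :
    tri r + r * (T.filter fun t : Fin (N + 1) => m < (t : ℕ)).card ≤
      vsum (D ⟨m, by omega⟩) (V ⟨m, by omega⟩) d (B ⟨m, by omega⟩) := by
  classical
  have hn := h.node ⟨m, by omega⟩
  simp only [Fin.castSucc_mk, Fin.succ_mk] at hn
  have hc := h.card_gt_pred (r := r) (T := T) (m + 1) (by omega) (Nat.succ_pos m)
  rw [Nat.add_sub_cancel] at hc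
  induction j generalizing m with
  | zero =>
    have hl := h.local_bound hrat hcusp ⟨m + 1, by omega⟩ ∅ (A ⟨m + 1, by omega⟩) (Finset.notMem_empty _)
      (fun hi => (hQA _ hi (Nat.succ_pos m)).symm) (fun _ => Finset.notMem_empty _)
    have h0 : (T.filter fun t : Fin (N + 1) => m + 1 < (t : ℕ)).card = 0 :=
      Finset.card_eq_zero.mpr (Finset.filter_eq_empty_iff.mpr fun t _ => by have := t.isLt; omega)
    rw [Finset.sum_empty, Finset.card_empty, zero_mul] at hl
    rw [hc, h0]
    omega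
  | succ j ih =>
    have hne := h.ne ⟨m + 1, by omega⟩ (Nat.succ_pos m) (show m + 1 < N by omega)
    have hl := h.local_bound hrat hcusp ⟨m + 1, by omega⟩ {B _} (A _)
      (by simpa using hne) (fun hi => (hQA _ hi (Nat.succ_pos m)).symm)
      (fun hi => Finset.notMem_singleton.mpr (hQB _ hi (show m + 1 < N by omega)))
    have hn' := h.node ⟨m + 1, by omega⟩
    simp only [Fin.castSucc_mk, Fin.succ_mk] at hn'
    have hc' := h.card_gt_pred (r := r) (T := T) (m + 1 + 1) (by omega) (Nat.succ_pos _)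
    rw [Nat.add_sub_cancel] at hc'
    have := ih (m + 1) (by omega) hn' hc'
    rw [Finset.sum_singleton, Finset.card_singleton, one_mul] at hl
    rw [hc]
    omega

theorem left_bound (i : Fin (N + 1)) (hi : 0 < (i : ℕ)) :
    tri r + r * (T.filter fun t : Fin (N + 1) => (t : ℕ) < i).card ≤ vsum (D i) (V i) d (A i) := by
  obtain ⟨n, hn⟩ := i
  obtain ⟨m, rfl⟩ : ∃ m, n = m + 1 := ⟨n - 1, by simp at hi; omega⟩
  exact h.prefix_bound hrat hQA hQB hcusp m hn

theorem right_bound (i : Fin (N + 1)) (hi : (i : ℕ) < N) :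
    tri r + r * (T.filter fun t : Fin (N + 1) => (i : ℕ) < t).card ≤ vsum (D i) (V i) d (B i) :=
  h.suffix_bound hrat hQA hQB hcusp (N - 1 - i) i (by omega)

omit hrat hcusp hQA hQB in
theorem card_split (i : Fin (N + 1)) :
    r * (T.erase i).card =
      r * (T.filter fun t : Fin (N + 1) => (t : ℕ) < i).card + r * (T.filter fun t : Fin (N + 1) => (i : ℕ) < t).card := by
  classical
  rw [← mul_add, ← Finset.card_union_of_disjoint (Finset.disjoint_filter.mpr fun t _ h1 h2 => by omega)]
  congr 2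
  ext t
  simp [Fin.ext_iff]
  constructor
  · rintro ⟨h1, h2⟩; rcases Nat.lt_or_ge (i : ℕ) t with h3 | h3
    · exact Or.inr ⟨h2, h3⟩
    · exact Or.inl ⟨h2, by omega⟩
  · rintro (⟨h1, h2⟩ | ⟨h1, h2⟩) <;> exact ⟨by omega, h1⟩

omit hrat hcusp hQA hQB in
theorem card_erase (i : Fin (N + 1)) :
    r * T.card = r * (T.erase i).card + if i ∈ T then r else 0 := by
  classical
  split_ifs with hi
  · rw [← Finset.card_erase_add_one hi, mul_add, mul_one]
  · rw [Finset.erase_eq_of_notMem hi, add_zero]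

/-- The bound at a further place `Q'` of any component. -/
theorem extra_bound (i : Fin (N + 1)) (Q' : Place k (Z i)) (hQ'A : 0 < (i : ℕ) → Q' ≠ A i)
    (hQ'B : (i : ℕ) < N → Q' ≠ B i) (hQ'Q : i ∈ T → Q' ≠ Q i) :
    vsum (D i) (V i) d Q' + r * T.card + tri r ≤ (r + 1) * d := by
  classical
  rw [h.card_erase i, h.card_split i]
  have hL0 : (i : ℕ) = 0 → (T.filter fun t : Fin (N + 1) => (t : ℕ) < i).card = 0 := fun e =>
    Finset.card_eq_zero.mpr (Finset.filter_eq_empty_iff.mpr fun t _ => by omega)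
  have hR0 : ¬ (i : ℕ) < N → (T.filter fun t : Fin (N + 1) => (i : ℕ) < t).card = 0 := fun e =>
    Finset.card_eq_zero.mpr (Finset.filter_eq_empty_iff.mpr fun t _ => by have := t.isLt; omega)
  rcases Nat.eq_zero_or_pos (i : ℕ) with h0 | h0 <;> by_cases hN : (i : ℕ) < N
  · have hl := h.local_bound hrat hcusp i {B i} Q' (by simpa using hQ'B hN) hQ'Q
      (fun hi => by simpa using hQB _ hi hN)
    have := h.right_bound hrat hQA hQB hcusp i hN
    rw [hL0 h0]
    rw [Finset.sum_singleton, Finset.card_singleton, one_mul] at hl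
    omega
  · have hl := h.local_bound hrat hcusp i ∅ Q' (by simp) hQ'Q (by simp)
    rw [Finset.sum_empty, Finset.card_empty, zero_mul] at hl
    rw [hL0 h0, hR0 hN]
    omega
  · have hl := h.local_bound hrat hcusp i {A i, B i} Q' (by simp [hQ'A h0, hQ'B hN]) hQ'Q
      (fun hi => by simp [hQA _ hi h0, hQB _ hi hN])
    have := h.right_bound hrat hQA hQB hcusp i hN
    have := h.left_bound hrat hQA hQB hcusp i h0
    rw [Finset.sum_pair (h.ne i h0 hN), Finset.card_pair (h.ne i h0 hN)] at hl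
    omega
  · have hl := h.local_bound hrat hcusp i {A i} Q' (by simpa using hQ'A h0) hQ'Q
      (fun hi => by simpa using hQA _ hi h0)
    have := h.left_bound hrat hQA hQB hcusp i h0
    rw [hR0 hN]
    rw [Finset.sum_singleton, Finset.card_singleton, one_mul] at hl
    omega

theorem total_bound : r * T.card + r * (r + 1) ≤ (r + 1) * d := by
  classical
  rw [two_mul_tri, h.card_erase (Fin.last N), h.card_split (Fin.last N)]
  have hR0 : (T.filter fun t : Fin (N + 1) => N < (t : ℕ)).card = 0 :=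
    Finset.card_eq_zero.mpr (Finset.filter_eq_empty_iff.mpr fun t _ => by have := t.isLt; omega)
  rw [Fin.val_last, hR0]
  rcases Nat.eq_zero_or_pos N with h0 | h0
  · have hc : (T.filter fun t : Fin (N + 1) => (t : ℕ) < N).card = 0 :=
      Finset.card_eq_zero.mpr (Finset.filter_eq_empty_iff.mpr fun t _ => by omega)
    rw [hc]
    by_cases hi : Fin.last N ∈ T
    · have hl := plucker (h.series _) (hrat _) (Q (Fin.last N)) ∅ (by simp)
      have := (h.series _).cusp_le_vsum (Q (Fin.last N)) (hcusp _ hi)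
      rw [if_pos hi]
      simp at hl ⊢
      omega
    · obtain ⟨P⟩ := exists_place (h.series (Fin.last N)).hK.1
      have hl := plucker (h.series _) (hrat _) P ∅ (by simp)
      have := (h.series _).tri_le_vsum P
      rw [if_neg hi]
      simp at hl ⊢
      omega
  · have hl := h.local_bound hrat hcusp (Fin.last N) ∅ (A (Fin.last N)) (by simp)
      (fun hi => (hQA _ hi (by simpa using h0)).symm) (by simp)
    have := h.left_bound hrat hQA hQB hcusp (Fin.last N) (by simpa using h0)
    rw [Fin.val_last] at this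
    rw [Finset.sum_empty, Finset.card_empty, zero_mul] at hl
    omega

end IsChain

end Groth.Agent.FFLib
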