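import Groth.Agent.FFLib.Separation
import Groth.Agent.FFLib.ProjJac

/-! The conductor of the local ring of a curve in its integral closure. -/

namespace Groth.Agent.FFLib

open FunFld IntermediateField WithZero

variable {k K : Type*} [Field k] [Field K] [Algebra k K]

/-- A common denominator for the large linear systems. -/
theorem exists_conductor [IsAlgClosed k] (hK : IsFunctionField k K) {n : ℕ} (hn : 1 ≤ n) {φ : Fin (n + 1) → K}
    (hφ : LinearIndependent k φ)
    (hbir : IntermediateField.adjoin k (Set.range fun i => φ i / φ 0) = ⊤) :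
    ∃ (n₀ e : ℕ) (b : K), b ≠ 0 ∧ b ∈ Submodule.span k (Set.range φ) ^ e ∧
      ∀ q : ℕ, ∀ z ∈ L ((n₀ + q : ℕ) • FunFld.mapDiv k φ),
        z * b ∈ Submodule.span k (Set.range φ) ^ (q + (n₀ + e)) := by
  classical
  have h := isBpfSeries_span' hK hφ
  have hd := mapDiv_deg_pos hK hn hφ
  set D := FunFld.mapDiv k φ
  set V := Submodule.span k (Set.range φ) with hV
  have hs : φ 0 ∈ V := Submodule.subset_span ⟨0, rfl⟩
  have hs0 := hφ.ne_zero (0 : Fin (n + 1))
  set n₀ : ℕ := 2 * genus k K + 2 with hn₀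
  have := L_finite hK.1 ((n₀ : ℕ) • D)
  let basis := Module.finBasis k (L ((n₀ : ℕ) • D))
  have hrange : (Set.range fun i => φ i / φ 0) = (fun v => v / φ 0) '' Set.range φ := by
    rw [← Set.range_comp]; rfl
  have hfrac : ∀ i, ∃ (m : ℕ) (a c : K), a ∈ V ^ m ∧ c ∈ V ^ m ∧ c ≠ 0 ∧
      (basis i : K) / φ 0 ^ n₀ = a / c := by
    intro i
    have hmem : (basis i : K) / φ 0 ^ n₀ ∈ IntermediateField.adjoin k (Set.range fun i => φ i / φ 0) := by
      rw [hbir]; trivial
    obtain ⟨a, ha, c, hc, heq⟩ := IntermediateField.mem_adjoin_iff_div.mp hmem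
    rw [hrange] at ha hc
    obtain ⟨m₁, h1⟩ := (mem_adjoin_div_iff hs hs0 Submodule.subset_span le_rfl).mp ha
    obtain ⟨m₂, h2⟩ := (mem_adjoin_div_iff hs hs0 Submodule.subset_span le_rfl).mp hc
    rcases eq_or_ne c 0 with rfl | hc0
    · refine ⟨0, 0, 1, zero_mem _, by rw [Submodule.pow_zero]; exact Submodule.one_le.mp le_rfl,
        one_ne_zero, ?_⟩
      rw [heq]; simp
    refine ⟨m₁ + m₂, a * φ 0 ^ (m₁ + m₂), c * φ 0 ^ (m₁ + m₂), ?_, ?_,
      mul_ne_zero hc0 (pow_ne_zero _ hs0), by rw [heq, mul_div_mul_right _ _ (pow_ne_zero _ hs0)]⟩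
    · rw [show a * φ 0 ^ (m₁ + m₂) = a * φ 0 ^ m₁ * φ 0 ^ m₂ by rw [pow_add, mul_assoc]]
      exact exp_mem_mul_pow hs h1 _
    · rw [add_comm m₁, show c * φ 0 ^ (m₂ + m₁) = c * φ 0 ^ m₂ * φ 0 ^ m₁ by rw [pow_add, mul_assoc]]
      exact exp_mem_mul_pow hs h2 _
  choose m a c ha hc hc0 heq using hfrac
  set b : K := ∏ i, c i
  set e : ℕ := ∑ i, m i
  have hprod : ∀ S : Finset (Fin (Module.finrank k ↥(L ((n₀ : ℕ) • D)))),
      ∏ i ∈ S, c i ∈ V ^ (∑ i ∈ S, m i) := fun S => by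
    induction S using Finset.induction_on with
    | empty => rw [Finset.prod_empty, Finset.sum_empty, Submodule.pow_zero]; exact Submodule.one_le.mp le_rfl
    | insert i S hi ih =>
      rw [Finset.prod_insert hi, Finset.sum_insert hi, pow_add]
      exact Submodule.mul_mem_mul (hc i) ih
  have hb0 : b ≠ 0 := Finset.prod_ne_zero_iff.mpr fun i _ => hc0 i
  have hbV : b ∈ V ^ e := hprod Finset.univ
  suffices hgen : ∀ z ∈ L ((n₀ : ℕ) • D), z * b ∈ V ^ (n₀ + e) by
    obtain ⟨P₀⟩ := exists_place hK.1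
    obtain ⟨s', hs', t', ht', hs'0, ht'0, -, hst⟩ := exists_pair hK h P₀
    refine ⟨n₀, e, b, hb0, hbV, fun q z hz => ?_⟩
    have hz' := L_le_pow_mul hK h.le hs' hs'0 ht' ht'0 hst hd.le (n₀ := n₀)
      (by push_cast [hn₀]; nlinarith) q hz
    rw [pow_add]
    clear hz
    induction hz' using Submodule.mul_induction_on' with
    | mem_mul_mem u hu v hv => rw [mul_assoc]; exact Submodule.mul_mem_mul hu (hgen v hv)
    | add u _ v _ hu hv => rw [add_mul]; exact Submodule.add_mem _ hu hv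
  intro z hz
  have hz' : z = ∑ i, basis.repr ⟨z, hz⟩ i • (basis i : K) := by
    conv_lhs => rw [show z = ((⟨z, hz⟩ : L ((n₀ : ℕ) • D)) : K) from rfl, ← basis.sum_repr ⟨z, hz⟩]
    rw [Submodule.coe_sum]
    rfl
  rw [hz', Finset.sum_mul]
  refine Submodule.sum_mem _ fun i _ => ?_
  rw [smul_mul_assoc]
  refine Submodule.smul_mem _ _ ?_
  have e1 : (basis i : K) * b = φ 0 ^ n₀ * (a i * ∏ l ∈ Finset.univ.erase i, c l) := by
    have hb' : b = c i * ∏ l ∈ Finset.univ.erase i, c l :=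
      (Finset.mul_prod_erase Finset.univ c (Finset.mem_univ i)).symm
    have heq' := heq i
    rw [div_eq_div_iff (pow_ne_zero _ hs0) (hc0 i)] at heq'
    rw [hb']
    linear_combination (∏ l ∈ Finset.univ.erase i, c l) * heq'
  rw [e1, pow_add]
  refine Submodule.mul_mem_mul (Submodule.pow_mem_pow V hs n₀) ?_
  rw [show e = m i + ∑ l ∈ Finset.univ.erase i, m l from
    (Finset.add_sum_erase Finset.univ m (Finset.mem_univ i)).symm, pow_add]
  exact Submodule.mul_mem_mul (ha i) (hprod _)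

end Groth.Agent.FFLib
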