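import Groth.Agent.FFLib.Ext
import Groth.Agent.FFLib.Weil.Frob

/-! Frobenius of a constant-field extension and places defined over the finite constant field. -/

set_option linter.unusedSectionVars false
set_option linter.style.haveILetI false

namespace Groth.Agent.FFLib.FrobPlace

open FunFld WithZero Groth.Agent.FFLib

variable {k K kb Kb : Type*} [Field k] [Field K] [Algebra k K] [Field kb] [Algebra k kb]
  [Field Kb] [Algebra K Kb] [Algebra kb Kb]

theorem span_const_eq_top {ι : Type*} (b : Module.Basis ι k kb)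
    (hc : ∀ c : k, algebraMap K Kb (algebraMap k K c) = algebraMap kb Kb (algebraMap k kb c))
    (hgen : Algebra.adjoin K (Set.range (algebraMap kb Kb)) = ⊤) :
    Submodule.span K (Set.range fun i => algebraMap kb Kb (b i)) = ⊤ := by
  have hcl : (Submonoid.closure (Set.range (algebraMap kb Kb)) : Set Kb) =
      Set.range (algebraMap kb Kb) := by
    have h : Submonoid.closure (Set.range (algebraMap kb Kb)) =
        MonoidHom.mrange (algebraMap kb Kb).toMonoidHom := by
      rw [← Submonoid.closure_eq (MonoidHom.mrange (algebraMap kb Kb).toMonoidHom)]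
      rfl
    rw [h]; rfl
  have h := congrArg Subalgebra.toSubmodule hgen
  rw [Algebra.adjoin_eq_span, hcl, Algebra.top_toSubmodule] at h
  refine le_antisymm le_top (h ▸ Submodule.span_le.mpr ?_)
  rintro _ ⟨c, rfl⟩
  rw [SetLike.mem_coe, ← b.linearCombination_repr c, Finsupp.linearCombination_apply, Finsupp.sum, map_sum]
  refine Submodule.sum_mem _ fun i _ => ?_
  rw [Algebra.smul_def, map_mul, ← hc, ← Algebra.smul_def]
  exact Submodule.smul_mem _ _ (Submodule.subset_span ⟨i, rfl⟩)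

theorem val_eq_one_of_unit {Γ : Type*} [LinearOrderedCommGroupWithZero Γ] (w : Valuation Kb Γ)
    {P : Place k K} (h1 : ∀ x : K, P.1 x ≤ 1 → w (algebraMap K Kb x) ≤ 1) {u : K} (hu : P.1 u = 1) :
    w (algebraMap K Kb u) = 1 := by
  have hu0 : u ≠ 0 := by rintro rfl; simp at hu
  refine le_antisymm (h1 u hu.le) ?_
  have h := h1 u⁻¹ (by rw [map_inv₀, hu, inv_one])
  rw [map_inv₀, map_inv₀] at h
  exact (inv_le_one₀ (zero_lt_iff.mpr (by simpa using hu0))).mp h

/-- Over a degree one place, every element is `t ^ m` times a unit, for all extensions at once. -/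
theorem exists_common_exponent
    (hc : ∀ c : k, algebraMap K Kb (algebraMap k K c) = algebraMap kb Kb (algebraMap k kb c))
    (hgen : Algebra.adjoin K (Set.range (algebraMap kb Kb)) = ⊤)
    (P : Place k K) (hres : ∀ x : K, P.1 x ≤ 1 → ∃ c : k, P.1 (x - algebraMap k K c) < 1)
    {t : K} (ht0 : t ≠ 0) (ht : P.1 t = exp (-1)) {z : Kb} (hz : z ≠ 0) :
    ∃ m : ℤ, ∀ w : Valuation Kb (WithZero (Multiplicative ℤ)),
      (∀ x : K, P.1 x ≤ 1 → w (algebraMap K Kb x) ≤ 1) →
      (∀ x : K, P.1 x < 1 → w (algebraMap K Kb x) < 1) →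
      (∀ c : kb, c ≠ 0 → w (algebraMap kb Kb c) = 1) →
      w z = w (algebraMap K Kb t) ^ m := by
  classical
  obtain ⟨ι, ⟨b⟩⟩ : ∃ ι : Set kb, Nonempty (Module.Basis ι k kb) :=
    ⟨_, ⟨Module.Basis.ofVectorSpace k kb⟩⟩
  obtain ⟨f, hf⟩ := Finsupp.mem_span_range_iff_exists_finsupp.mp
    ((span_const_eq_top b hc hgen).symm ▸ (Submodule.mem_top : z ∈ ⊤))
  have hne : f.support.Nonempty := by
    rw [Finsupp.support_nonempty_iff]
    rintro rfl
    exact hz (by simpa using hf.symm)
  obtain ⟨i0, hi0, hmax⟩ := f.support.exists_max_image (fun i => P.1 (f i)) hne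
  have hf0 : f i0 ≠ 0 := Finsupp.mem_support_iff.mp hi0
  have ha : ∀ i ∈ f.support, P.1 (f i / f i0) ≤ 1 := fun i hi => by
    rw [map_div₀]
    exact div_le_one_of_le₀ (hmax i hi) zero_le
  have hex : ∀ i, ∃ e : k, i ∈ f.support → P.1 (f i / f i0 - algebraMap k K e) < 1 := fun i => by
    by_cases hi : i ∈ f.support
    · exact ⟨_, fun _ => (hres _ (ha i hi)).choose_spec⟩
    · exact ⟨0, fun h => absurd h hi⟩
  choose e he using hex
  have he0 : e i0 ≠ 0 := fun h => by
    have := he i0 hi0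
    rw [h, map_zero, sub_zero, div_self hf0, map_one] at this
    exact lt_irrefl _ this
  set c0 : kb := ∑ i ∈ f.support, e i • b i with hc0
  have hc0ne : c0 ≠ 0 := fun h =>
    he0 (linearIndependent_iff'.mp b.linearIndependent f.support e (hc0 ▸ h) i0 hi0)
  set u0 : K := f i0 / t ^ P.ord (f i0) with hu0
  have hu : P.1 u0 = 1 := by
    rw [hu0, map_div₀, map_zpow₀, ht, val_eq_exp P hf0, ← exp_zsmul, smul_neg, zsmul_one, Int.cast_eq]
    simp
  have hdec : z = algebraMap K Kb (f i0) * (algebraMap kb Kb c0 +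
      ∑ i ∈ f.support, algebraMap K Kb (f i / f i0 - algebraMap k K (e i)) * algebraMap kb Kb (b i)) := by
    rw [← hf, Finsupp.sum, hc0, map_sum, ← Finset.sum_add_distrib, Finset.mul_sum]
    refine Finset.sum_congr rfl fun i _ => ?_
    rw [Algebra.smul_def, Algebra.smul_def, map_sub, map_mul, ← hc]
    have : algebraMap K Kb (f i) = algebraMap K Kb (f i0) * algebraMap K Kb (f i / f i0) := by
      rw [← map_mul, mul_div_cancel₀ _ hf0]
    rw [this]; ring
  refine ⟨P.ord (f i0), fun w h1 h2 h3 => ?_⟩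
  have hw0 : w (algebraMap kb Kb c0) = 1 := h3 _ hc0ne
  have hsmall : w (∑ i ∈ f.support,
      algebraMap K Kb (f i / f i0 - algebraMap k K (e i)) * algebraMap kb Kb (b i)) < 1 := by
    refine Valuation.map_sum_lt w one_ne_zero fun i hi => ?_
    rw [map_mul, h3 _ (b.ne_zero i), mul_one]
    exact h2 _ (he i hi)
  rw [hdec, map_mul, Valuation.map_add_eq_of_lt_left _ (hw0.symm ▸ hsmall), hw0, mul_one]
  have : f i0 = u0 * t ^ P.ord (f i0) := by rw [hu0, div_mul_cancel₀ _ (zpow_ne_zero _ ht0)]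
  conv_lhs => rw [this]
  rw [map_mul, map_mul, map_zpow₀, map_zpow₀, val_eq_one_of_unit w h1 hu, one_mul]

theorem lt_one_of_iff {Q : Valuation Kb (WithZero (Multiplicative ℤ))} {P : Place k K}
    (h : ∀ x : K, Q (algebraMap K Kb x) ≤ 1 ↔ P.1 x ≤ 1) (x : K) :
    Q (algebraMap K Kb x) < 1 ↔ P.1 x < 1 := by
  rcases eq_or_ne x 0 with rfl | hx
  · simp
  · have h' := h x⁻¹
    rw [map_inv₀, map_inv₀, map_inv₀, inv_le_one₀ (zero_lt_iff.mpr (by simpa using hx)),
      inv_le_one₀ (zero_lt_iff.mpr (by simpa using hx))] at h'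
    exact not_le.symm.trans (h'.not.trans not_le)

theorem res_of_deg_one {P : Place k K} (hP : P.deg = 1) (x : K) (hx : P.1 x ≤ 1) :
    ∃ c : k, P.1 (x - algebraMap k K c) < 1 := by
  obtain ⟨c, hc⟩ : ∃ c : k, algebraMap k (Res P) c = IsLocalRing.residue P.O ⟨x, hx⟩ := by
    have h : (⊥ : Subalgebra k (Res P)) = ⊤ := Subalgebra.bot_eq_top_of_finrank_eq_one hP
    exact Algebra.mem_bot.mp (h.symm ▸ Algebra.mem_top)
  refine ⟨c, ?_⟩
  rw [residue_algebraMap, eq_comm, ← sub_eq_zero, ← map_sub, residue_eq_zero] at hc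
  exact hc

theorem fixed_of_deg_one [Finite k]
    (hc : ∀ c : k, algebraMap K Kb (algebraMap k K c) = algebraMap kb Kb (algebraMap k kb c))
    (hgen : Algebra.adjoin K (Set.range (algebraMap kb Kb)) = ⊤)
    (F : Kb →+* Kb) (hF1 : ∀ c : kb, F (algebraMap kb Kb c) = algebraMap kb Kb c)
    (hF2 : ∀ x : K, F (algebraMap K Kb x) = algebraMap K Kb x ^ Nat.card k)
    (Q : Place kb Kb) (P : Place k K)
    (hQP : ∀ x : K, Q.1 (algebraMap K Kb x) ≤ 1 ↔ P.1 x ≤ 1) (hP : P.deg = 1) (z : Kb) :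
    Q.1 (F z) < 1 ↔ Q.1 z < 1 := by
  rcases eq_or_ne z 0 with rfl | hz
  · simp
  obtain ⟨t, ht0, ht⟩ := exists_unif P
  obtain ⟨m, hm⟩ := exists_common_exponent hc hgen P (res_of_deg_one hP) ht0 ht hz
  have hlt := lt_one_of_iff hQP
  have h3 : ∀ c : kb, c ≠ 0 → Q.1 (algebraMap kb Kb c) = 1 := fun c hc' => val_algebraMap Q hc'
  have hq : Nat.card k ≠ 0 := Nat.card_pos.ne'
  have e1 := hm Q.1 (fun x => (hQP x).mpr) (fun x => (hlt x).mpr) h3
  have e2 := hm (Q.1.comap F)
    (fun x hx => by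
      rw [Valuation.comap_apply, hF2, map_pow]; exact pow_le_one₀ zero_le ((hQP x).mpr hx))
    (fun x hx => by
      rw [Valuation.comap_apply, hF2, map_pow]; exact pow_lt_one₀ zero_le ((hlt x).mpr hx) hq)
    (fun c hc' => by rw [Valuation.comap_apply, hF1]; exact h3 c hc')
  rw [Valuation.comap_apply, Valuation.comap_apply, hF2, map_pow] at e2
  have ht1 : Q.1 (algebraMap K Kb t) < 1 := (hlt t).mpr (by rw [ht, ← exp_zero, exp_lt_exp]; omega)
  have hpos : 0 < Q.1 (algebraMap K Kb t) := zero_lt_iff.mpr (val_ne_zero Q (by simpa using ht0))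
  rw [e1, e2, zpow_lt_one_iff_right_of_lt_one₀ hpos ht1,
    zpow_lt_one_iff_right_of_lt_one₀ (pow_pos hpos _) (pow_lt_one₀ zero_le ht1 hq)]

theorem exists_lt_one_of_prod {L : Type*} [Field L] (w : Valuation L (WithZero (Multiplicative ℤ)))
    (s : Multiset L) (h : w s.prod < 1) : ∃ a ∈ s, w a < 1 := by
  induction s using Multiset.induction with
  | empty => simp at h
  | cons a s ih =>
    by_cases ha : w a < 1
    · exact ⟨a, by simp, ha⟩
    · rw [Multiset.prod_cons, map_mul] at h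
      obtain ⟨b, hb, hb'⟩ := ih (lt_of_le_of_lt (le_mul_of_one_le_left' (not_lt.mp ha)) h)
      exact ⟨b, Multiset.mem_cons_of_mem hb, hb'⟩

theorem exists_place_below [IsAlgClosure k kb]
    (hc : ∀ c : k, algebraMap K Kb (algebraMap k K c) = algebraMap kb Kb (algebraMap k kb c))
    (hgen : Algebra.adjoin K (Set.range (algebraMap kb Kb)) = ⊤)
    (hK : IsFF k K) (Q : Place kb Kb) :
    ∃ P : Place k K, ∀ x : K, Q.1 (algebraMap K Kb x) ≤ 1 ↔ P.1 x ≤ 1 := by
  have : Algebra.IsAlgebraic k kb := IsAlgClosure.isAlgebraic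
  have hint : ∀ z : Kb, IsIntegral K z := fun z => by
    have hz : z ∈ Algebra.adjoin K (Set.range (algebraMap kb Kb)) := hgen ▸ Algebra.mem_top
    refine (mem_integralClosure_iff K Kb).mp (Algebra.adjoin_le ?_ hz)
    rintro _ ⟨c, rfl⟩
    obtain ⟨g, hg, hg0⟩ := (Algebra.IsIntegral.isIntegral (R := k) c)
    refine (mem_integralClosure_iff K Kb).mpr ⟨g.map (algebraMap k K), hg.map _, ?_⟩
    rw [Polynomial.eval₂_map, show (algebraMap K Kb).comp (algebraMap k K) =
      (algebraMap kb Kb).comp (algebraMap k kb) from RingHom.ext hc, ← Polynomial.hom_eval₂, hg0, map_zero]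
  let v := Q.1.comap (algebraMap K Kb)
  have hk : ∀ c : k, v (algebraMap k K c) ≤ 1 := fun c => by
    show Q.1 (algebraMap K Kb (algebraMap k K c)) ≤ 1
    rw [hc]; exact Q.2.1 _
  have hnt : ∃ x, x ≠ 0 ∧ v x < 1 := by
    by_contra! h
    have h1 : ∀ x : K, Q.1 (algebraMap K Kb x) ≤ 1 := fun x => by
      rcases eq_or_ne x 0 with rfl | hx
      · simp
      · have h1 : (1 : WithZero (Multiplicative ℤ)) ≤ v x⁻¹ := h x⁻¹ (inv_ne_zero hx)
        rw [map_inv₀] at h1
        exact (one_le_inv₀ (zero_lt_iff.mpr (by simpa [v] using hx))).mp h1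
    obtain ⟨t, ht0, ht⟩ := exists_unif Q
    obtain ⟨p, hp, hp0⟩ := hint t⁻¹
    rw [Polynomial.eval₂_eq_sum_range, Finset.sum_range_succ, hp.coeff_natDegree, map_one,
      one_mul] at hp0
    have hgt : 1 < Q.1 t⁻¹ := by rw [map_inv₀, ht, ← exp_neg, neg_neg, ← exp_zero, exp_lt_exp]; omega
    have hlt : Q.1 (∑ i ∈ Finset.range p.natDegree, algebraMap K Kb (p.coeff i) * t⁻¹ ^ i) <
        Q.1 (t⁻¹ ^ p.natDegree) := by
      refine Valuation.map_sum_lt _ (val_ne_zero Q (pow_ne_zero _ (inv_ne_zero ht0))) fun i hi => ?_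
      rw [map_mul, map_pow, map_pow]
      exact lt_of_le_of_lt (mul_le_of_le_one_left' (h1 _))
        (pow_lt_pow_right₀ hgt (Finset.mem_range.mp hi))
    have := Valuation.map_add_eq_of_lt_right _ hlt
    rw [hp0, map_zero] at this
    exact val_ne_zero Q (pow_ne_zero _ (inv_ne_zero ht0)) this.symm
  obtain ⟨P, hP⟩ := exists_place_of_valuation hK hk hnt
  exact ⟨P, fun x => (hP x).symm⟩

theorem mem_range_of_pow_card [Finite k] {c : kb} (hq : c ^ Nat.card k = c) :
    c ∈ Set.range (algebraMap k kb) := by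
  haveI := Fintype.ofFinite k
  have hs : ((Polynomial.X : Polynomial k) ^ Fintype.card k - Polynomial.X).Splits :=
    Polynomial.splits_iff_card_roots.mpr (by
      rw [FiniteField.roots_X_pow_card_sub_X, FiniteField.X_pow_card_sub_X_natDegree_eq k
        Fintype.one_lt_card]; rfl)
  have hmem : c ∈ (((Polynomial.X : Polynomial k) ^ Fintype.card k - Polynomial.X).map
      (algebraMap k kb)).roots := by
    rw [Polynomial.mem_roots (Polynomial.map_ne_zero
      (FiniteField.X_pow_card_sub_X_ne_zero k Fintype.one_lt_card))]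
    simp [← Nat.card_eq_fintype_card, hq]
  rw [hs.roots_map] at hmem
  obtain ⟨a, -, ha⟩ := Multiset.mem_map.mp hmem
  exact ⟨a, ha⟩

theorem deg_one_of_fixed [Finite k] [IsAlgClosure k kb]
    (hc : ∀ c : k, algebraMap K Kb (algebraMap k K c) = algebraMap kb Kb (algebraMap k kb c))
    (F : Kb →+* Kb) (hF1 : ∀ c : kb, F (algebraMap kb Kb c) = algebraMap kb Kb c)
    (hF2 : ∀ x : K, F (algebraMap K Kb x) = algebraMap K Kb x ^ Nat.card k)
    (hK : IsFF k K) (Q : Place kb Kb) (P : Place k K)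
    (hQP : ∀ x : K, Q.1 (algebraMap K Kb x) ≤ 1 ↔ P.1 x ≤ 1)
    (hfix : ∀ z : Kb, Q.1 (F z) < 1 ↔ Q.1 z < 1) : P.deg = 1 := by
  letI : Algebra k Kb := ((algebraMap kb Kb).comp (algebraMap k kb)).toAlgebra
  haveI : IsScalarTower k kb Kb := IsScalarTower.of_algebraMap_eq fun _ => rfl
  haveI : IsScalarTower k K Kb := IsScalarTower.of_algebraMap_eq fun x => (hc x).symm
  haveI : IsAlgClosed kb := IsAlgClosure.isAlgClosed k
  have hlt := lt_one_of_iff hQP
  have key : ∀ x : P.O, ∃ a : k, algebraMap k (Res P) a = IsLocalRing.residue P.O x := by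
    intro x
    set r : Res P := IsLocalRing.residue P.O x
    have hr : IsIntegral k r := @IsIntegral.of_finite k (Res P) _ _ _ (residue_finite hK P) r
    set g := minpoly k r
    haveI : IsScalarTower k P.O K := IsScalarTower.of_algebraMap_eq fun _ => rfl
    have h1 : P.1 (Polynomial.aeval (x : K) g) < 1 := by
      have h0 : IsLocalRing.residue P.O (Polynomial.aeval x g) = 0 := by
        have := minpoly.aeval k r
        rw [Polynomial.aeval_def, Polynomial.hom_eval₂]
        rw [Polynomial.aeval_def] at this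
        exact this
      rw [residue_eq_zero] at h0
      rwa [show ((Polynomial.aeval x g : P.O) : K) = Polynomial.aeval (x : K) g from
        (Polynomial.aeval_algebraMap_apply K x g).symm] at h0
    rw [← hlt, ← Polynomial.aeval_algebraMap_apply, ← Polynomial.aeval_map_algebraMap kb,
      (IsAlgClosed.splits (g.map (algebraMap k kb))).eq_prod_roots_of_monic
        ((minpoly.monic hr).map _), map_multiset_prod, Multiset.map_map] at h1
    obtain ⟨y, hy, hy1⟩ := exists_lt_one_of_prod _ _ h1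
    obtain ⟨c, -, rfl⟩ := Multiset.mem_map.mp hy
    simp only [Function.comp_apply, map_sub, Polynomial.aeval_X, Polynomial.aeval_C] at hy1
    have h2 := (hfix _).mpr hy1
    rw [map_sub, hF1, hF2] at h2
    have h3 : Q.1 ((algebraMap K Kb (x : K) - algebraMap kb Kb c) ^ Nat.card k) < 1 := by
      rw [map_pow]; exact pow_lt_one₀ zero_le hy1 Nat.card_pos.ne'
    have h4 := sub_pow_card (k := k) (algebraMap K Kb (x : K)) (algebraMap kb Kb c) 1
    rw [pow_one] at h4
    rw [h4] at h3
    have h5 : c ^ Nat.card k = c := by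
      by_contra hne
      have := (Q.1.map_sub _ _).trans_lt (max_lt h2 h3)
      rw [sub_sub_sub_cancel_left, ← map_pow, ← map_sub, val_algebraMap Q (sub_ne_zero.mpr hne)] at this
      exact lt_irrefl _ this
    obtain ⟨a, rfl⟩ := mem_range_of_pow_card h5
    rw [← hc, ← map_sub, hlt] at hy1
    refine ⟨a, ?_⟩
    rw [residue_algebraMap, eq_comm, ← sub_eq_zero, ← map_sub, residue_eq_zero]
    exact hy1
  refine (LinearEquiv.finrank_eq (LinearEquiv.ofBijective (Algebra.linearMap k (Res P))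
    ⟨(algebraMap k (Res P)).injective, fun r => ?_⟩)).symm.trans (Module.finrank_self k)
  obtain ⟨x, rfl⟩ := IsLocalRing.residue_surjective r
  exact key x

end Groth.Agent.FFLib.FrobPlace
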