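import Groth.Agent.FFLib.Splitting
import Groth.Agent.FFLib.FrobPlace

/-! Places over the algebraic closure are defined over finite levels. -/

set_option linter.unusedSectionVars false
set_option linter.style.haveILetI false

namespace Groth.Agent.FFLib.Descent

open FunFld WithZero
open scoped TensorProduct

universe u v

theorem val_le_one_of_eval₂ {R L : Type*} [CommRing R] [Field L] (f : R →+* L)
    (v : Valuation L (WithZero (Multiplicative ℤ))) (hv : ∀ r, v (f r) ≤ 1) {p : Polynomial R} (hp : p.Monic)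
    {y : L} (hy : p.eval₂ f y = 0) : v y ≤ 1 := by
  by_contra hlt
  rw [not_le] at hlt
  have hy0 : y ≠ 0 := fun e => by rw [e, map_zero] at hlt; exact not_lt_zero hlt
  rw [Polynomial.eval₂_eq_sum_range, Finset.sum_range_succ, hp.coeff_natDegree, map_one, one_mul] at hy
  have hsum : v (∑ i ∈ Finset.range p.natDegree, f (p.coeff i) * y ^ i) < v (y ^ p.natDegree) := by
    refine Valuation.map_sum_lt _ (by simpa using pow_ne_zero _ hy0) fun i hi => ?_
    rw [map_mul, map_pow, map_pow]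
    exact lt_of_le_of_lt (mul_le_of_le_one_left' (hv _)) (pow_lt_pow_right₀ hlt (Finset.mem_range.mp hi))
  have := Valuation.map_add_eq_of_lt_right _ hsum
  rw [hy, map_zero] at this
  exact pow_ne_zero p.natDegree hy0 ((Valuation.zero_iff v).mp this.symm)

theorem place_defined_over_finite {k kbar : Type u} {K Kbar : Type v} [Field k] [Field kbar] [Field K] [Field Kbar]
    [Algebra k kbar] [IsAlgClosure k kbar] [Algebra k K] [Algebra K Kbar] [Algebra kbar Kbar] [Algebra k Kbar]
    [IsScalarTower k kbar Kbar] [IsScalarTower k K Kbar]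
    (h : Function.Bijective (Algebra.TensorProduct.productMap
      (IsScalarTower.toAlgHom k kbar Kbar) (IsScalarTower.toAlgHom k K Kbar)))
    (hK : IsFunctionField k K) (hg : IsGeometric k K) (Q : Place kbar Kbar) :
    ∃ k' : IntermediateField k kbar, FiniteDimensional k k' ∧
      (∃ z ∈ Algebra.adjoin K (Set.range fun c : k' => algebraMap kbar Kbar c), Q.1 z = exp (-1)) ∧
      ∀ Q' : Place kbar Kbar,
        (∃ e : ℕ, ∀ z ∈ Algebra.adjoin K (Set.range fun c : k' => algebraMap kbar Kbar c), Q'.1 z = Q.1 z ^ e) →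
          Q' = Q := by
  classical
  haveI : Algebra.IsAlgebraic k kbar := IsAlgClosure.isAlgebraic
  set Φ := model h
  have hΦ : ∀ (c : kbar) (x : K), Φ (c ⊗ₜ[k] x) = algebraMap kbar Kbar c * algebraMap K Kbar x :=
    fun c x => Algebra.TensorProduct.productMap_apply_tmul _ _ _ _
  have hc : ∀ c : k, algebraMap K Kbar (algebraMap k K c) = algebraMap kbar Kbar (algebraMap k kbar c) := fun c => by
    rw [← IsScalarTower.algebraMap_apply, ← IsScalarTower.algebraMap_apply]
  have hgen : Algebra.adjoin K (Set.range (algebraMap kbar Kbar)) = ⊤ := by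
    rw [eq_top_iff]
    intro z _
    obtain ⟨w, rfl⟩ := Φ.surjective z
    induction w with
    | zero => rw [map_zero]; exact zero_mem _
    | tmul c x =>
      rw [hΦ]
      exact Subalgebra.mul_mem _ (Algebra.subset_adjoin ⟨c, rfl⟩) (Subalgebra.algebraMap_mem _ x)
    | add a b ha hb => rw [map_add]; exact Subalgebra.add_mem _ (ha trivial) (hb trivial)
  obtain ⟨P, hP⟩ := FrobPlace.exists_place_below hc hgen hK.1 Q
  have hPlt := FrobPlace.lt_one_of_iff (Q := Q.1) hP
  obtain ⟨F, hF, n, g, hgl, hspan, hsplit⟩ := exists_split_level (kb := kbar) hK hg P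
  obtain ⟨t₀, ht₀0, ht₀⟩ := exists_unif Q
  obtain ⟨Fz, hFz, hzlev⟩ := exists_finite_lev (Φ.symm t₀)
  haveI := hF
  haveI := hFz
  set k' := F ⊔ Fz with hk'
  refine ⟨k', inferInstance, ?_⟩
  set A := Algebra.adjoin K (Set.range fun c : k' => algebraMap kbar Kbar c) with hA
  have hlevA : ∀ w : kbar ⊗[k] K, w ∈ lev k' → Φ w ∈ A := by
    rintro _ ⟨u, rfl⟩
    induction u with
    | zero => rw [map_zero, map_zero]; exact zero_mem A
    | tmul c x =>
      rw [ι_tmul, hΦ]
      exact Subalgebra.mul_mem A (Algebra.subset_adjoin ⟨c, rfl⟩) (Subalgebra.algebraMap_mem A x)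
    | add a b ha hb => rw [map_add, map_add]; exact Subalgebra.add_mem A ha hb
  refine ⟨⟨t₀, ?_, ht₀⟩, ?_⟩
  · have := hlevA _ (lev_mono (le_sup_right (a := F)) hzlev)
    rwa [AlgEquiv.apply_symm_apply] at this
  rintro Q' ⟨e, he⟩
  have he0 : e ≠ 0 := fun e0 => by
    have := he 0 (zero_mem A)
    rw [map_zero, e0, pow_zero] at this
    exact zero_ne_one this
  have heK : ∀ x : K, Q'.1 (algebraMap K Kbar x) = Q.1 (algebraMap K Kbar x) ^ e :=
    fun x => he _ (Subalgebra.algebraMap_mem A x)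
  have hP' : ∀ x : K, Q'.1 (algebraMap K Kbar x) ≤ 1 ↔ P.1 x ≤ 1 := fun x => by
    rw [heK, pow_le_one_iff he0, hP]
  obtain ⟨hsg, hsx⟩ := hsplit k' le_sup_left
  let Q₀ : Place k' Kbar := ⟨Q.1, fun c => Q.2.1 (c : kbar), Q.2.2⟩
  have hboth : ∀ {y : Kbar}, y ∈ A → (∃ c : k', Q₀.1 (y - algebraMap k' Kbar c) < 1) →
      ∃ C : kbar, Q.1 (y - algebraMap kbar Kbar C) < 1 ∧ Q'.1 (y - algebraMap kbar Kbar C) < 1 := by
    rintro y hy ⟨c, hc1⟩
    refine ⟨(c : kbar), hc1, ?_⟩
    rw [he _ (Subalgebra.sub_mem A hy (Algebra.subset_adjoin ⟨c, rfl⟩))]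
    exact pow_lt_one' hc1 he0
  -- common constants for integral elements
  have hint : ∀ w : kbar ⊗[k] K, IsInt kbar P w →
      ∃ C : kbar, Q.1 (Φ w - algebraMap kbar Kbar C) < 1 ∧ Q'.1 (Φ w - algebraMap kbar Kbar C) < 1 := by
    intro w hw
    have hmem := hspan w hw
    rw [← Submodule.span_union] at hmem
    clear hw
    induction hmem using Submodule.span_induction with
    | mem a ha =>
      rcases ha with ⟨i, rfl⟩ | ⟨x, hx, rfl⟩
      · refine hboth (hlevA _ (lev_mono le_sup_left (hgl i).2)) ?_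
        obtain ⟨G, hG, hsp, D, hD, hGD⟩ := hsg i
        refine exists_const_of_split Q₀ hG hsp ?_
        obtain ⟨p, hp, hpz⟩ := (hgl i).1
        have hcomp : (Φ : kbar ⊗[k] K →ₐ[k] Kbar).toRingHom.comp (rightO kbar P) =
            (algebraMap K Kbar).comp P.O.subtype := RingHom.ext fun a => by
          show Φ ((1 : kbar) ⊗ₜ[k] (a : K)) = algebraMap K Kbar (a : K)
          rw [hΦ, map_one, one_mul]
        have hy1 : Q.1 (Φ (g i)) ≤ 1 := by
          refine val_le_one_of_eval₂ ((algebraMap K Kbar).comp P.O.subtype) Q.1 (fun r => (hP _).mpr r.2) hp ?_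
          rw [← hcomp]
          exact (Polynomial.hom_eval₂ p (rightO kbar P) (Φ : kbar ⊗[k] K →ₐ[k] Kbar).toRingHom (g i)).symm.trans
            (by rw [hpz, map_zero])
        refine val_aeval_lt_one (P := P) Q₀.1 (fun x hx => (hPlt x).mpr hx) hy1 hD ?_
        rw [← hcomp, Polynomial.aeval_algHom_apply Φ, hGD]
        exact Polynomial.hom_eval₂ D (rightO kbar P) (Φ : kbar ⊗[k] K →ₐ[k] Kbar).toRingHom (g i)
      · have e1 : Φ ((1 : kbar) ⊗ₜ[k] x) = algebraMap K Kbar x := by rw [hΦ, map_one, one_mul]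
        show ∃ C : kbar, Q.1 (Φ ((1 : kbar) ⊗ₜ[k] x) - _) < 1 ∧ Q'.1 (Φ ((1 : kbar) ⊗ₜ[k] x) - _) < 1
        rw [e1]
        refine hboth (Subalgebra.algebraMap_mem A x) ?_
        obtain ⟨G, hG, hsp, hGx⟩ := hsx x hx
        refine exists_const_of_split Q₀ hG hsp ?_
        rw [Polynomial.aeval_algebraMap_apply]
        exact (hPlt _).mpr hGx
    | zero => exact ⟨0, by simp⟩
    | add a b _ _ ha hb =>
      obtain ⟨c, hc1, hc2⟩ := ha
      obtain ⟨d, hd1, hd2⟩ := hb
      exact ⟨c + d, by rw [map_add, map_add, add_sub_add_comm]; exact (Q.1.map_add _ _).trans_lt (max_lt hc1 hd1),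
        by rw [map_add, map_add, add_sub_add_comm]; exact (Q'.1.map_add _ _).trans_lt (max_lt hc2 hd2)⟩
    | smul c a _ ha =>
      obtain ⟨d, hd1, hd2⟩ := ha
      have e1 : Φ (c • a) = algebraMap kbar Kbar c * Φ a := by
        rw [Algebra.smul_def, map_mul, show algebraMap kbar (kbar ⊗[k] K) c = c ⊗ₜ[k] (1 : K) from rfl, hΦ,
          map_one, mul_one]
      refine ⟨c * d, ?_, ?_⟩ <;> rw [e1, map_mul, ← mul_sub, map_mul]
      · exact lt_of_le_of_lt (mul_le_of_le_one_left' (Q.2.1 c)) hd1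
      · exact lt_of_le_of_lt (mul_le_of_le_one_left' (Q'.2.1 c)) hd2
  -- comparison at every finite level
  refine place_eq_of_iff fun w => ?_
  obtain ⟨L, hL, w₀, hw₀⟩ := exists_finite_lev (Φ.symm w)
  haveI := hL
  letI : Field (L ⊗[k] K) := (hg L hL).toField
  letI : Algebra K (L ⊗[k] K) := (Algebra.TensorProduct.includeRight : K →ₐ[k] L ⊗[k] K).toRingHom.toAlgebra
  haveI : IsScalarTower k K (L ⊗[k] K) := IsScalarTower.of_algebraMap_eq fun c =>
    ((Algebra.TensorProduct.includeRight : K →ₐ[k] L ⊗[k] K).commutes c).symm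
  have hbij : Function.Bijective (Algebra.TensorProduct.productMap (IsScalarTower.toAlgHom k L (L ⊗[k] K))
      (IsScalarTower.toAlgHom k K (L ⊗[k] K))) := by
    have : Algebra.TensorProduct.productMap (IsScalarTower.toAlgHom k L (L ⊗[k] K))
        (IsScalarTower.toAlgHom k K (L ⊗[k] K)) = AlgHom.id k (L ⊗[k] K) :=
      Algebra.TensorProduct.ext (AlgHom.ext fun a => by simp) (AlgHom.ext fun a => by
        simp only [AlgHom.restrictScalars_apply, AlgHom.comp_apply, Algebra.TensorProduct.includeRight_apply,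
          Algebra.TensorProduct.productMap_apply_tmul, map_one, one_mul]
        rfl)
    rw [this]; exact Function.bijective_id
  obtain ⟨vK, -⟩ := exists_const_basis (K := K) hbij (Module.finBasis k L)
  haveI : FiniteDimensional K (L ⊗[k] K) := Module.Finite.of_basis vK
  let θ : L ⊗[k] K →ₐ[k] Kbar := (Φ : kbar ⊗[k] K →ₐ[k] Kbar).comp (ι L)
  have hθK : ∀ x : K, θ (algebraMap K (L ⊗[k] K) x) = algebraMap K Kbar x := fun x => by
    show Φ (ι L ((1 : L) ⊗ₜ[k] x)) = _
    rw [ι_tmul, hΦ, OneMemClass.coe_one, map_one, one_mul]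
  have hmk : ∀ S : Place kbar Kbar, (∀ x : K, S.1 (algebraMap K Kbar x) ≤ 1 ↔ P.1 x ≤ 1) →
      ∃ R : Place k (L ⊗[k] K), IsOver R P ∧ ∀ u, R.1 u ≤ 1 ↔ S.1 (θ u) ≤ 1 := by
    intro S hS
    obtain ⟨t, ht0, ht⟩ := exists_unif P
    obtain ⟨R, hR⟩ := exists_place_of_valuation (IsFF.ext (K' := L ⊗[k] K) hK.1)
      (v := S.1.comap θ.toRingHom) (fun c => by
        show S.1 (θ (algebraMap k (L ⊗[k] K) c)) ≤ 1
        rw [θ.commutes, IsScalarTower.algebraMap_apply k kbar Kbar]; exact S.2.1 _)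
      ⟨algebraMap K _ t, by simpa using ht0, by
        show S.1 (θ (algebraMap K _ t)) < 1
        rw [hθK, FrobPlace.lt_one_of_iff hS, ht, ← exp_zero, exp_lt_exp]; omega⟩
    obtain ⟨P', eR, heR1, heR⟩ := exists_over (K' := L ⊗[k] K) hK.1 R
    have : P' = P := place_eq_of_iff fun x => by
      rw [← hS, ← hθK, show S.1 (θ (algebraMap K _ x)) ≤ 1 ↔ _ from (hR _).symm, heR, pow_le_one_iff (by omega)]
    exact ⟨R, this ▸ ⟨eR, heR⟩, fun u => hR u⟩
  obtain ⟨R, hR, hRiff⟩ := hmk Q hP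
  obtain ⟨R', hR', hR'iff⟩ := hmk Q' hP'
  have hlt : ∀ (S : Place kbar Kbar) (T : Place k (L ⊗[k] K)), (∀ u, T.1 u ≤ 1 ↔ S.1 (θ u) ≤ 1) →
      ∀ u, T.1 u < 1 ↔ S.1 (θ u) < 1 := by
    intro S T hST u
    rcases eq_or_ne u 0 with rfl | hu
    · simp
    · have h' := hST u⁻¹
      rw [map_inv₀, map_inv₀, map_inv₀, inv_le_one₀ (zero_lt_iff.mpr (by simpa using hu)),
        inv_le_one₀ (zero_lt_iff.mpr (by simpa using hu))] at h'
      exact not_le.symm.trans (h'.not.trans not_le)
  have hRR : R = R' := by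
    by_contra hne
    set Qs := (over_finite (K' := L ⊗[k] K) hK.1 P).toFinset
    obtain ⟨u, hu⟩ := exists_approx Qs (fun T => if T = R' then 1 else 0) (fun _ => 1)
    have hu' : ∀ T : Place k (L ⊗[k] K), IsOver T P → T.1 u ≤ 1 := fun T hT => by
      have := (le_exp_neg_one_iff T).mp (hu T ((Set.Finite.mem_toFinset _).mpr hT))
      rw [← sub_add_cancel u (if T = R' then 1 else 0)]
      exact (T.1.map_add _ _).trans (max_le this.le (by split_ifs <;> simp))
    have h0 : R.1 u < 1 := by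
      have := (le_exp_neg_one_iff R).mp (hu R ((Set.Finite.mem_toFinset _).mpr hR))
      rwa [if_neg hne, sub_zero] at this
    have h1 : R'.1 u = 1 := by
      have := (le_exp_neg_one_iff R').mp (hu R' ((Set.Finite.mem_toFinset _).mpr hR'))
      rw [if_pos rfl] at this
      rw [← sub_add_cancel u 1, Valuation.map_add_eq_of_lt_right _ (by rwa [map_one]), map_one]
    obtain ⟨C, hC1, hC2⟩ := hint (ι L u) ((isInt_ι_iff L u).mpr (exists_monic_of_le_one hK.1 P hu'))
    have hQu : Q.1 (θ u) < 1 := (hlt Q R hRiff u).mp h0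
    have hC : C = 0 := by
      by_contra hC
      have hC1' : Q.1 (θ u - algebraMap kbar Kbar C) < 1 := hC1
      rw [Q.1.map_sub_eq_of_lt_right (by rw [val_algebraMap Q hC]; exact hQu), val_algebraMap Q hC] at hC1'
      exact lt_irrefl _ hC1'
    rw [hC, map_zero, sub_zero] at hC2
    exact ((hlt Q' R' hR'iff u).mpr hC2).ne h1
  have hw : θ w₀ = w := by
    show Φ (ι L w₀) = w
    rw [hw₀, AlgEquiv.apply_symm_apply]
  rw [← hw, ← hR'iff, ← hRR, hRiff]

end Groth.Agent.FFLib.Descent
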