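import Groth.Agent.FFLib.Diff.Nonsing
import Groth.Agent.FFLib.Diff.ScalarExt
import Mathlib.FieldTheory.PurelyInseparable.PerfectClosure
import Mathlib.FieldTheory.IsAlgClosed.AlgebraicClosure
import Mathlib.RingTheory.Discriminant
import Mathlib.RingTheory.Flat.Basic

/-! Semilocal integral elements of `kb ⊗ K` are spanned by those of a finite purely inseparable level. -/

set_option linter.unusedSectionVars false
set_option linter.style.haveILetI false

namespace Groth.Agent.FFLib.Descent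

open FunFld WithZero
open scoped TensorProduct

universe u v

variable {k : Type u} {K : Type v} [Field k] [Field K] [Algebra k K]
variable (kb : Type u) [Field kb] [Algebra k kb]

/-- The valuation ring inside `kb ⊗ K`. -/
noncomputable def rightO (P : Place k K) : P.O →+* kb ⊗[k] K :=
  (Algebra.TensorProduct.includeRight : K →ₐ[k] kb ⊗[k] K).toRingHom.comp P.O.subtype

/-- Integrality over the valuation ring. -/
def IsInt (P : Place k K) (z : kb ⊗[k] K) : Prop := (rightO kb P).IsIntegralElem z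

variable {kb}

/-- The inclusion of a level. -/
noncomputable def ι (F : IntermediateField k kb) : F ⊗[k] K →ₐ[k] kb ⊗[k] K :=
  Algebra.TensorProduct.map F.val (AlgHom.id k K)

/-- The level `F ⊗ K` in `kb ⊗ K`. -/
def lev (F : IntermediateField k kb) : Set (kb ⊗[k] K) := Set.range (ι F)

theorem ι_tmul (F : IntermediateField k kb) (a : F) (x : K) : ι F (a ⊗ₜ x) = (a : kb) ⊗ₜ[k] x := rfl

theorem ι_injective (F : IntermediateField k kb) : Function.Injective (ι (K := K) F) :=
  Module.Flat.rTensor_preserves_injective_linearMap (M := K) F.val.toLinearMap F.val.injective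

theorem lev_mono {F G : IntermediateField k kb} (h : F ≤ G) : (lev F : Set (kb ⊗[k] K)) ⊆ lev G := by
  rintro _ ⟨w, rfl⟩
  refine ⟨Algebra.TensorProduct.map (IntermediateField.inclusion h) (AlgHom.id k K) w, ?_⟩
  induction w with
  | zero => simp
  | tmul a x => rfl
  | add a b ha hb => rw [map_add, map_add, map_add, ha, hb]

theorem exists_finite_lev [Algebra.IsAlgebraic k kb] (z : kb ⊗[k] K) :
    ∃ F : IntermediateField k kb, FiniteDimensional k F ∧ z ∈ lev F := by
  induction z with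
  | zero => exact ⟨⊥, inferInstance, 0, map_zero _⟩
  | tmul a x =>
    exact ⟨IntermediateField.adjoin k {a},
      IntermediateField.adjoin.finiteDimensional (Algebra.IsIntegral.isIntegral a),
      ⟨a, IntermediateField.mem_adjoin_simple_self k a⟩ ⊗ₜ x, rfl⟩
  | add a b ha hb =>
    obtain ⟨F, hF, hFa⟩ := ha
    obtain ⟨G, hG, hGb⟩ := hb
    obtain ⟨wa, rfl⟩ := lev_mono (le_sup_left (b := G)) hFa
    obtain ⟨wb, rfl⟩ := lev_mono (le_sup_right (a := F)) hGb
    exact ⟨F ⊔ G, IntermediateField.finiteDimensional_sup F G, wa + wb, map_add _ _ _⟩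

theorem exists_finite_lev_fintype [Algebra.IsAlgebraic k kb] {n : ℕ} (z : Fin n → kb ⊗[k] K) :
    ∃ F : IntermediateField k kb, FiniteDimensional k F ∧ ∀ i, z i ∈ lev F := by
  choose F hF hz using fun i => exists_finite_lev (z i)
  exact ⟨⨆ i, F i, IntermediateField.finiteDimensional_iSup_of_finite, fun i => lev_mono (le_iSup F i) (hz i)⟩

theorem lev_pi_subset {F : IntermediateField k kb} {w : kb ⊗[k] K} (hw : w ∈ lev F) :
    ∃ (s : Finset (F × K)), w = ∑ q ∈ s, (q.1 : kb) ⊗ₜ[k] q.2 := by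
  obtain ⟨u, rfl⟩ := hw
  obtain ⟨s, rfl⟩ := TensorProduct.exists_finset u
  exact ⟨s, by rw [map_sum]; rfl⟩

theorem isInt_tmul [Algebra.IsAlgebraic k kb] (P : Place k K) (c : kb) {x : K} (hx : P.1 x ≤ 1) :
    IsInt kb P (c ⊗ₜ[k] x) := by
  have h1 : IsInt kb P (c ⊗ₜ[k] (1 : K)) := by
    obtain ⟨p, hp, hpc⟩ := Algebra.IsIntegral.isIntegral (R := k) c
    refine ⟨p.map (algebraMap k P.O), hp.map _, ?_⟩
    rw [Polynomial.eval₂_map, show (rightO kb P).comp (algebraMap k P.O) =
      (Algebra.TensorProduct.includeLeftRingHom : kb →+* kb ⊗[k] K).comp (algebraMap k kb) from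
      RingHom.ext fun a => by
        show (1 : kb) ⊗ₜ[k] algebraMap k K a = algebraMap k kb a ⊗ₜ[k] (1 : K)
        rw [Algebra.algebraMap_eq_smul_one, Algebra.algebraMap_eq_smul_one, TensorProduct.tmul_smul,
          TensorProduct.smul_tmul'],
      show c ⊗ₜ[k] (1 : K) = (Algebra.TensorProduct.includeLeftRingHom : kb →+* kb ⊗[k] K) c from rfl,
      ← Polynomial.hom_eval₂, hpc, map_zero]
  have h2 : IsInt kb P ((1 : kb) ⊗ₜ[k] x) := RingHom.isIntegralElem_map (rightO kb P) (x := (⟨x, hx⟩ : P.O))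
  have h := RingHom.IsIntegralElem.mul _ h1 h2
  rw [Algebra.TensorProduct.tmul_mul_tmul, mul_one, one_mul] at h
  exact h

theorem isInt_smul [Algebra.IsAlgebraic k kb] (P : Place k K) (c : kb) {z : kb ⊗[k] K} (hz : IsInt kb P z) :
    IsInt kb P (c • z) := by
  have h := RingHom.IsIntegralElem.mul _ (isInt_tmul P c (x := 1) (by simp)) hz
  rwa [Algebra.smul_def, show algebraMap kb (kb ⊗[k] K) c = c ⊗ₜ[k] (1 : K) from rfl]

/-- The integral elements as a subspace. -/
noncomputable def intSub [Algebra.IsAlgebraic k kb] (P : Place k K) : Submodule kb (kb ⊗[k] K) where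
  carrier := {z | IsInt kb P z}
  add_mem' := RingHom.IsIntegralElem.add _
  zero_mem' := RingHom.isIntegralElem_zero _
  smul_mem' c _ h := isInt_smul P c h

theorem isInt_ι_iff {P : Place k K} (F : IntermediateField k kb) (w : F ⊗[k] K) :
    IsInt kb P (ι F w) ↔
      ∃ p : Polynomial P.O, p.Monic ∧
        p.eval₂ ((Algebra.TensorProduct.includeRight : K →ₐ[k] F ⊗[k] K).toRingHom.comp P.O.subtype) w = 0 := by
  have hcomp : (ι F).toRingHom.comp
      ((Algebra.TensorProduct.includeRight : K →ₐ[k] F ⊗[k] K).toRingHom.comp P.O.subtype) = rightO kb P :=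
    RingHom.ext fun a => ι_tmul F 1 (a : K)
  refine exists_congr fun p => and_congr_right fun _ => ?_
  rw [← hcomp, show ι F w = (ι F).toRingHom w from rfl, ← Polynomial.hom_eval₂]
  exact map_eq_zero_iff (ι F).toRingHom (ι_injective F)

variable [IsAlgClosure k kb] (hK : IsFunctionField k K) (hg : IsGeometric k K)
include hK hg

/-- Integral elements have bounded coordinates. -/
theorem exists_bound (P : Place k K) :
    ∃ (m : ℕ) (v : Fin m → K), ∀ z : kb ⊗[k] K, IsInt kb P z →
      z ∈ Submodule.span kb (Set.range fun i => (1 : kb) ⊗ₜ[k] v i) ⊔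
        Submodule.span kb ((fun x => (1 : kb) ⊗ₜ[k] x) '' {x : K | P.1 x ≤ 1}) := by
  classical
  have : Algebra.IsAlgebraic k kb := IsAlgClosure.isAlgebraic
  obtain ⟨C, hC⟩ := exists_coordExp.{u, v, max u v} hK hg P
  obtain ⟨V, hV, hdig⟩ := exists_digit_space hK.1 P C
  haveI := hV
  refine ⟨_, fun i => ((Module.finBasis k V i : V) : K), fun z hz => ?_⟩
  obtain ⟨F, hF, w, rfl⟩ := exists_finite_lev z
  haveI := hF
  letI : Field (F ⊗[k] K) := (hg F hF).toField
  letI : Algebra K (F ⊗[k] K) := (Algebra.TensorProduct.includeRight : K →ₐ[k] F ⊗[k] K).toRingHom.toAlgebra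
  haveI : IsScalarTower k K (F ⊗[k] K) := IsScalarTower.of_algebraMap_eq fun c =>
    ((Algebra.TensorProduct.includeRight : K →ₐ[k] F ⊗[k] K).commutes c).symm
  have hbij : Function.Bijective (Algebra.TensorProduct.productMap (IsScalarTower.toAlgHom k F (F ⊗[k] K))
      (IsScalarTower.toAlgHom k K (F ⊗[k] K))) := by
    have : Algebra.TensorProduct.productMap (IsScalarTower.toAlgHom k F (F ⊗[k] K))
        (IsScalarTower.toAlgHom k K (F ⊗[k] K)) = AlgHom.id k (F ⊗[k] K) :=
      Algebra.TensorProduct.ext (AlgHom.ext fun a => by simp) (AlgHom.ext fun a => by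
        simp only [AlgHom.restrictScalars_apply, AlgHom.comp_apply, Algebra.TensorProduct.includeRight_apply,
          Algebra.TensorProduct.productMap_apply_tmul, map_one, one_mul]
        rfl)
    rw [this]; exact Function.bijective_id
  obtain ⟨vK, hvK⟩ := exists_const_basis (K := K) hbij (Module.finBasis k F)
  haveI : FiniteDimensional K (F ⊗[k] K) := Module.Finite.of_basis vK
  obtain ⟨p, hp, hpw⟩ := (isInt_ι_iff F w).mp hz
  have hbound := hC F (F ⊗[k] K) hbij _ (Module.finBasis k F) vK hvK w fun R hR =>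
    val_le_one_of_monic' hR hp hpw
  rw [← vK.sum_repr w, map_sum]
  refine Submodule.sum_mem _ fun l _ => ?_
  obtain ⟨d, hd, hdo⟩ := hdig _ (hbound l)
  have hterm : ι F (vK.repr w l • vK l) =
      ((Module.finBasis k F l : F) : kb) • ((1 : kb) ⊗ₜ[k] d + (1 : kb) ⊗ₜ[k] (vK.repr w l - d)) := by
    rw [← TensorProduct.tmul_add, add_sub_cancel, TensorProduct.smul_tmul', smul_eq_mul, mul_one,
      Algebra.smul_def, hvK]
    show ι F ((1 : F) ⊗ₜ[k] vK.repr w l * (Module.finBasis k F l) ⊗ₜ[k] (1 : K)) = _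
    rw [Algebra.TensorProduct.tmul_mul_tmul, one_mul, mul_one, ι_tmul]
  rw [hterm]
  refine Submodule.smul_mem _ _ (Submodule.add_mem_sup ?_ (Submodule.subset_span ⟨_, hdo, rfl⟩))
  have hd' : d = ∑ i, (Module.finBasis k V).repr ⟨d, hd⟩ i • ((Module.finBasis k V i : V) : K) := by
    conv_lhs => rw [show d = ((⟨d, hd⟩ : V) : K) from rfl, ← (Module.finBasis k V).sum_repr ⟨d, hd⟩]
    rw [Submodule.coe_sum]; rfl
  rw [hd', TensorProduct.tmul_sum]
  refine Submodule.sum_mem _ fun i _ => ?_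
  rw [TensorProduct.tmul_smul, ← algebraMap_smul kb]
  exact Submodule.smul_mem _ _ (Submodule.subset_span ⟨i, rfl⟩)

/-- Finitely many integral elements generate modulo the valuation ring. -/
theorem exists_generators (P : Place k K) :
    ∃ (n : ℕ) (g : Fin n → kb ⊗[k] K), (∀ i, IsInt kb P (g i)) ∧ ∀ z, IsInt kb P z →
      z ∈ Submodule.span kb (Set.range g) ⊔
        Submodule.span kb ((fun x => (1 : kb) ⊗ₜ[k] x) '' {x : K | P.1 x ≤ 1}) := by
  have : Algebra.IsAlgebraic k kb := IsAlgClosure.isAlgebraic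
  obtain ⟨m, v, hv⟩ := exists_bound (kb := kb) hK hg P
  set W : Submodule kb (kb ⊗[k] K) := Submodule.span kb (Set.range fun i => (1 : kb) ⊗ₜ[k] v i)
  set O : Submodule kb (kb ⊗[k] K) := Submodule.span kb ((fun x => (1 : kb) ⊗ₜ[k] x) '' {x : K | P.1 x ≤ 1})
  haveI : FiniteDimensional kb W := FiniteDimensional.span_of_finite kb (Set.finite_range _)
  set U : Submodule kb (kb ⊗[k] K) := W ⊓ intSub P
  haveI : FiniteDimensional kb U := Submodule.finiteDimensional_of_le inf_le_left
  have hO : O ≤ intSub P := Submodule.span_le.mpr (by rintro _ ⟨x, hx, rfl⟩; exact isInt_tmul P 1 hx)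
  refine ⟨_, fun i => ((Module.finBasis kb U i : U) : kb ⊗[k] K), fun i => (Module.finBasis kb U i).2.2,
    fun z hz => ?_⟩
  obtain ⟨a, ha, b, hb, rfl⟩ := Submodule.mem_sup.mp (hv z hz)
  have hab : a + b ∈ intSub (kb := kb) P := hz
  have haU : a ∈ U := ⟨ha, ((intSub (kb := kb) P).add_mem_iff_left (hO hb)).mp hab⟩
  refine Submodule.add_mem_sup ?_ hb
  rw [show a = ((⟨a, haU⟩ : U) : kb ⊗[k] K) from rfl, ← (Module.finBasis kb U).sum_repr ⟨a, haU⟩,
    Submodule.coe_sum]
  exact Submodule.sum_mem _ fun i _ => Submodule.smul_mem _ _ (Submodule.subset_span ⟨i, rfl⟩)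

/-- Separable descent. -/
theorem mem_span_of_separable (P : Place k K) {S : IntermediateField k kb} (N : IntermediateField S kb)
    [FiniteDimensional S N] [Algebra.IsSeparable S N] {z : kb ⊗[k] K}
    (hz : IsInt kb P z) (hzN : z ∈ lev (N.restrictScalars k)) :
    z ∈ Submodule.span kb {y | IsInt kb P y ∧ y ∈ lev S} := by
  classical
  haveI : IsAlgClosed kb := IsAlgClosure.isAlgClosed k
  have : Algebra.IsAlgebraic k kb := IsAlgClosure.isAlgebraic
  let b := Module.finBasis S N
  have hcard : Fintype.card (Fin (Module.finrank S N)) = Fintype.card (N →ₐ[S] kb) := by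
    rw [Fintype.card_fin, AlgHom.card]
  let e := Fintype.equivOfCardEq hcard
  obtain ⟨s, rfl⟩ := lev_pi_subset hzN
  -- coordinates over `S`
  let y : Fin (Module.finrank S N) → kb ⊗[k] K := fun l => ∑ q ∈ s, ((b.repr ⟨(q.1 : kb), q.1.2⟩ l : S) : kb) ⊗ₜ[k] q.2
  have hyS : ∀ l, y l ∈ lev S := fun l => ⟨∑ q ∈ s, (b.repr ⟨(q.1 : kb), q.1.2⟩ l) ⊗ₜ[k] q.2, by
    rw [map_sum]; rfl⟩
  have hexp : ∀ σ : N →ₐ[S] kb, ∑ q ∈ s, σ ⟨(q.1 : kb), q.1.2⟩ ⊗ₜ[k] q.2 = ∑ l, σ (b l) • y l := by
    intro σ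
    have h : ∀ a : N, σ a = ∑ l, ((b.repr a l : S) : kb) * σ (b l) := fun a => by
      conv_lhs => rw [← b.sum_repr a, map_sum]
      exact Finset.sum_congr rfl fun l _ => by rw [map_smul, Algebra.smul_def]; rfl
    simp only [y, Finset.smul_sum, TensorProduct.smul_tmul', smul_eq_mul]
    rw [Finset.sum_comm]
    refine Finset.sum_congr rfl fun q _ => ?_
    rw [h, TensorProduct.sum_tmul]
    exact Finset.sum_congr rfl fun l _ => by rw [mul_comm]
  have hint : ∀ σ : N →ₐ[S] kb, IsInt kb P (∑ q ∈ s, σ ⟨(q.1 : kb), q.1.2⟩ ⊗ₜ[k] q.2) := by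
    intro σ
    set w : (N.restrictScalars k) ⊗[k] K := ∑ q ∈ s, q.1 ⊗ₜ[k] q.2
    have hw : ι (N.restrictScalars k) w = ∑ q ∈ s, (q.1 : kb) ⊗ₜ[k] q.2 := by simp only [w, map_sum]; rfl
    obtain ⟨p, hp, hpw⟩ := (isInt_ι_iff _ w).mp (hw ▸ hz)
    let σ' : (N.restrictScalars k) ⊗[k] K →ₐ[k] kb ⊗[k] K :=
      Algebra.TensorProduct.map (σ.restrictScalars k : N →ₐ[k] kb) (AlgHom.id k K)
    have hσ : σ' w = ∑ q ∈ s, σ ⟨(q.1 : kb), q.1.2⟩ ⊗ₜ[k] q.2 := by simp only [w, map_sum]; rfl
    refine ⟨p, hp, ?_⟩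
    rw [← hσ, show rightO kb P = σ'.toRingHom.comp
      ((Algebra.TensorProduct.includeRight : K →ₐ[k] _ ⊗[k] K).toRingHom.comp P.O.subtype) from
      RingHom.ext fun a => by
        show (1 : kb) ⊗ₜ[k] (a : K) = σ' ((1 : (N.restrictScalars k)) ⊗ₜ[k] (a : K))
        simp only [σ', Algebra.TensorProduct.map_tmul, map_one]
        rfl,
      show σ' w = σ'.toRingHom w from rfl, ← Polynomial.hom_eval₂, hpw, map_zero]
  set A := Algebra.embeddingsMatrixReindex S kb b e
  have hA : IsUnit A.det := by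
    refine isUnit_iff_ne_zero.mpr fun h0 => Algebra.discr_not_zero_of_basis S b ?_
    have := Algebra.discr_eq_det_embeddingsMatrixReindex_pow_two S kb b e
    rw [show (Algebra.embeddingsMatrixReindex S kb b e).det = 0 from h0, zero_pow two_ne_zero] at this
    exact (map_eq_zero _).mp this
  have hy : ∀ l, IsInt kb P (y l) := fun l => by
    have hsol : y l = ∑ j, A⁻¹ j l • ∑ i, A i j • y i := by
      simp only [Finset.smul_sum, smul_smul]
      rw [Finset.sum_comm]
      simp only [← Finset.sum_smul]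
      rw [Finset.sum_eq_single l]
      · rw [show ∑ j, A⁻¹ j l * A l j = (A * A⁻¹) l l from Finset.sum_congr rfl fun j _ => mul_comm _ _,
          Matrix.mul_nonsing_inv A hA, Matrix.one_apply_eq, one_smul]
      · intro i _ hi
        rw [show ∑ j, A⁻¹ j l * A i j = (A * A⁻¹) i l from Finset.sum_congr rfl fun j _ => mul_comm _ _,
          Matrix.mul_nonsing_inv A hA, Matrix.one_apply_ne hi, zero_smul]
      · simp
    rw [hsol]
    refine (intSub P).sum_mem fun j _ => (intSub P).smul_mem _ ?_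
    show IsInt kb P _
    have := hint (e j)
    rw [hexp] at this
    exact this
  have : (∑ q ∈ s, (q.1 : kb) ⊗ₜ[k] q.2) = ∑ l, (b l : kb) • y l := hexp N.val
  rw [this]
  exact Submodule.sum_mem _ fun l _ => Submodule.smul_mem _ _ (Submodule.subset_span ⟨hy l, hyS l⟩)

/-- Descent to a finite purely inseparable level. -/
theorem exists_descent (P : Place k K) :
    ∃ F : IntermediateField k kb, FiniteDimensional k F ∧ IsPurelyInseparable k F ∧
      ∃ (n : ℕ) (g : Fin n → kb ⊗[k] K), (∀ i, IsInt kb P (g i) ∧ g i ∈ lev F) ∧ ∀ z, IsInt kb P z →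
        z ∈ Submodule.span kb (Set.range g) ⊔
          Submodule.span kb ((fun x => (1 : kb) ⊗ₜ[k] x) '' {x : K | P.1 x ≤ 1}) := by
  classical
  haveI : IsAlgClosed kb := IsAlgClosure.isAlgClosed k
  haveI : Algebra.IsAlgebraic k kb := IsAlgClosure.isAlgebraic
  obtain ⟨n, g, hgint, hgspan⟩ := exists_generators (kb := kb) hK hg P
  obtain ⟨F₁, hF₁, hgF₁⟩ := exists_finite_lev_fintype g
  haveI := hF₁
  set S := perfectClosure k kb
  haveI : PerfectField S := perfectClosure.perfectField k kb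
  haveI : Algebra.IsAlgebraic S kb := Algebra.IsAlgebraic.tower_top (K := k) S
  let bF := Module.finBasis k F₁
  set N : IntermediateField S kb := IntermediateField.adjoin S (Set.range fun i => (bF i : kb))
  haveI : Finite (Set.range fun i => (bF i : kb)) := (Set.finite_range _).to_subtype
  haveI : FiniteDimensional S N :=
    IntermediateField.finiteDimensional_adjoin fun x _ => Algebra.IsIntegral.isIntegral x
  have hle : F₁ ≤ N.restrictScalars k := by
    intro a ha
    have h : (⟨a, ha⟩ : F₁) = ∑ i, bF.repr ⟨a, ha⟩ i • bF i := (bF.sum_repr _).symm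
    have h' := congrArg (F₁.val) h
    rw [map_sum] at h'
    show a ∈ N
    rw [show a = ∑ i, F₁.val (bF.repr ⟨a, ha⟩ i • bF i) from h']
    refine sum_mem fun i _ => ?_
    rw [map_smul, Algebra.smul_def, IsScalarTower.algebraMap_apply k S kb]
    exact mul_mem (N.algebraMap_mem _) (IntermediateField.subset_adjoin S _ ⟨i, rfl⟩)
  have hg' : ∀ i, g i ∈ Submodule.span kb {y | IsInt kb P y ∧ y ∈ lev S} := fun i =>
    mem_span_of_separable hK hg P N (hgint i) (lev_mono hle (hgF₁ i))
  have hex : ∀ i, ∃ T : Finset (kb ⊗[k] K), (↑T ⊆ {y | IsInt kb P y ∧ y ∈ lev S}) ∧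
      g i ∈ Submodule.span kb (↑T : Set (kb ⊗[k] K)) :=
    fun i => Submodule.mem_span_finite_of_mem_span (hg' i)
  choose T hT hTg using hex
  set U := Finset.univ.biUnion T
  let g' : Fin U.card → kb ⊗[k] K := fun j => (U.equivFin.symm j : kb ⊗[k] K)
  have hg'1 : ∀ j, IsInt kb P (g' j) ∧ g' j ∈ lev S := fun j => by
    obtain ⟨i, -, hi⟩ := Finset.mem_biUnion.mp (U.equivFin.symm j).2
    exact hT i hi
  -- finitely many coefficients in the perfect closure
  have hcoef : ∀ j, ∃ F : IntermediateField k kb, FiniteDimensional k F ∧ F ≤ S ∧ g' j ∈ lev F := fun j => by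
    obtain ⟨s, hs⟩ := lev_pi_subset (hg'1 j).2
    haveI : Finite (((fun q : S × K => (q.1 : kb)) '' ↑s : Set kb)) := (s.finite_toSet.image _).to_subtype
    refine ⟨IntermediateField.adjoin k ((fun q : S × K => (q.1 : kb)) '' ↑s),
      IntermediateField.finiteDimensional_adjoin fun x _ => Algebra.IsIntegral.isIntegral x,
      IntermediateField.adjoin_le_iff.mpr (by rintro _ ⟨q, -, rfl⟩; exact q.1.2), ?_⟩
    rw [hs]
    refine ⟨∑ q ∈ s.attach, (⟨(q.1.1 : kb), IntermediateField.subset_adjoin k _ ⟨q.1, q.2, rfl⟩⟩ :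
      IntermediateField.adjoin k ((fun q : S × K => (q.1 : kb)) '' ↑s)) ⊗ₜ[k] q.1.2, ?_⟩
    rw [map_sum]
    exact Finset.sum_attach s fun q => (q.1 : kb) ⊗ₜ[k] q.2
  choose Fj hFj hFjS hFjg using hcoef
  haveI : ∀ j, FiniteDimensional k (Fj j) := hFj
  refine ⟨⨆ j, Fj j, IntermediateField.finiteDimensional_iSup_of_finite, ?_,
    U.card, g', fun j => ⟨(hg'1 j).1, lev_mono (le_iSup Fj j) (hFjg j)⟩, fun z hz => ?_⟩
  · exact (le_perfectClosure_iff k kb _).mp (iSup_le hFjS)
  · refine SetLike.le_def.mp (sup_le_sup_right ?_ _) (hgspan z hz)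
    refine Submodule.span_le.mpr ?_
    rintro _ ⟨i, rfl⟩
    refine Submodule.span_mono ?_ (hTg i)
    intro y hy
    exact ⟨U.equivFin ⟨y, Finset.mem_biUnion.mpr ⟨i, Finset.mem_univ i, hy⟩⟩, by simp [g']⟩

/-- A nonsingular place descends to `k`. -/
theorem exists_descent_trivial {P : Place k K} (hP : IsCoordExp.{u, v, max u v} P 0) (z : kb ⊗[k] K)
    (hz : IsInt kb P z) : z ∈ Submodule.span kb ((fun x => (1 : kb) ⊗ₜ[k] x) '' {x : K | P.1 x ≤ 1}) := by
  classical
  have : Algebra.IsAlgebraic k kb := IsAlgClosure.isAlgebraic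
  obtain ⟨F, hF, w, rfl⟩ := exists_finite_lev z
  haveI := hF
  letI : Field (F ⊗[k] K) := (hg F hF).toField
  letI : Algebra K (F ⊗[k] K) := (Algebra.TensorProduct.includeRight : K →ₐ[k] F ⊗[k] K).toRingHom.toAlgebra
  haveI : IsScalarTower k K (F ⊗[k] K) := IsScalarTower.of_algebraMap_eq fun c =>
    ((Algebra.TensorProduct.includeRight : K →ₐ[k] F ⊗[k] K).commutes c).symm
  have hbij : Function.Bijective (Algebra.TensorProduct.productMap (IsScalarTower.toAlgHom k F (F ⊗[k] K))
      (IsScalarTower.toAlgHom k K (F ⊗[k] K))) := by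
    have : Algebra.TensorProduct.productMap (IsScalarTower.toAlgHom k F (F ⊗[k] K))
        (IsScalarTower.toAlgHom k K (F ⊗[k] K)) = AlgHom.id k (F ⊗[k] K) :=
      Algebra.TensorProduct.ext (AlgHom.ext fun a => by simp) (AlgHom.ext fun a => by
        simp only [AlgHom.restrictScalars_apply, AlgHom.comp_apply, Algebra.TensorProduct.includeRight_apply,
          Algebra.TensorProduct.productMap_apply_tmul, map_one, one_mul]
        rfl)
    rw [this]; exact Function.bijective_id
  obtain ⟨vK, hvK⟩ := exists_const_basis (K := K) hbij (Module.finBasis k F)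
  haveI : FiniteDimensional K (F ⊗[k] K) := Module.Finite.of_basis vK
  obtain ⟨p, hp, hpw⟩ := (isInt_ι_iff F w).mp hz
  have hb := hP F (F ⊗[k] K) hbij _ (Module.finBasis k F) vK hvK w fun R hR => val_le_one_of_monic' hR hp hpw
  rw [← vK.sum_repr w, map_sum]
  refine Submodule.sum_mem _ fun l _ => ?_
  rw [show ι F (vK.repr w l • vK l) = ((Module.finBasis k F l : F) : kb) • ((1 : kb) ⊗ₜ[k] vK.repr w l) by
    rw [TensorProduct.smul_tmul', smul_eq_mul, mul_one, Algebra.smul_def, hvK]
    show ι F ((1 : F) ⊗ₜ[k] vK.repr w l * (Module.finBasis k F l) ⊗ₜ[k] (1 : K)) = _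
    rw [Algebra.TensorProduct.tmul_mul_tmul, one_mul, mul_one, ι_tmul]]
  exact Submodule.smul_mem _ _ (Submodule.subset_span ⟨_, by simpa using hb l, rfl⟩)

/-- One purely inseparable level serves every place. -/
theorem exists_descent_all :
    ∃ F : IntermediateField k kb, FiniteDimensional k F ∧ IsPurelyInseparable k F ∧
      ∀ P : Place k K, ∃ (n : ℕ) (g : Fin n → kb ⊗[k] K), (∀ i, IsInt kb P (g i) ∧ g i ∈ lev F) ∧
        ∀ z, IsInt kb P z → z ∈ Submodule.span kb (Set.range g) ⊔
          Submodule.span kb ((fun x => (1 : kb) ⊗ₜ[k] x) '' {x : K | P.1 x ≤ 1}) := by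
  classical
  obtain ⟨S, hS, h0⟩ := finite_singular_coords.{u, v, max u v} hK hg
  choose FP hfin hpi nP gP hgP hspan using fun P => exists_descent (kb := kb) hK hg P
  haveI := hS.to_subtype
  haveI : ∀ P : S, FiniteDimensional k (FP P) := fun P => hfin P
  refine ⟨⨆ P : S, FP P, IntermediateField.finiteDimensional_iSup_of_finite, ?_, fun P => ?_⟩
  · exact (le_perfectClosure_iff k kb _).mp (iSup_le fun P => (le_perfectClosure_iff k kb _).mpr (hpi P))
  by_cases hP : P ∈ S
  · exact ⟨nP P, gP P, fun i => ⟨(hgP P i).1, lev_mono (le_iSup (fun P : S => FP P) ⟨P, hP⟩) (hgP P i).2⟩, hspan P⟩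
  · refine ⟨0, Fin.elim0, fun i => i.elim0, fun z hz => ?_⟩
    exact Submodule.mem_sup_right (exists_descent_trivial hK hg (h0 P hP) z hz)

end Groth.Agent.FFLib.Descent
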