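import Groth.Agent.FFLib.Descent
import Groth.Agent.FFLib.Weil.ConstPlaces

/-! Transporting descent to models of constant extensions. -/

set_option linter.unusedSectionVars false
set_option linter.style.haveILetI false

namespace Groth.Agent.FFLib.Descent

open FunFld WithZero
open scoped TensorProduct

universe u v w

variable {k : Type u} {K : Type v} [Field k] [Field K] [Algebra k K] (kb : Type u) [Field kb] [Algebra k kb]
variable {k' : Type u} {K' : Type w} [Field k'] [Field K'] [Algebra k k'] [Algebra K K'] [Algebra k' K'] [Algebra k K']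
  [IsScalarTower k k' K'] [IsScalarTower k K K']
  (h : Function.Bijective (Algebra.TensorProduct.productMap
      (IsScalarTower.toAlgHom k k' K') (IsScalarTower.toAlgHom k K K')))
  [Algebra k' kb] [IsScalarTower k k' kb]

/-- `k' ⊗ K ≅ K'`. -/
noncomputable def model : k' ⊗[k] K ≃ₐ[k] K' :=
  AlgEquiv.ofBijective _ h

/-- The embedding of a model. -/
noncomputable def toT : K' →ₐ[k] kb ⊗[k] K :=
  (Algebra.TensorProduct.map (IsScalarTower.toAlgHom k k' kb) (AlgHom.id k K)).comp (model h).symm.toAlgHom

theorem toT_model (a : k') (x : K) :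
    toT kb h (algebraMap k' K' a * algebraMap K K' x) = algebraMap k' kb a ⊗ₜ[k] x := by
  have e : model h (a ⊗ₜ[k] x) = algebraMap k' K' a * algebraMap K K' x :=
    Algebra.TensorProduct.productMap_apply_tmul _ _ _ _
  rw [← e]
  show Algebra.TensorProduct.map _ _ ((model h).symm (model h (a ⊗ₜ[k] x))) = _
  rw [AlgEquiv.symm_apply_apply]
  rfl

theorem toT_algebraMap (x : K) : toT kb h (algebraMap K K' x) = (1 : kb) ⊗ₜ[k] x := by
  simpa using toT_model kb h 1 x

theorem toT_injective : Function.Injective (toT kb h) :=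
  (Module.Flat.rTensor_preserves_injective_linearMap (M := K) (IsScalarTower.toAlgHom k k' kb).toLinearMap
    (algebraMap k' kb).injective).comp (model h).symm.injective

theorem isInt_toT_iff (P : Place k K) (z : K') :
    IsInt kb P (toT kb h z) ↔
      ∃ p : Polynomial P.O, p.Monic ∧ p.eval₂ ((algebraMap K K').comp P.O.subtype) z = 0 := by
  have hcomp : (toT kb h).toRingHom.comp ((algebraMap K K').comp P.O.subtype) = rightO kb P :=
    RingHom.ext fun a => toT_algebraMap kb h (a : K)
  refine exists_congr fun p => and_congr_right fun _ => ?_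
  rw [← hcomp, show toT kb h z = (toT kb h).toRingHom z from rfl, ← Polynomial.hom_eval₂]
  exact map_eq_zero_iff (toT kb h).toRingHom (toT_injective kb h)

theorem lev_le_toT (F : IntermediateField k kb) (hF : ∀ a ∈ F, a ∈ Set.range (algebraMap k' kb)) :
    (lev F : Set (kb ⊗[k] K)) ⊆ Set.range (toT kb h) := by
  rintro _ ⟨w, rfl⟩
  induction w with
  | zero => exact ⟨0, by rw [map_zero, map_zero]⟩
  | tmul a x =>
    obtain ⟨b, hb⟩ := hF a a.2
    exact ⟨algebraMap k' K' b * algebraMap K K' x, by rw [toT_model, hb]; rfl⟩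
  | add a b ha hb =>
    obtain ⟨u, hu⟩ := ha
    obtain ⟨v, hv⟩ := hb
    exact ⟨u + v, by rw [map_add, map_add, hu, hv]⟩

/-- Pulling a `kb`-span back to a model. -/
theorem mem_span_model {z : K'} {Y : Set K'} (hz : toT kb h z ∈ Submodule.span kb (toT kb h '' Y)) :
    z ∈ Submodule.span k' Y := by
  obtain ⟨lam, hlam⟩ := (Algebra.linearMap k' kb).exists_leftInverse_of_injective
    (LinearMap.ker_eq_bot.mpr (algebraMap k' kb).injective)
  have hl1 : ∀ a : k', lam (algebraMap k' kb a) = a := fun a => LinearMap.congr_fun hlam a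
  let Λ : kb ⊗[k] K →ₗ[k] K' :=
    (model h).toLinearMap.comp (TensorProduct.map (lam.restrictScalars k) LinearMap.id)
  have hΛ : ∀ (c : kb) (y : K'), Λ (c • toT kb h y) = lam c • y := by
    intro c y
    obtain ⟨w, rfl⟩ := (model h).surjective y
    have e : toT kb h (model h w) = Algebra.TensorProduct.map (IsScalarTower.toAlgHom k k' kb) (AlgHom.id k K) w := by
      show Algebra.TensorProduct.map _ _ ((model h).symm (model h w)) = _
      rw [AlgEquiv.symm_apply_apply]
    rw [e]
    clear e
    induction w with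
    | zero => simp
    | tmul a x =>
      rw [Algebra.TensorProduct.map_tmul, TensorProduct.smul_tmul', smul_eq_mul]
      show model h (lam (c * algebraMap k' kb a) ⊗ₜ[k] x) = _
      rw [mul_comm c, ← Algebra.smul_def, map_smul, smul_eq_mul]
      simp only [model, AlgEquiv.ofBijective_apply, Algebra.TensorProduct.productMap_apply_tmul, IsScalarTower.coe_toAlgHom', Algebra.smul_def, map_mul]
      ring
    | add a b ha hb => rw [map_add, smul_add, map_add, ha, hb, map_add, smul_add]
  have key : ∀ w ∈ Submodule.span kb (toT kb h '' Y), ∀ c : kb, Λ (c • w) ∈ Submodule.span k' Y := by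
    intro w hw
    induction hw using Submodule.span_induction with
    | mem w hw =>
      obtain ⟨y, hy, rfl⟩ := hw
      intro c
      rw [hΛ]
      exact Submodule.smul_mem _ _ (Submodule.subset_span hy)
    | zero => intro c; rw [smul_zero, map_zero]; exact zero_mem _
    | add a b _ _ ha hb => intro c; rw [smul_add, map_add]; exact add_mem (ha c) (hb c)
    | smul d a _ ha => intro c; rw [smul_smul]; exact ha _
  have h1 := key _ hz 1
  rw [hΛ, show lam 1 = 1 by rw [← map_one (algebraMap k' kb)]; exact hl1 1, one_smul] at h1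
  exact h1

variable [IsAlgClosure k kb] [FiniteDimensional k k']

/-- Semilocal integral elements of a model above a descent level. -/
theorem mem_span_of_descent (hF : IsFF k K) (P : Place k K) {F : IntermediateField k kb}
    (hFk : ∀ a ∈ F, a ∈ Set.range (algebraMap k' kb)) {n : ℕ} {g : Fin n → kb ⊗[k] K}
    (hg : ∀ i, IsInt kb P (g i) ∧ g i ∈ lev F)
    (hspan : ∀ z, IsInt kb P z → z ∈ Submodule.span kb (Set.range g) ⊔
      Submodule.span kb ((fun x => (1 : kb) ⊗ₜ[k] x) '' {x : K | P.1 x ≤ 1})) :
    ∃ y : Fin n → K', (∀ i, toT kb h (y i) = g i ∧ ∀ R : Place k K', IsOver R P → R.1 (y i) ≤ 1) ∧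
      ∀ z : K', (∀ R : Place k K', IsOver R P → R.1 z ≤ 1) →
        z ∈ Submodule.span k' (Set.range y ∪ algebraMap K K' '' {x : K | P.1 x ≤ 1}) := by
  classical
  obtain ⟨vK, -⟩ := exists_const_basis (K := K) h (Module.finBasis k k')
  haveI : FiniteDimensional K K' := Module.Finite.of_basis vK
  choose y hy using fun i => lev_le_toT kb h F hFk (hg i).2
  refine ⟨y, fun i => ⟨hy i, fun R hR => ?_⟩, fun z hz => ?_⟩
  · obtain ⟨p, hp, hpy⟩ := (isInt_toT_iff kb h P (y i)).mp (by rw [hy i]; exact (hg i).1)
    exact val_le_one_of_monic' hR hp hpy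
  · have h1 := hspan _ ((isInt_toT_iff kb h P z).mpr (exists_monic_of_le_one hF P hz))
    refine mem_span_model kb h ?_
    rw [← Submodule.span_union] at h1
    refine Submodule.span_mono ?_ h1
    rintro w (⟨i, rfl⟩ | ⟨x, hx, rfl⟩)
    · exact ⟨y i, Or.inl ⟨i, rfl⟩, hy i⟩
    · exact ⟨algebraMap K K' x, Or.inr ⟨x, hx, rfl⟩, toT_algebraMap kb h x⟩

end Groth.Agent.FFLib.Descent
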