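import Groth.Agent.FFLib.Elliptic
import Groth.Agent.FFLib.SV.Aut
import Mathlib.RingTheory.RootsOfUnity.AlgebraicallyClosed
import Mathlib.FieldTheory.RatFunc.AsPolynomial
import Mathlib.Algebra.Polynomial.SpecificDegree

/-! Automorphisms of a function field in Weierstrass form. -/

set_option linter.unusedSectionVars false

namespace Groth.Agent.FFLib

open FunFld WithZero Polynomial IntermediateField

variable {k K : Type*} [Field k] [Field K] [Algebra k K]

theorem ratFunc_not_sq {f : Polynomial k} (hf : Odd f.natDegree) (r : RatFunc k) :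
    r ^ 2 ≠ algebraMap (Polynomial k) (RatFunc k) f := by
  intro hr
  have hint : IsIntegral (Polynomial k) r := IsIntegral.of_pow two_pos (hr ▸ isIntegral_algebraMap)
  obtain ⟨p, rfl⟩ := IsIntegrallyClosed.algebraMap_eq_of_integral hint
  rw [← map_pow] at hr
  rw [← RatFunc.algebraMap_injective k hr, natDegree_pow] at hf
  exact Nat.not_odd_iff_even.mpr (even_two_mul _) hf

/-- The automorphism moving one Weierstrass pair of generators to another. -/
theorem exists_aut_generators {f : Polynomial k} (hf : Odd f.natDegree) {x y x' y' : K}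
    (hx : Transcendental k x) (hx' : Transcendental k x')
    (heq : y ^ 2 = Polynomial.aeval x f) (heq' : y' ^ 2 = Polynomial.aeval x' f)
    (hxy : IntermediateField.adjoin k ({x, y} : Set K) = ⊤)
    (hxy' : IntermediateField.adjoin k ({x', y'} : Set K) = ⊤) :
    ∃ σ : K ≃ₐ[k] K, σ x = x' ∧ σ y = y' := by
  classical
  let q : Polynomial (RatFunc k) := X ^ 2 - C (algebraMap (Polynomial k) (RatFunc k) f)
  have hqm : q.Monic := monic_X_pow_sub_C _ two_ne_zero
  have hq : Irreducible q := by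
    have hd : q.natDegree = 2 := natDegree_X_pow_sub_C
    rw [hqm.irreducible_iff_roots_eq_zero_of_degree_le_three (by omega) (by omega)]
    refine Multiset.eq_zero_of_forall_notMem fun r hr => ratFunc_not_sq hf r ?_
    have := (mem_roots hqm.ne_zero).mp hr
    simpa [q, sub_eq_zero] using this
  haveI := Fact.mk hq
  have mk : ∀ (x y : K), Transcendental k x → y ^ 2 = Polynomial.aeval x f →
      IntermediateField.adjoin k ({x, y} : Set K) = ⊤ →
      ∃ ψ : AdjoinRoot q ≃ₐ[k] K, ψ (AdjoinRoot.of q RatFunc.X) = x ∧ ψ (AdjoinRoot.root q) = y := by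
    intro x y hx heq hxy
    let φ : RatFunc k →ₐ[k] K :=
      (IntermediateField.adjoin k {x}).val.comp (RatFunc.algEquivOfTranscendental x hx).toAlgHom
    have hX : φ RatFunc.X = x := by
      show ((RatFunc.algEquivOfTranscendental x hx RatFunc.X : IntermediateField.adjoin k {x}) : K) = x
      simp
    have hp : φ (algebraMap (Polynomial k) (RatFunc k) f) = Polynomial.aeval x f := by
      rw [← hX, aeval_algHom_apply, ← RatFunc.algebraMap_X, aeval_algebraMap_apply, aeval_X_left_apply]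
    let ψ₀ : AdjoinRoot q →ₐ[k] K := AdjoinRoot.liftAlgHom q φ y (by simp [q, hp, heq])
    have hx0 : ψ₀ (AdjoinRoot.of q RatFunc.X) = x := by simp [ψ₀, hX]
    have hy0 : ψ₀ (AdjoinRoot.root q) = y := by simp [ψ₀]
    have hsurj : Function.Surjective ψ₀ := fun z => by
      have htop : IntermediateField.adjoin k ({x, y} : Set K) ≤ ψ₀.fieldRange := by
        rw [IntermediateField.adjoin_le_iff]
        rintro w (rfl | rfl)
        · exact ⟨_, hx0⟩
        · exact ⟨_, hy0⟩
      rw [hxy] at htop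
      exact htop (IntermediateField.mem_top (x := z))
    exact ⟨AlgEquiv.ofBijective ψ₀ ⟨(ψ₀ : AdjoinRoot q →+* K).injective, hsurj⟩, hx0, hy0⟩
  obtain ⟨ψ, h1, h2⟩ := mk x y hx heq hxy
  obtain ⟨ψ', h1', h2'⟩ := mk x' y' hx' heq' hxy'
  exact ⟨ψ.symm.trans ψ', by rw [AlgEquiv.trans_apply, ← h1, ψ.symm_apply_apply, h1'],
    by rw [AlgEquiv.trans_apply, ← h2, ψ.symm_apply_apply, h2']⟩

theorem card_pow_eq_one [IsAlgClosed k] {n : ℕ} (hn : 0 < n) (hnk : (n : k) ≠ 0) :
    Nat.card {u : k // u ^ n = 1} = n := by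
  classical
  haveI : NeZero (n : k) := ⟨hnk⟩
  haveI : NeZero n := ⟨hn.ne'⟩
  obtain ⟨ζ, hζ⟩ := HasEnoughRootsOfUnity.exists_primitiveRoot k n
  conv_rhs => rw [← hζ.card_nthRootsFinset]
  rw [← Nat.card_eq_finsetCard]
  exact Nat.card_congr (Equiv.subtypeEquivRight fun u => (mem_nthRootsFinset hn (1 : k)).symm)

variable [IsAlgClosed k] (hK : IsFunctionField k K) (hg : genus k K = 1) {P : Place k K} {a b : k} {x y : K}
  (heq : y ^ 2 = x ^ 3 + algebraMap k K a * x + algebraMap k K b)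
  (hxy : IntermediateField.adjoin k ({x, y} : Set K) = ⊤)
  (hx : x ∈ L (Finsupp.single P 2)) (hx2 : P.ord x = -2)
  (hy : y ∈ L (Finsupp.single P 3)) (hy3 : P.ord y = -3)
  (h2 : (2 : k) ≠ 0) (h3 : (3 : k) ≠ 0)

include hK hg heq hxy hx hx2 hy hy3 h2 h3

/-- An automorphism fixing the base place scales the coordinates. -/
theorem aut_coords (σ : K ≃ₐ[k] K) (hσ : ∀ z : K, P.1 (σ z) = P.1 z) :
    ∃ u : k, u ≠ 0 ∧ u ^ 4 * a = a ∧ u ^ 6 * b = b ∧
      σ x = algebraMap k K (u ^ 2) * x ∧ σ y = algebraMap k K (u ^ 3) * y := by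
  classical
  have hP := deg_eq_one (k := k) hK.1 P
  have hfix : placeComap σ P = P := placeComap_eq_of_fixed fun z hz => by rwa [hσ]
  have hLn : ∀ (n : ℤ) (z : K), z ∈ L (Finsupp.single P n) → σ z ∈ L (Finsupp.single P n) := fun n z hz Q => by
    have h := hz (placeComap σ Q)
    by_cases hQ : Q = P
    · subst hQ; rw [hfix] at h; rwa [hσ]
    · have hne : placeComap σ Q ≠ P := fun e => hQ (Subtype.ext (Valuation.ext fun w => by
        have h' : Q.1 (σ (σ.symm w)) = P.1 (σ.symm w) := congrArg (fun R : Place k K => R.1 (σ.symm w)) e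
        rw [← hσ (σ.symm w), AlgEquiv.apply_symm_apply] at h'
        exact h'))
      rw [Finsupp.single_eq_of_ne hne] at h
      rw [Finsupp.single_eq_of_ne hQ]
      exact h
  have hx0 : x ≠ 0 := fun e => by simp [e] at hx2
  have hy0 : y ≠ 0 := fun e => by simp [e] at hy3
  obtain ⟨α, r, hσx⟩ : ∃ α r : k, σ x = algebraMap k K α * x + algebraMap k K r := by
    obtain ⟨-, hspan⟩ := basis_L hK hg hP hx hx2 hy hy3 (n := 2) le_rfl
    have h := hLn 2 x hx
    rw [show ((2 : ℤ)) = ((2 : ℕ) : ℤ) from rfl, ← hspan, Submodule.mem_span_range_iff_exists_fun] at h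
    obtain ⟨c, hc⟩ := h
    refine ⟨c (Sum.inl 1), c (Sum.inl 0), hc.symm.trans ?_⟩
    simp [Algebra.smul_def, Fin.sum_univ_succ]
    ring
  obtain ⟨β, γ, δ, hσy⟩ : ∃ β γ δ : k, σ y = algebraMap k K β * y + algebraMap k K γ * x + algebraMap k K δ := by
    obtain ⟨-, hspan⟩ := basis_L hK hg hP hx hx2 hy hy3 (n := 3) (by norm_num)
    have h := hLn 3 y hy
    rw [show ((3 : ℤ)) = ((3 : ℕ) : ℤ) from rfl, ← hspan, Submodule.mem_span_range_iff_exists_fun] at h
    obtain ⟨c, hc⟩ := h
    refine ⟨c (Sum.inr 0), c (Sum.inl 1), c (Sum.inl 0), hc.symm.trans ?_⟩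
    simp [Algebra.smul_def, Fin.sum_univ_succ]
    ring
  obtain ⟨hind, -⟩ := basis_L hK hg hP hx hx2 hy hy3 (n := 6) (by norm_num)
  rw [Fintype.linearIndependent_iff] at hind
  let c : Fin 4 ⊕ Fin 2 → k := Sum.elim
    ![β ^ 2 * b + δ ^ 2 - r ^ 3 - a * r - b, β ^ 2 * a + 2 * γ * δ - 3 * α * r ^ 2 - a * α,
      γ ^ 2 - 3 * α ^ 2 * r, β ^ 2 - α ^ 3]
    ![2 * β * δ, 2 * β * γ]
  have hkey := congrArg σ heq
  simp only [map_add, map_mul, map_pow, AlgEquiv.commutes, hσx, hσy] at hkey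
  have h0 := hind c (by
    simp only [c, Fintype.sum_sum_type, Sum.elim_inl, Sum.elim_inr]
    norm_num [Fin.sum_univ_succ, Fin.sum_univ_two, Algebra.smul_def, map_ofNat]
    linear_combination hkey - (algebraMap k K β) ^ 2 * heq)
  have c0 : β ^ 2 * b + δ ^ 2 - r ^ 3 - a * r - b = 0 := h0 (Sum.inl 0)
  have c1 : β ^ 2 * a + 2 * γ * δ - 3 * α * r ^ 2 - a * α = 0 := h0 (Sum.inl 1)
  have c2 : γ ^ 2 - 3 * α ^ 2 * r = 0 := h0 (Sum.inl 2)
  have c3 : β ^ 2 - α ^ 3 = 0 := h0 (Sum.inl 3)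
  have c4 : 2 * β * δ = 0 := h0 (Sum.inr 0)
  have c5 : 2 * β * γ = 0 := h0 (Sum.inr 1)
  have hα : α ≠ 0 := fun e => by
    rw [e, map_zero, zero_mul, zero_add] at hσx
    have h1 := hσ x
    rw [hσx] at h1
    have h2 : 1 < P.1 x := (one_lt_val_iff P hx0).mpr (by omega)
    exact (h2.trans_eq h1.symm).not_ge (P.2.1 r)
  have hβ : β ≠ 0 := fun e => pow_ne_zero 3 hα (by rw [e] at c3; linear_combination -c3)
  have hγ : γ = 0 := by
    rcases mul_eq_zero.mp c5 with h | h
    · exact absurd h (mul_ne_zero h2 hβ)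
    · exact h
  have hδ : δ = 0 := by
    rcases mul_eq_zero.mp c4 with h | h
    · exact absurd h (mul_ne_zero h2 hβ)
    · exact h
  have hr : r = 0 := by
    rw [hγ] at c2
    have h : 3 * α ^ 2 * r = 0 := by linear_combination -c2
    rcases mul_eq_zero.mp h with h | h
    · exact absurd h (mul_ne_zero h3 (pow_ne_zero 2 hα))
    · exact h
  rw [hγ, hδ, hr] at c1
  rw [hδ, hr] at c0
  have hu2 : (β / α) ^ 2 = α := by
    field_simp; linear_combination c3
  have hu3 : (β / α) ^ 3 = β := by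
    rw [pow_succ, hu2]; field_simp
  refine ⟨β / α, div_ne_zero hβ hα, ?_, ?_, ?_, ?_⟩
  · rw [show (β / α) ^ 4 = ((β / α) ^ 2) ^ 2 by ring, hu2]
    refine mul_left_cancel₀ hα ?_
    linear_combination c1 - a * c3
  · rw [show (β / α) ^ 6 = ((β / α) ^ 3) ^ 2 by ring, hu3]
    linear_combination c0
  · rw [hu2, hσx, hr, map_zero, add_zero]
  · rw [hu3, hσy, hγ, hδ, map_zero, zero_mul, add_zero, add_zero]

/-- The automorphisms fixing the base place. -/
theorem card_aut_fixing (hdisc : 4 * a ^ 3 + 27 * b ^ 2 ≠ 0) [DecidableEq k] :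
    Nat.card {σ : K ≃ₐ[k] K // ∀ z : K, P.1 (σ z) = P.1 z} =
      if a = 0 then 6 else if b = 0 then 4 else 2 := by
  classical
  have hx0 : x ≠ 0 := fun e => by simp [e] at hx2
  have hxt : Transcendental k x := transcendental_of_val_ne_one P hx0 fun e => by
    rw [val_eq_exp P hx0, hx2, ← exp_zero, exp_inj] at e; omega
  have hP := deg_eq_one (k := k) hK.1 P
  have hlift : ∀ u : k, u ≠ 0 → u ^ 4 * a = a → u ^ 6 * b = b →
      ∃ σ : K ≃ₐ[k] K, (∀ z, P.1 (σ z) = P.1 z) ∧ σ x = algebraMap k K (u ^ 2) * x ∧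
        σ y = algebraMap k K (u ^ 3) * y := by
    intro u hu ha hb
    have hu2 : algebraMap k K (u ^ 2) ≠ 0 := by simpa using hu
    have hu3 : algebraMap k K (u ^ 3) ≠ 0 := by simpa using hu
    let f : Polynomial k := X ^ 3 + (C a * X + C b)
    have hfd : f.natDegree = 3 := by
      rw [natDegree_add_eq_left_of_natDegree_lt] <;> rw [natDegree_X_pow]
      exact (natDegree_linear_le).trans_lt (by norm_num)
    have hev : ∀ w : K, Polynomial.aeval w f = w ^ 3 + algebraMap k K a * w + algebraMap k K b := fun w => by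
      simp [f]; ring
    obtain ⟨σ, h1, h2'⟩ := exists_aut_generators (f := f) (by rw [hfd]; decide) hxt
      (x' := algebraMap k K (u ^ 2) * x) (y' := algebraMap k K (u ^ 3) * y)
      (fun halg => hxt (by
        have := halg.mul (isAlgebraic_algebraMap ((u ^ 2)⁻¹))
        rwa [mul_right_comm, ← map_mul, mul_inv_cancel₀ (pow_ne_zero 2 hu), map_one, one_mul] at this))
      (by rw [hev, heq]) (by
        rw [hev, mul_pow, heq]
        simp only [map_pow]
        have ea : algebraMap k K u ^ 4 * algebraMap k K a = algebraMap k K a := by rw [← map_pow, ← map_mul, ha]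
        have eb : algebraMap k K u ^ 6 * algebraMap k K b = algebraMap k K b := by rw [← map_pow, ← map_mul, hb]
        linear_combination x * algebraMap k K u ^ 2 * ea + eb) hxy (by
        refine eq_top_iff.mpr (hxy.ge.trans (IntermediateField.adjoin_le_iff.mpr ?_))
        set E := IntermediateField.adjoin k ({algebraMap k K (u ^ 2) * x, algebraMap k K (u ^ 3) * y} : Set K)
        rintro w (hw | hw)
        · rw [hw, ← inv_mul_cancel_left₀ hu2 x]
          exact mul_mem (inv_mem (E.algebraMap_mem _)) (IntermediateField.subset_adjoin k _ (Or.inl rfl))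
        · rw [Set.mem_singleton_iff.mp hw, ← inv_mul_cancel_left₀ hu3 y]
          exact mul_mem (inv_mem (E.algebraMap_mem _)) (IntermediateField.subset_adjoin k _ (Or.inr rfl)))
    refine ⟨σ, fun z => ?_, h1, h2'⟩
    have hpc : placeComap σ P = P := by
      by_contra hne
      have hxl := hx (placeComap σ P)
      rw [Finsupp.single_eq_of_ne hne] at hxl
      have : P.1 (σ x) ≤ exp 0 := hxl
      rw [h1, map_mul, val_algebraMap P (pow_ne_zero 2 hu), one_mul, val_eq_exp P hx0, hx2, exp_le_exp] at this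
      omega
    exact congrArg (fun R : Place k K => R.1 z) hpc
  choose F hF1 hF2 hF3 using hlift
  have key : Nat.card {σ : K ≃ₐ[k] K // ∀ z : K, P.1 (σ z) = P.1 z} =
      Nat.card {u : k // u ≠ 0 ∧ u ^ 4 * a = a ∧ u ^ 6 * b = b} := by
    refine (Nat.card_eq_of_bijective
      (fun u : {u : k // u ≠ 0 ∧ u ^ 4 * a = a ∧ u ^ 6 * b = b} =>
        (⟨F u.1 u.2.1 u.2.2.1 u.2.2.2, hF1 _ _ _ _⟩ : {σ : K ≃ₐ[k] K // ∀ z : K, P.1 (σ z) = P.1 z})) ⟨?_, ?_⟩).symm
    · rintro ⟨u, hu⟩ ⟨v, hv⟩ h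
      have hs := congrArg Subtype.val h
      dsimp only at hs
      have h2' := hF2 u hu.1 hu.2.1 hu.2.2
      have h3' := hF3 u hu.1 hu.2.1 hu.2.2
      rw [hs, hF2] at h2'
      rw [hs, hF3] at h3'
      have e2 : v ^ 2 = u ^ 2 := (algebraMap k K).injective (mul_right_cancel₀ hx0 h2')
      have e3 : v ^ 3 = u ^ 3 :=
        (algebraMap k K).injective (mul_right_cancel₀ (fun e => by simp [e] at hy3) h3')
      refine Subtype.ext (mul_left_cancel₀ (pow_ne_zero 2 hu.1) ?_)
      rw [← pow_succ, ← e3, ← e2, ← pow_succ]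
    · rintro ⟨σ, hσ⟩
      obtain ⟨u, hu, ha, hb, h1, h2'⟩ := aut_coords hK hg heq hxy hx hx2 hy hy3 h2 h3 σ hσ
      refine ⟨⟨u, hu, ha, hb⟩, Subtype.ext ?_⟩
      refine AlgEquiv.coe_toAlgHom_injective (AlgHom.ext fun z => ?_)
      have hz : z ∈ IntermediateField.adjoin k ({x, y} : Set K) := hxy ▸ IntermediateField.mem_top
      show F u hu ha hb z = σ z
      induction hz using IntermediateField.adjoin_induction with
      | mem w hw => rcases hw with rfl | rfl <;> simp [hF2, hF3, h1, h2']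
      | algebraMap c => simp
      | add p q _ _ hp hq => simp [hp, hq]
      | inv p _ hp => simp [hp]
      | mul p q _ _ hp hq => simp [hp, hq]
  rw [key]
  split_ifs with ha hb
  · have hb0 : b ≠ 0 := fun hb => hdisc (by rw [ha, hb]; ring)
    have h6 : ((6 : ℕ) : k) ≠ 0 := by
      rw [show (6 : ℕ) = 2 * 3 from rfl, Nat.cast_mul]; exact mul_ne_zero (by exact_mod_cast h2) (by exact_mod_cast h3)
    conv_rhs => rw [← card_pow_eq_one (k := k) (by norm_num : 0 < 6) h6]
    refine Nat.card_congr (Equiv.subtypeEquivRight fun u => ⟨fun h => ?_, fun h => ⟨fun e => by simp [e] at h, ?_, ?_⟩⟩)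
    · exact mul_right_cancel₀ hb0 (h.2.2.trans (one_mul b).symm)
    · rw [ha, mul_zero]
    · rw [h, one_mul]
  · have h4 : ((4 : ℕ) : k) ≠ 0 := by
      rw [show (4 : ℕ) = 2 * 2 from rfl, Nat.cast_mul]; exact mul_ne_zero (by exact_mod_cast h2) (by exact_mod_cast h2)
    conv_rhs => rw [← card_pow_eq_one (k := k) (by norm_num : 0 < 4) h4]
    refine Nat.card_congr (Equiv.subtypeEquivRight fun u => ⟨fun h => ?_, fun h => ⟨fun e => by simp [e] at h, ?_, ?_⟩⟩)
    · exact mul_right_cancel₀ ha (h.2.1.trans (one_mul a).symm)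
    · rw [h, one_mul]
    · rw [hb, mul_zero]
  · conv_rhs => rw [← card_pow_eq_one (k := k) (by norm_num : 0 < 2) (by exact_mod_cast h2)]
    refine Nat.card_congr (Equiv.subtypeEquivRight fun u => ⟨fun h => ?_, fun h => ⟨fun e => by simp [e] at h, ?_, ?_⟩⟩)
    · have e4 : u ^ 4 = 1 := mul_right_cancel₀ ha (h.2.1.trans (one_mul a).symm)
      have e6 : u ^ 6 = 1 := mul_right_cancel₀ hb (h.2.2.trans (one_mul b).symm)
      rw [show u ^ 6 = u ^ 4 * u ^ 2 by ring, e4, one_mul] at e6
      exact e6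
    · rw [show u ^ 4 = u ^ 2 * u ^ 2 by ring, h, one_mul, one_mul]
    · rw [show u ^ 6 = u ^ 2 * u ^ 2 * u ^ 2 by ring, h, one_mul, one_mul, one_mul]

end Groth.Agent.FFLib
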