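import Groth.Agent.FFLib.Rational
import Mathlib.Combinatorics.Additive.CauchyDavenport
import Mathlib.Data.Set.Card

/-! Orders of the elements of a linear series at a degree-one place, gaps. -/

namespace Groth.Agent.FFLib

open FunFld WithZero Finset Pointwise

variable {k K : Type*} [Field k] [Field K] [Algebra k K]

theorem mem_L_sub_single {D : Divisor k K} {P : Place k K} {n : ℤ} (hn : 0 ≤ n) {x : K} :
    x ∈ L (D - Finsupp.single P n) ↔ x ∈ L D ∧ P.1 x ≤ exp (D P - n) := by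
  classical
  refine ⟨fun h => ⟨L_mono (sub_le_self D (Finsupp.single_nonneg.mpr hn)) h, by simpa using h P⟩,
    fun ⟨h1, h2⟩ Q => ?_⟩
  rcases eq_or_ne Q P with rfl | hQ
  · simpa using h2
  · simpa [hQ] using h1 Q

/-- The orders at `P` of the nonzero elements of `U`. -/
def ordSet (U : Submodule k K) (P : Place k K) : Set ℤ := {t | ∃ x ∈ U, x ≠ 0 ∧ P.ord x = t}

variable (hF : IsFF k K)
include hF

theorem finrank_inf_step (U : Submodule k K) (D : Divisor k K) (P : Place k K) :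
    Module.finrank k ↥(U ⊓ L D) ≤
      Module.finrank k ↥(U ⊓ L (D - Finsupp.single P 1)) + P.deg := by
  obtain ⟨m, hm, hrel, -⟩ := relDim_pullback hF (A := U ⊓ L (D - Finsupp.single P 1)) (B := U ⊓ L D)
    LinearMap.id P (D P) (inf_le_inf_left _ (L_mono (sub_le_self D (Finsupp.single_nonneg.mpr zero_le_one))))
    (fun x hx => hx.2 P) (fun x hx => ⟨fun h => ((mem_L_sub_single zero_le_one).mp h.2).2,
      fun h => ⟨hx.1, (mem_L_sub_single zero_le_one).mpr ⟨hx.2, h⟩⟩⟩)
  have := L_finite hF (D - Finsupp.single P 1)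
  have : FiniteDimensional k ↥(U ⊓ L (D - Finsupp.single P 1)) :=
    Submodule.finiteDimensional_of_le inf_le_right
  rw [(finite_of_relDim hrel).2]
  omega

theorem ordSet_finite_card {P : Place k K} (hP : P.deg = 1) (U : Submodule k K)
    [FiniteDimensional k U] {n : ℤ} (hU : ∀ x ∈ U, P.1 x ≤ exp n) :
    (ordSet U P).Finite ∧ (ordSet U P).ncard = Module.finrank k U := by
  obtain ⟨m, hm⟩ : ∃ m, Module.finrank k U = m := ⟨_, rfl⟩
  induction m using Nat.strong_induction_on generalizing U with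
  | _ m ih =>
    rcases eq_or_ne U ⊥ with rfl | hne
    · have : ordSet (⊥ : Submodule k K) P = ∅ := Set.eq_empty_of_forall_notMem
        fun t ⟨x, hx, hx0, _⟩ => hx0 hx
      rw [this]
      simp
    obtain ⟨x₀, hx₀, hx00⟩ := Submodule.exists_mem_ne_zero_of_ne_bot hne
    obtain ⟨t, ⟨x, hx, hx0, hxt⟩, hleast⟩ := Int.exists_least_of_bdd (P := fun t => t ∈ ordSet U P)
      ⟨-n, fun t ⟨x, hx, hx0, hxt⟩ => hxt ▸ (val_le_exp_iff P hx0 n).mp (hU x hx)⟩
      ⟨_, x₀, hx₀, hx00, rfl⟩
    let U' := U ⊓ ball P (-t - 1)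
    have : FiniteDimensional k U' := Submodule.finiteDimensional_of_le inf_le_left
    have hle : ∀ y ∈ U, P.1 y ≤ exp (-t) := fun y hy => by
      rcases eq_or_ne y 0 with rfl | hy0
      · simp
      · rw [val_le_exp_iff P hy0, neg_neg]; exact hleast _ ⟨y, hy, hy0, rfl⟩
    obtain ⟨s, hs, hrel, -⟩ := relDim_pullback hF (A := U') (B := U) LinearMap.id P (-t) inf_le_left
      hle (fun y hy => ⟨fun h => h.2, fun h => ⟨hy, h⟩⟩)
    have hxU' : x ∉ U' := fun h => by
      have := (val_le_exp_iff P hx0 (-t - 1)).mp h.2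
      omega
    have hlt : Module.finrank k U' < Module.finrank k U :=
      Submodule.finrank_lt_finrank_of_lt (lt_of_le_of_ne inf_le_left fun h => hxU' (h ▸ hx))
    have heq := (finite_of_relDim hrel).2
    obtain ⟨hfin, hcard⟩ := ih _ (hm ▸ hlt) U' (fun y hy => hU y hy.1) rfl
    have hins : ordSet U P = insert t (ordSet U' P) := by
      ext u
      refine ⟨fun ⟨y, hy, hy0, hyu⟩ => ?_, ?_⟩
      · rcases eq_or_ne u t with h | h
        · exact Or.inl h
        · refine Or.inr ⟨y, ⟨hy, (val_le_exp_iff P hy0 _).mpr ?_⟩, hy0, hyu⟩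
          have := hleast u ⟨y, hy, hy0, hyu⟩
          omega
      · rintro (rfl | ⟨y, hy, hy0, hyu⟩)
        · exact ⟨x, hx, hx0, hxt⟩
        · exact ⟨y, hy.1, hy0, hyu⟩
    have hnot : t ∉ ordSet U' P := fun ⟨y, hy, hy0, hyu⟩ => by
      have := (val_le_exp_iff P hy0 (-t - 1)).mp hy.2
      omega
    refine ⟨hins ▸ hfin.insert t, ?_⟩
    rw [hins, Set.ncard_insert_of_notMem hnot hfin, hcard]
    omega

theorem ordSet_L {P : Place k K} (hP : P.deg = 1) (D : Divisor k K) :
    (ordSet (L D) P).Finite ∧ (ordSet (L D) P).ncard = ell D :=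
  have := L_finite hF D
  ordSet_finite_card hF hP (L D) (n := D P) fun _ hx => hx P

/-- The lemma of Hopf in the presence of a degree-one place. -/
theorem ell_add_ell_le {P : Place k K} (hP : P.deg = 1) (D E : Divisor k K)
    (hD : 0 < ell D) (hE : 0 < ell E) : ell D + ell E ≤ ell (D + E) + 1 := by
  classical
  obtain ⟨hf1, hc1⟩ := ordSet_L hF hP D
  obtain ⟨hf2, hc2⟩ := ordSet_L hF hP E
  obtain ⟨hf3, hc3⟩ := ordSet_L hF hP (D + E)
  rw [Set.ncard_eq_toFinset_card _ hf1] at hc1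
  rw [Set.ncard_eq_toFinset_card _ hf2] at hc2
  rw [Set.ncard_eq_toFinset_card _ hf3] at hc3
  have h := cauchy_davenport_add_of_linearOrder_isCancelAdd (s := hf1.toFinset) (t := hf2.toFinset)
    (Finset.card_pos.mp (by omega)) (Finset.card_pos.mp (by omega))
  have hsub : hf1.toFinset + hf2.toFinset ⊆ hf3.toFinset := fun u hu => by
    obtain ⟨a, ha, b, hb, rfl⟩ := Finset.mem_add.mp hu
    obtain ⟨x, hx, hx0, rfl⟩ := hf1.mem_toFinset.mp ha
    obtain ⟨y, hy, hy0, rfl⟩ := hf2.mem_toFinset.mp hb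
    refine hf3.mem_toFinset.mpr ⟨x * y, fun Q => ?_, mul_ne_zero hx0 hy0, ord_mul P hx0 hy0⟩
    rw [map_mul, Finsupp.add_apply, exp_add]
    exact mul_le_mul' (hx Q) (hy Q)
  have := Finset.card_le_card hsub
  omega

omit hF

theorem ell_single_step (hK : IsFunctionField k K) {P : Place k K} (hP : P.deg = 1) (n : ℕ) :
    ell (Finsupp.single P ((n : ℤ) + 1)) ≤ ell (Finsupp.single P (n : ℤ)) + 1 := by
  classical
  have h := finrank_inf_step hK.1 ⊤ (Finsupp.single P ((n : ℤ) + 1)) P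
  rw [top_inf_eq, top_inf_eq, hP, ← Finsupp.single_sub, add_sub_cancel_right] at h
  exact h

/-- Gaps at `P`. -/
def IsGap (P : Place k K) (m : ℕ) : Prop :=
  L (Finsupp.single P (m : ℤ)) = L (Finsupp.single P ((m : ℤ) - 1))

theorem isGap_succ_iff (hK : IsFunctionField k K) (P : Place k K) (n : ℕ) :
    IsGap P (n + 1) ↔ ell (Finsupp.single P ((n : ℤ) + 1)) = ell (Finsupp.single P (n : ℤ)) := by
  rw [IsGap]
  push_cast
  rw [add_sub_cancel_right]
  refine ⟨fun h => congrArg (fun U : Submodule k K => Module.finrank k U) h, fun h => ?_⟩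
  have := L_finite hK.1 (Finsupp.single P ((n : ℤ) + 1))
  exact (Submodule.eq_of_le_of_finrank_eq (L_mono (Finsupp.single_le_single.mpr (by omega))) h.symm).symm

open Classical in
theorem ell_add_gaps (hK : IsFunctionField k K) {P : Place k K} (hP : P.deg = 1) (n : ℕ) :
    ell (Finsupp.single P (n : ℤ)) + ((Finset.Icc 1 n).filter (IsGap P)).card = n + 1 := by
  induction n with
  | zero => simp [ell_zero hK]
  | succ n ih =>
    have h1 := ell_single_step hK hP n
    have h2 := (ell_le_of_le hK.1 (show Finsupp.single P (n : ℤ) ≤ Finsupp.single P ((n : ℤ) + 1) from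
      Finsupp.single_le_single.mpr (by omega))).1
    have hs : (Finset.Icc 1 (n + 1)) = insert (n + 1) (Finset.Icc 1 n) :=
      (by ext; simp; omega)
    rw [hs, Finset.filter_insert]
    push_cast
    by_cases hg : IsGap P (n + 1)
    · rw [if_pos hg, Finset.card_insert_of_notMem (by simp), (isGap_succ_iff hK P n).mp hg]
      omega
    · rw [if_neg hg]
      have := mt (isGap_succ_iff hK P n).mpr hg
      omega

theorem exists_ord_of_not_gap (hK : IsFunctionField k K) {P : Place k K} {m : ℕ} (hm : 1 ≤ m)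
    (h : ¬ IsGap P m) : ∃ x ∈ L (Finsupp.single P (m : ℤ)), x ≠ 0 ∧ P.ord x = -(m : ℤ) := by
  classical
  have hle : ¬ L (Finsupp.single P (m : ℤ)) ≤ L (Finsupp.single P ((m : ℤ) - 1)) := fun h' =>
    h (le_antisymm h' (L_mono (Finsupp.single_le_single.mpr (by omega))))
  obtain ⟨x, hx, hx'⟩ := SetLike.not_le_iff_exists.mp hle
  have hx0 : x ≠ 0 := fun e => hx' (e ▸ zero_mem _)
  have h1 := (mem_L_iff_ord hx0).mp hx
  refine ⟨x, hx, hx0, ?_⟩
  by_contra hne
  refine hx' ((mem_L_iff_ord hx0).mpr fun Q => ?_)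
  rcases eq_or_ne Q P with rfl | hQ
  · have := h1 Q; simp at this ⊢; omega
  · simpa [hQ] using h1 Q

theorem not_gap_of_ord {P : Place k K} {m : ℕ} {x : K} (hx : x ∈ L (Finsupp.single P (m : ℤ)))
    (hx0 : x ≠ 0) (hm : P.ord x = -(m : ℤ)) : ¬ IsGap P m := fun h => by
  have h2 := h ▸ hx
  have := (mem_L_iff_ord hx0).mp h2 P
  simp at this
  omega

theorem not_gap_add (hK : IsFunctionField k K) {P : Place k K} {a b : ℕ} (ha : 1 ≤ a) (hb : 1 ≤ b)
    (h1 : ¬ IsGap P a) (h2 : ¬ IsGap P b) : ¬ IsGap P (a + b) := by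
  obtain ⟨x, hx, hx0, hxo⟩ := exists_ord_of_not_gap hK ha h1
  obtain ⟨y, hy, hy0, hyo⟩ := exists_ord_of_not_gap hK hb h2
  refine not_gap_of_ord (x := x * y) (fun Q => ?_) (mul_ne_zero hx0 hy0)
    (by rw [ord_mul P hx0 hy0, hxo, hyo]; push_cast; ring)
  push_cast
  rw [map_mul, Finsupp.single_add, Finsupp.add_apply, exp_add]
  exact mul_le_mul' (hx Q) (hy Q)

/-- Clifford's inequality, given a degree-one place. -/
theorem clifford (hK : IsFunctionField k K) {P : Place k K} (hP : P.deg = 1) {D : Divisor k K}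
    (h0 : 0 ≤ D.deg) (hd : D.deg ≤ 2 * (genus k K : ℤ)) : 2 * (ell D : ℤ) ≤ D.deg + 2 := by
  obtain ⟨C, hC⟩ := exists_canonical hK
  have h := riemann_roch hK hC D
  rcases Nat.eq_zero_or_pos (ell D) with h1 | h1
  · omega
  rcases Nat.eq_zero_or_pos (ell (C - D)) with h2 | h2
  · omega
  have h3 := ell_add_ell_le hK.1 hP D (C - D) h1 h2
  rw [add_sub_cancel, ell_canonical hK hC] at h3
  omega

end Groth.Agent.FFLib
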