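import Groth.Agent.FFLib.RR
import Groth.Agent.FFLib.Rational
import Groth.Agent.FFLib.Gaps
import Groth.Agent.FFLib.Plucker
import Groth.Agent.FFLib.Numer
import Groth.Prelude.Def_W4bk4goldsch45
import Mathlib.Algebra.Module.Submodule.Union
import Mathlib.RingTheory.Finiteness.Nakayama

/-! Base point free pencil trick and projective embeddings by complete linear systems. -/

namespace Groth.Agent.FFLib

open FunFld IntermediateField WithZero

variable {k K : Type*} [Field k] [Field K] [Algebra k K]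

/-- `D` has no base point. -/
def NoBase (D : Divisor k K) : Prop :=
  ∀ P : Place k K, ∃ x ∈ L D, x ≠ 0 ∧ P.ord x = -D P

theorem not_mem_L_sub_iff {D : Divisor k K} {P : Place k K} {x : K} (hx : x ∈ L D) :
    x ∉ L (D - Finsupp.single P 1) ↔ x ≠ 0 ∧ P.ord x = -D P := by
  rw [mem_L_sub_single zero_le_one]
  rcases eq_or_ne x 0 with rfl | hx0
  · simp
  · have h1 := (mem_L_iff_ord hx0).mp hx P
    simp only [hx, true_and, hx0, ne_eq, not_false_eq_true, val_le_exp_iff P hx0]
    omega

theorem noBase_of_ell (hF : IsFF k K) {D : Divisor k K}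
    (h : ∀ P : Place k K, ell (D - Finsupp.single P 1) < ell D) : NoBase D := by
  intro P
  have hle : L (D - Finsupp.single P 1) ≤ L D :=
    L_mono (sub_le_self D (Finsupp.single_nonneg.mpr zero_le_one))
  obtain ⟨x, hx, hx'⟩ := SetLike.not_le_iff_exists.mp (fun hge : L D ≤ L (D - Finsupp.single P 1) =>
    (h P).ne (by rw [ell, ell, le_antisymm hle hge]))
  exact ⟨x, hx, (not_mem_L_sub_iff hx).mp hx'⟩

variable (hK : IsFunctionField k K)
include hK

theorem noBase_of_deg [IsAlgClosed k] {D : Divisor k K} (h : 2 * (genus k K : ℤ) - 1 < D.deg) :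
    NoBase D := noBase_of_ell hK.1 fun P => by
  have h1 := ell_of_deg_gt hK (D := D) (by omega)
  have h2 := ell_of_deg_gt hK (D := D - Finsupp.single P 1)
    (by rw [Divisor.deg_sub, Divisor.deg_single, deg_eq_one hK.1]; omega)
  rw [Divisor.deg_sub, Divisor.deg_single, deg_eq_one hK.1] at h2
  omega

theorem pencil_decomp {D : Divisor k K} {s t : K} (hs : s ∈ L D) (hs0 : s ≠ 0) (ht : t ∈ L D)
    (ht0 : t ≠ 0) (hst : ∀ Q : Place k K, Q.ord s = -D Q ∨ Q.ord t = -D Q) (E : Divisor k K)
    (hE : 2 * (genus k K : ℤ) - 2 < (E - D).deg) {z : K} (hz : z ∈ L (E + D))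
    (hd : 0 ≤ D.deg := by assumption) : ∃ a ∈ L E, ∃ b ∈ L E, z = a * s + b * t := by
  classical
  have hfin := L_finite hK.1
  have := hfin E
  have := hfin (E + D)
  let ψ : L E × L E →ₗ[k] L (E + D) :=
    { toFun := fun p => ⟨p.1.1 * s + p.2.1 * t,
        (L (E + D)).add_mem (mul_mem_L p.1.2 hs) (mul_mem_L p.2.2 ht)⟩
      map_add' := fun p q => Subtype.ext (by push_cast [Prod.fst_add, Prod.snd_add]; ring)
      map_smul' := fun c p => Subtype.ext (by
        simp only [Prod.smul_fst, Prod.smul_snd, Submodule.coe_smul, RingHom.id_apply,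
          Algebra.smul_def]
        ring) }
  have hker : Module.finrank k (LinearMap.ker ψ) ≤ ell (E - D) := by
    have := hfin (E - D)
    have hmemker : ∀ p : LinearMap.ker ψ, p.1.1.1 / t ∈ L (E - D) := by
      rintro ⟨⟨⟨a, ha⟩, ⟨b, hb⟩⟩, hp⟩
      have he : a * s + b * t = 0 := congrArg Subtype.val hp
      show a / t ∈ L (E - D)
      rcases eq_or_ne a 0 with rfl | ha0
      · simp
      have hb0 : b ≠ 0 := fun h => by rw [h, zero_mul, add_zero, mul_eq_zero] at he; tauto
      rw [mem_L_iff_ord (div_ne_zero ha0 ht0)]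
      intro Q
      rw [div_eq_mul_inv, ord_mul Q ha0 (inv_ne_zero ht0), ord_inv, Finsupp.sub_apply]
      have h1 := (mem_L_iff_ord ha0).mp ha Q
      have h2 := (mem_L_iff_ord hb0).mp hb Q
      have h3 : Q.ord a + Q.ord s = Q.ord b + Q.ord t := by
        rw [← ord_mul Q ha0 hs0, ← ord_mul Q hb0 ht0, eq_neg_of_add_eq_zero_left he]
        simp [Place.ord, Valuation.map_neg]
      rcases hst Q with h | h <;> omega
    let φ : LinearMap.ker ψ →ₗ[k] L (E - D) :=
      { toFun := fun p => ⟨p.1.1.1 / t, hmemker p⟩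
        map_add' := fun p q => Subtype.ext (by simp [add_div])
        map_smul' := fun c p => Subtype.ext (by simp [smul_div_assoc]) }
    refine LinearMap.finrank_le_finrank_of_injective (f := φ) fun p q h => ?_
    have h1 : p.1.1.1 = q.1.1.1 := by
      have := congrArg Subtype.val h
      simpa [φ, ht0] using this
    have hp : p.1.1.1 * s + p.1.2.1 * t = 0 := congrArg Subtype.val p.2
    have hq : q.1.1.1 * s + q.1.2.1 * t = 0 := congrArg Subtype.val q.2
    have h2 : p.1.2.1 = q.1.2.1 := mul_right_cancel₀ ht0 (by linear_combination hp - hq - s * h1)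
    exact Subtype.ext (Prod.ext (Subtype.ext h1) (Subtype.ext h2))
  have hsurj : Function.Surjective ψ := by
    rw [← LinearMap.range_eq_top]
    apply Submodule.eq_top_of_finrank_eq
    have h0 := LinearMap.finrank_range_add_finrank_ker ψ
    rw [Module.finrank_prod] at h0
    have h1 := (LinearMap.range ψ).finrank_le
    have e1 := ell_of_deg_gt hK (D := E - D) hE
    have e2 := ell_of_deg_gt hK (D := E) (by rw [Divisor.deg_sub] at hE; omega)
    have e3 := ell_of_deg_gt hK (D := E + D)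
      (by rw [Divisor.deg_add]; rw [Divisor.deg_sub] at hE; omega)
    rw [Divisor.deg_sub] at e1
    rw [Divisor.deg_add] at e3
    simp only [ell] at e1 e2 e3 hker ⊢
    omega
  obtain ⟨⟨⟨a, ha⟩, ⟨b, hb⟩⟩, hab⟩ := hsurj ⟨z, hz⟩
  exact ⟨a, ha, b, hb, (congrArg Subtype.val hab).symm⟩

/-- **Base point free pencil trick.** For base point free `D`, `L(E+D) = s L(E) + t L(E)` as soon as
`E - D` is non-special. -/
theorem exists_pencil [Infinite k] {D : Divisor k K} (hD : NoBase D) (hd : 0 ≤ D.deg) :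
    ∃ s ∈ L D, ∃ t ∈ L D, ∀ E : Divisor k K, 2 * (genus k K : ℤ) - 2 < (E - D).deg →
      ∀ z ∈ L (E + D), ∃ a ∈ L E, ∃ b ∈ L E, z = a * s + b * t := by
  classical
  obtain ⟨P₀⟩ := exists_place hK.1
  obtain ⟨s, hs, hs0, -⟩ := hD P₀
  set S : Finset (Place k K) := (D + FunFld.div k s).support
  have hmem : ∀ Q, Q ∉ S → Q.ord s = -D Q := fun Q hQ => by
    rw [Finsupp.notMem_support_iff, Finsupp.add_apply, div_apply hK.1] at hQ
    omega
  let p : S → Submodule k (L D) := fun Q =>
    (L (D - Finsupp.single (Q : Place k K) 1)).comap (L D).subtype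
  have hp : ∀ Q, p Q ≠ ⊤ := fun Q htop => by
    obtain ⟨x, hx, hx'⟩ := hD Q
    have : (⟨x, hx⟩ : L D) ∈ p Q := by rw [htop]; trivial
    exact ((not_mem_L_sub_iff hx).mpr hx') this
  obtain ⟨⟨t', ht'⟩, htS⟩ := Submodule.exists_forall_notMem_of_forall_ne_top p hp
  obtain ⟨t, ht, ht0, hst⟩ : ∃ t ∈ L D, t ≠ 0 ∧ ∀ Q, Q.ord s = -D Q ∨ Q.ord t = -D Q := by
    rcases isEmpty_or_nonempty S with he | ⟨⟨Q⟩⟩
    · exact ⟨s, hs, hs0, fun Q => Or.inl (hmem Q fun h => he.false ⟨Q, h⟩)⟩
    · refine ⟨t', ht', ((not_mem_L_sub_iff ht').mp (htS Q)).1, fun Q => ?_⟩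
      by_cases hQ : Q ∈ S
      · exact Or.inr ((not_mem_L_sub_iff ht').mp (htS ⟨Q, hQ⟩)).2
      · exact Or.inl (hmem Q hQ)
  exact ⟨s, hs, t, ht, fun E hE z hz => pencil_decomp hK hs hs0 ht ht0 hst E hE hz⟩

/-- The normalised statement: functions spanning `L(D)`, `D ≥ 0` containing `1`, `D(P) = 0`. -/
theorem exists_fraction_adjoin [IsAlgClosed k] {D : Divisor k K} {P : Place k K}
    (h0 : 0 ≤ D) (hP0 : D P = 0) (hdpos : 0 < D.deg)
    (hdeg : 2 * (genus k K : ℤ) - 2 < D.deg + 1) (hB : NoBase D)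
    (hB' : NoBase (D - Finsupp.single P 1)) {S : Set K}
    (hS : (L D : Set K) ⊆ Algebra.adjoin k S) (hS' : S ⊆ (L D : Set K)) {z : K} (hz : P.1 z ≤ 1) :
    ∃ u ∈ Algebra.adjoin k S, ∃ w ∈ Algebra.adjoin k S, P.1 w = 1 ∧ z * w = u := by
  classical
  set R := Algebra.adjoin k S
  have hRle : ∀ r ∈ R, P.1 r ≤ 1 := fun r hr => by
    induction hr using Algebra.adjoin_induction with
    | mem x hx => simpa [hP0] using (hS' hx) P
    | algebraMap c => exact P.2.1 c
    | add x y _ _ hx hy => exact (P.1.map_add x y).trans (max_le hx hy)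
    | mul x y _ _ hx hy => rw [map_mul]; exact mul_le_one' hx hy
  have hdegn : ∀ n : ℕ, ((n : ℤ) • D).deg = n * D.deg := fun n => deg_zsmul _ _
  obtain ⟨s₁, hs₁, t₁, ht₁, hgen⟩ := exists_pencil hK hB hdpos.le
  obtain ⟨s₂, hs₂, t₂, ht₂, hmax⟩ := exists_pencil hK hB'
    (by rw [Divisor.deg_sub, Divisor.deg_single, deg_eq_one hK.1]; omega)
  have hLle : L (D - Finsupp.single P 1) ≤ L D :=
    L_mono (sub_le_self D (Finsupp.single_nonneg.mpr zero_le_one))
  let N : Submodule R K := Submodule.span R (L ((3 : ℕ) • D) : Set K)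
  have hmono : ∀ m n : ℕ, m ≤ n → L (m • D) ≤ L (n • D) := fun m n hmn =>
    L_mono (nsmul_le_nsmul_left h0 hmn)
  have hN : ∀ n : ℕ, ∀ x ∈ L (n • D), x ∈ N := by
    intro n
    induction n with
    | zero => exact fun x hx => Submodule.subset_span (hmono 0 3 (by omega) hx)
    | succ n ih =>
      intro x hx
      rcases le_or_gt (n + 1) 3 with hn | hn
      · exact Submodule.subset_span (hmono _ 3 hn hx)
      · obtain ⟨a, ha, b, hb, rfl⟩ := hgen (n • D)
          (by rw [Divisor.deg_sub, ← natCast_zsmul, hdegn]; push_cast; nlinarith)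
          x (by rwa [succ_nsmul] at hx)
        rw [mul_comm a, mul_comm b]
        exact N.add_mem (N.smul_mem (⟨s₁, hS hs₁⟩ : R) (ih a ha))
          (N.smul_mem (⟨t₁, hS ht₁⟩ : R) (ih b hb))
  have hNfg : N.FG := by
    have := L_finite hK.1 ((3 : ℕ) • D)
    obtain ⟨σ, hσ⟩ := Submodule.fg_iff_finiteDimensional _ |>.mpr this
    refine ⟨σ, le_antisymm (Submodule.span_le.mpr fun x hx => Submodule.subset_span ?_)
      (Submodule.span_le.mpr fun x hx => ?_)⟩
    · rw [← hσ]; exact Submodule.subset_span hx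
    · rw [← hσ] at hx
      exact Submodule.span_le_restrictScalars k R (σ : Set K) hx
  let I : Ideal R :=
    { carrier := {r | P.1 (r : K) < 1}
      add_mem' := fun {a b} ha hb => (P.1.map_add _ _).trans_lt (max_lt ha hb)
      zero_mem' := by simp
      smul_mem' := fun r a ha => by
        show P.1 ((r : K) * (a : K)) < 1
        rw [map_mul]
        exact (mul_le_mul' (hRle r r.2) le_rfl).trans_lt (by rwa [one_mul]) }
  let q := (Submodule.span R {(1 : K)}).mkQ
  have hle : N.map q ≤ I • N.map q := by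
    rw [← Submodule.map_smul'']
    refine Submodule.map_le_iff_le_comap.mpr (Submodule.span_le.mpr fun x hx => ?_)
    have hxv : P.1 x ≤ 1 := by simpa [hP0] using hx P
    obtain ⟨c, hc⟩ := exists_value hK.1 (deg_eq_one hK.1 P) hxv
    have hy : x - algebraMap k K c ∈ L ((2 : ℕ) • D + (D - Finsupp.single P 1)) := by
      rw [← add_sub_assoc, ← succ_nsmul, mem_L_sub_single zero_le_one]
      refine ⟨Submodule.sub_mem _ (show x ∈ L ((2 + 1) • D) from hx) ?_, ?_⟩
      · exact hmono 0 3 (by omega) (by rw [zero_nsmul, L_zero_eq hK]; exact ⟨c, rfl⟩)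
      · rw [Finsupp.smul_apply, hP0, smul_zero, ← lt_exp_iff_le_exp_pred, exp_zero]
        exact hc
    obtain ⟨a, ha, b, hb, hab⟩ := hmax _
      (by rw [Divisor.deg_sub, Divisor.deg_sub, Divisor.deg_single, deg_eq_one hK.1,
            ← natCast_zsmul, hdegn]; push_cast; omega) _ hy
    have hsmall : ∀ r (hr : r ∈ L (D - Finsupp.single P 1)),
        (⟨r, hS (hLle hr)⟩ : R) ∈ I := fun r hr => by
      show P.1 r < 1
      have := ((mem_L_sub_single zero_le_one).mp hr).2
      rw [hP0, ← lt_exp_iff_le_exp_pred, exp_zero] at this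
      exact this
    refine ⟨a * s₂ + b * t₂, ?_, ?_⟩
    · refine Submodule.add_mem _ ?_ ?_
      · rw [mul_comm]; exact Submodule.smul_mem_smul (hsmall s₂ hs₂) (hN 2 a ha)
      · rw [mul_comm]; exact Submodule.smul_mem_smul (hsmall t₂ ht₂) (hN 2 b hb)
    · rw [← hab, Submodule.mkQ_apply, Submodule.mkQ_apply, Submodule.Quotient.eq, sub_sub_cancel_left]
      exact Submodule.neg_mem _ (Submodule.mem_span_singleton.mpr
        ⟨⟨algebraMap k K c, R.algebraMap_mem c⟩, mul_one _⟩)
  obtain ⟨⟨r, hr⟩, hr1, hr2⟩ :=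
    Submodule.exists_sub_one_mem_and_smul_eq_zero_of_fg_of_le_smul I _ (hNfg.map q) hle
  have hrN : ∀ x ∈ N, r * x ∈ R := fun x hx => by
    have := hr2 _ (Submodule.mem_map_of_mem (f := q) hx)
    rw [← map_smul, Submodule.mkQ_apply, Submodule.Quotient.mk_eq_zero,
      Submodule.mem_span_singleton] at this
    obtain ⟨⟨r', hr'⟩, he⟩ := this
    have he' : r' * 1 = r * x := he
    rw [← he', mul_one]
    exact hr'
  have hrv : P.1 r = 1 := by
    have h1 : P.1 (r - 1) < 1 := hr1
    have h2 := P.1.map_add_eq_of_lt_left (x := (1 : K)) (y := r - 1) (by rwa [map_one])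
    rwa [map_one, add_sub_cancel] at h2
  have hpoleP : poles z P = 0 := by
    rcases eq_or_ne z 0 with rfl | hz0
    · simp [poles, div_apply hK.1, Place.ord]
    · rw [poles, Finsupp.mapRange_apply, div_apply hK.1]
      have := (val_le_one_iff P hz0).mp hz
      omega
  obtain ⟨n, hn⟩ : ∃ n : ℕ, 2 * (genus k K : ℤ) - 1 + (poles z : Divisor k K).deg < n * D.deg :=
    ⟨(2 * (genus k K : ℤ) + (poles z : Divisor k K).deg).toNat, by
      have := Int.self_le_toNat (2 * (genus k K : ℤ) + (poles z : Divisor k K).deg)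
      nlinarith⟩
  obtain ⟨w, hw, hw0, hwP⟩ := noBase_of_deg hK (D := n • D - poles z)
    (by rw [Divisor.deg_sub, ← natCast_zsmul, hdegn]; linarith) P
  rw [Finsupp.sub_apply, Finsupp.smul_apply, hP0, smul_zero, hpoleP, sub_zero, neg_zero] at hwP
  have hw' : w ∈ L (n • D) := L_mono (sub_le_self _ (poles_nonneg z)) hw
  have hzw : z * w ∈ L (n • D) := fun Q => by
    rw [map_mul, show (n • D) Q = poles z Q + (n • D - poles z : Divisor k K) Q by
      rw [Finsupp.sub_apply]; omega, exp_add]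
    exact mul_le_mul' (val_le_exp_poles hK.1 z Q) (hw Q)
  refine ⟨r * (z * w) , hrN _ (hN n _ hzw), r * w, hrN _ (hN n _ hw'), ?_, by ring⟩
  rw [map_mul, hrv, one_mul, val_eq_exp P hw0, hwP, neg_zero, exp_zero]

/-- **Complete linear systems embed**, abstract form. -/
theorem isNonsingularAt_of_noBase [IsAlgClosed k] {D : Divisor k K}
    (hdpos : 0 < D.deg) (hdeg : 2 * (genus k K : ℤ) - 2 < D.deg + 1) (hB : NoBase D)
    (P : Place k K) (hB' : NoBase (D - Finsupp.single P 1)) {n : ℕ} (φ : Fin (n + 1) → K)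
    (hspan : Submodule.span k (Set.range φ) = L D) : IsNonsingularAt φ P := by
  classical
  have hφ : ∀ i, φ i ∈ L D := fun i => hspan ▸ Submodule.subset_span ⟨i, rfl⟩
  obtain ⟨x, hx, hx'⟩ := hB P
  obtain ⟨j, hj⟩ : ∃ j, φ j ∉ L (D - Finsupp.single P 1) := by
    by_contra! hall
    exact ((not_mem_L_sub_iff hx).mpr hx') ((Submodule.span_le.mpr (by
      rintro _ ⟨i, rfl⟩; exact hall i) : Submodule.span k (Set.range φ) ≤ _) (hspan.symm ▸ hx))
  obtain ⟨hj0, hjP⟩ := (not_mem_L_sub_iff (hφ j)).mp hj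
  intro z hz
  refine ⟨j, hj0, fun i => by rw [val_eq_exp P hj0, hjP, neg_neg]; exact hφ i P, ?_⟩
  set D' := D + FunFld.div k (φ j)
  have hmemD : ∀ y, y ∈ L D' ↔ φ j * y ∈ L D := fun y => (mul_mem_L_iff hK.1 hj0 y).symm
  have hnb : ∀ E : Divisor k K, NoBase E → NoBase (E + FunFld.div k (φ j)) := fun E hE Q => by
    obtain ⟨y, hy, hy0, hyQ⟩ := hE Q
    refine ⟨y / φ j, (mul_mem_L_iff hK.1 hj0 _).mp (by rwa [mul_div_cancel₀ _ hj0]),
      div_ne_zero hy0 hj0, ?_⟩
    rw [div_eq_mul_inv, ord_mul Q hy0 (inv_ne_zero hj0), ord_inv, hyQ, Finsupp.add_apply,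
      div_apply hK.1]
    ring
  refine exists_fraction_adjoin hK (D := D') ?_ ?_ ?_ ?_ (hnb D hB) ?_ ?_ ?_ hz
  · intro Q
    have h1 := (mem_L_iff_ord hj0).mp (hφ j) Q
    rw [Finsupp.add_apply, div_apply hK.1, Finsupp.zero_apply]
    omega
  · rw [Finsupp.add_apply, div_apply hK.1, hjP]; omega
  · rw [Divisor.deg_add, deg_div hK.1]; omega
  · rw [Divisor.deg_add, deg_div hK.1]; omega
  · have := hnb _ hB'
    rwa [sub_add_eq_add_sub] at this
  · intro y hy
    have h1 : φ j * y ∈ Submodule.span k (Set.range φ) := by rw [hspan]; exact (hmemD y).mp hy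
    obtain ⟨c, hc⟩ := (Submodule.mem_span_range_iff_exists_fun k).mp h1
    have : y = ∑ i, c i • (φ i / φ j) := mul_left_cancel₀ hj0 (by
      rw [← hc, Finset.mul_sum]
      refine Finset.sum_congr rfl fun i _ => ?_
      rw [mul_smul_comm, mul_div_cancel₀ _ hj0])
    rw [this]
    exact Subalgebra.sum_mem _ fun i _ => Subalgebra.smul_mem _ (Algebra.subset_adjoin (Set.mem_range_self i)) _
  · rintro _ ⟨i, rfl⟩
    exact (hmemD _).mpr (by rw [mul_div_cancel₀ _ hj0]; exact hφ i)

theorem isNonsingularAt_of_deg [IsAlgClosed k] {D : Divisor k K}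
    (hD : 2 * (genus k K : ℤ) + 1 ≤ D.deg) {n : ℕ} (φ : Fin (n + 1) → K)
    (hspan : Submodule.span k (Set.range φ) = L D) (P : Place k K) : IsNonsingularAt φ P :=
  isNonsingularAt_of_noBase hK (by omega) (by omega) (noBase_of_deg hK (by omega)) P
    (noBase_of_deg hK (by rw [Divisor.deg_sub, Divisor.deg_single, deg_eq_one hK.1]; omega))
    φ hspan

theorem isNonsingularAt_canonical [IsAlgClosed k]
    (h2 : ∀ x : K, Transcendental k x →
      2 < Module.finrank (IntermediateField.adjoin k ({x} : Set K)) K)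
    {C : Divisor k K} (hC : IsCanonical k K C) {n : ℕ} (φ : Fin (n + 1) → K)
    (hspan : Submodule.span k (Set.range φ) = L C) (P : Place k K) : IsNonsingularAt φ P := by
  classical
  have hsmall : ∀ E : Divisor k K, 0 ≤ E → E.deg ≤ 2 → ell E = 1 := by
    intro E hE hdE
    have := L_finite hK.1 E
    have hle : L (0 : Divisor k K) ≤ L E := L_mono hE
    rw [← ell_zero hK, ell, ell, le_antisymm ?_ hle]
    intro x hx
    by_contra hx0
    rw [L_zero_eq hK] at hx0
    have htr := transcendental_of_not_range hK hx0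
    have hxne : x ≠ 0 := fun e => htr (e ▸ isAlgebraic_zero)
    have hle2 : (poles x : Divisor k K) ≤ E := fun Q => by
      have := (mem_L_iff_ord hxne).mp hx Q
      rw [poles, Finsupp.mapRange_apply, div_apply hK.1]
      have hQ : (0 : ℤ) ≤ E Q := hE Q
      omega
    have hd := Divisor.deg_mono hle2
    rw [deg_poles hK.1 htr] at hd
    have := h2 x htr
    omega
  have hdC := deg_canonical hK hC
  have hg : 2 ≤ genus k K := by
    obtain ⟨Q⟩ := exists_place hK.1
    have h1 := riemann hK.1 (Finsupp.single Q (2 : ℤ))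
    rw [hsmall _ (Finsupp.single_nonneg.mpr (by norm_num))
      (by rw [Divisor.deg_single, deg_eq_one hK.1]; norm_num), Divisor.deg_single,
      deg_eq_one hK.1] at h1
    omega
  have hell : ∀ E : Divisor k K, 0 ≤ E → E.deg ≤ 2 → (ell (C - E) : ℤ) = genus k K - E.deg := by
    intro E hE hdE
    have h := riemann_roch hK hC E
    rw [hsmall E hE hdE] at h
    omega
  have h1P : ∀ Q : Place k K, (ell (C - Finsupp.single Q 1) : ℤ) = genus k K - 1 := fun Q => by
    rw [hell _ (Finsupp.single_nonneg.mpr zero_le_one)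
      (by rw [Divisor.deg_single, deg_eq_one hK.1]; norm_num), Divisor.deg_single, deg_eq_one hK.1]
    norm_num
  refine isNonsingularAt_of_noBase hK (by omega) (by omega) ?_ P ?_ φ hspan
  · exact noBase_of_ell hK.1 fun Q => by
      have := h1P Q
      have := ell_canonical hK hC
      omega
  · exact noBase_of_ell hK.1 fun Q => by
      have h' := hell (Finsupp.single P 1 + Finsupp.single Q 1)
        (add_nonneg (Finsupp.single_nonneg.mpr zero_le_one) (Finsupp.single_nonneg.mpr zero_le_one))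
        (by rw [Divisor.deg_add, Divisor.deg_single, Divisor.deg_single, deg_eq_one hK.1,
          deg_eq_one hK.1]; norm_num)
      rw [← sub_sub, Divisor.deg_add, Divisor.deg_single, Divisor.deg_single, deg_eq_one hK.1,
          deg_eq_one hK.1] at h'
      have := h1P P
      omega

end Groth.Agent.FFLib
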