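import Groth.Agent.FFLib.Separation

/-! Fibres of a projective map and local rings. -/

namespace Groth.Agent.FFLib

open FunFld IntermediateField WithZero

variable {k K : Type*} [Field k] [Field K] [Algebra k K]

/-- Two places with the same image give the same values on the coordinate ring at that point. -/
theorem exists_common_value {S : Set K} {P Q : Place k K}
    (h : ∀ z ∈ S, ∃ c : k, P.1 (z - algebraMap k K c) < 1 ∧ Q.1 (z - algebraMap k K c) < 1)
    {u : K} (hu : u ∈ Algebra.adjoin k S) :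
    ∃ c : k, P.1 (u - algebraMap k K c) < 1 ∧ Q.1 (u - algebraMap k K c) < 1 := by
  have hmul : ∀ (R : Place k K) (a b : K) (c d : k), R.1 (a - algebraMap k K c) < 1 →
      R.1 (b - algebraMap k K d) < 1 → R.1 (a * b - algebraMap k K (c * d)) < 1 := by
    intro R a b c d hc hd
    have hb : R.1 b ≤ 1 := by
      rw [← sub_add_cancel b (algebraMap k K d)]
      exact (R.1.map_add _ _).trans (max_le hd.le (R.2.1 d))
    rw [show a * b - algebraMap k K (c * d) =
      (a - algebraMap k K c) * b + algebraMap k K c * (b - algebraMap k K d) by rw [map_mul]; ring]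
    refine (R.1.map_add _ _).trans_lt (max_lt ?_ ?_)
    · rw [map_mul]; exact (mul_le_mul' le_rfl hb).trans_lt (by rwa [mul_one])
    · rw [map_mul]; exact (mul_le_mul' (R.2.1 c) le_rfl).trans_lt (by rwa [one_mul])
  induction hu using Algebra.adjoin_induction with
  | mem z hz => exact h z hz
  | algebraMap c => exact ⟨c, by simp, by simp⟩
  | add a b _ _ ha hb =>
    obtain ⟨c, hc, hc'⟩ := ha
    obtain ⟨d, hd, hd'⟩ := hb
    refine ⟨c + d, ?_, ?_⟩ <;> rw [map_add, add_sub_add_comm]
    · exact (P.1.map_add _ _).trans_lt (max_lt hc hd)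
    · exact (Q.1.map_add _ _).trans_lt (max_lt hc' hd')
  | mul a b _ _ ha hb =>
    obtain ⟨c, hc, hc'⟩ := ha
    obtain ⟨d, hd, hd'⟩ := hb
    exact ⟨c * d, hmul P a b c d hc hd, hmul Q a b c d hc' hd'⟩

/-- The value is one iff the constant is nonzero. -/
theorem val_eq_one_of_const (P : Place k K) {u : K} {c : k} (hc : c ≠ 0)
    (h : P.1 (u - algebraMap k K c) < 1) : P.1 u = 1 := by
  have := P.1.map_add_eq_of_lt_left (x := algebraMap k K c) (y := u - algebraMap k K c)
    (by rwa [val_algebraMap P hc])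
  rwa [add_sub_cancel, val_algebraMap P hc] at this

theorem val_lt_one_iff_const (P : Place k K) {u : K} {c : k}
    (h : P.1 (u - algebraMap k K c) < 1) : P.1 u < 1 ↔ c = 0 := by
  refine ⟨fun hu => ?_, fun hc => by rwa [hc, map_zero, sub_zero] at h⟩
  by_contra hc
  exact hu.ne (val_eq_one_of_const P hc h)

variable (hK : IsFunctionField k K)
include hK

variable [IsAlgClosed k]

/-- Same image in terms of local rings. -/
theorem sameImage_iff {ι : Type*} {φ : ι → K} {D : Divisor k K}
    (h : IsBpfSeries D (Submodule.span k (Set.range φ))) (P Q : Place k K) :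
    SameImage φ P Q ↔ ∀ z : K, InLocRing φ P z → (Q.1 z ≤ 1 ∧ (Q.1 z < 1 ↔ P.1 z < 1)) := by
  constructor
  · rintro ⟨j, hj0, hminP, hminQ, hvals⟩ z hz
    obtain ⟨m, b, hb, hb0, hbP, hzb⟩ := (inLocRing_iff_pow h P z).mp hz
    have hjP := ord_eq_of_min h hj0 hminP
    have hrange : (Set.range fun i => φ i / φ j) = (fun z => z / φ j) '' Set.range φ := by
      rw [← Set.range_comp]; rfl
    have hadj : ∀ a ∈ Submodule.span k (Set.range φ) ^ m,
        a / φ j ^ m ∈ Algebra.adjoin k (Set.range fun i => φ i / φ j) := fun a ha => by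
      rw [hrange, mem_adjoin_div_iff (V := Submodule.span k (Set.range φ)) (Submodule.subset_span ⟨j, rfl⟩) hj0 Submodule.subset_span le_rfl]
      exact ⟨m, by rwa [div_mul_cancel₀ _ (pow_ne_zero _ hj0)]⟩
    have hS : ∀ a ∈ Set.range (fun i => φ i / φ j),
        ∃ c : k, P.1 (a - algebraMap k K c) < 1 ∧ Q.1 (a - algebraMap k K c) < 1 := by
      rintro _ ⟨i, rfl⟩; exact hvals i
    obtain ⟨c, hcP, hcQ⟩ := exists_common_value hS (hadj b hb)
    obtain ⟨d, hdP, hdQ⟩ := exists_common_value hS (hadj _ hzb)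
    have hw1 : P.1 (b / φ j ^ m) = 1 := by
      rw [map_div₀, map_pow, val_eq_exp P hb0, val_eq_exp P hj0, hbP, hjP, neg_neg, neg_neg,
        ← exp_nsmul, nsmul_eq_mul, div_self exp_ne_zero]
    have hc : c ≠ 0 := fun e => ((val_lt_one_iff_const P hcP).mpr e).ne hw1
    have key : ∀ R : Place k K, R.1 (b / φ j ^ m - algebraMap k K c) < 1 →
        R.1 z = R.1 (z * b / φ j ^ m) := fun R hR => by
      rw [mul_div_assoc, map_mul, val_eq_one_of_const R hc hR, mul_one]
    rw [key Q hcQ, key P hcP]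
    refine ⟨?_, (val_lt_one_iff_const Q hdQ).trans (val_lt_one_iff_const P hdP).symm⟩
    rcases eq_or_ne d 0 with rfl | hd
    · exact ((val_lt_one_iff_const Q hdQ).mpr rfl).le
    · exact (val_eq_one_of_const Q hd hdQ).le
  · intro hall
    obtain ⟨j, hj0, hjP⟩ := exists_exact_entry h P
    have hminP : ∀ i, P.1 (φ i) ≤ P.1 (φ j) := fun i => by
      rw [val_eq_exp P hj0, hjP, neg_neg]
      exact h.le (Submodule.subset_span ⟨i, rfl⟩) P
    have hin : ∀ u ∈ Algebra.adjoin k (Set.range fun i => φ i / φ j), InLocRing φ P u := fun u hu =>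
      ⟨j, hj0, hminP, u, hu, 1, one_mem _, map_one _, mul_one u⟩
    refine ⟨j, hj0, hminP, fun i => ?_, fun i => ?_⟩
    · have := (hall _ (hin _ (Algebra.subset_adjoin ⟨i, rfl⟩))).1
      rwa [map_div₀, div_le_one₀ (zero_lt_iff.mpr (val_ne_zero Q hj0))] at this
    · obtain ⟨c, hc⟩ := exists_value hK.1 (deg_eq_one hK.1 P) (x := φ i / φ j) (by
        rw [map_div₀, div_le_one₀ (zero_lt_iff.mpr (val_ne_zero P hj0))]; exact hminP i)
      exact ⟨c, hc, ((hall _ (hin _ (sub_mem (Algebra.subset_adjoin ⟨i, rfl⟩)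
        (Subalgebra.algebraMap_mem _ c)))).2).mpr hc⟩

omit [IsAlgClosed k] in
/-- A member of the series vanishes simultaneously at places with the same image. -/
theorem vanish_iff_of_sameImage {ι : Type*} {φ : ι → K} {D : Divisor k K}
    (h : IsBpfSeries D (Submodule.span k (Set.range φ))) {P Q : Place k K}
    (hPQ : SameImage φ P Q) {v : K} (hv : v ∈ Submodule.span k (Set.range φ)) (hv0 : v ≠ 0) :
    0 < D P + P.ord v ↔ 0 < D Q + Q.ord v := by
  obtain ⟨j, hj0, hminP, hminQ, hvals⟩ := hPQ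
  have hjP := ord_eq_of_min h hj0 hminP
  have hjQ := ord_eq_of_min h hj0 hminQ
  have hu : v / φ j ∈ Algebra.adjoin k (Set.range fun i => φ i / φ j) := by
    have hrange : (Set.range fun i => φ i / φ j) = (fun z => z / φ j) '' Set.range φ := by
      rw [← Set.range_comp]; rfl
    rw [hrange, mem_adjoin_div_iff (V := Submodule.span k (Set.range φ)) (Submodule.subset_span ⟨j, rfl⟩) hj0 Submodule.subset_span le_rfl]
    exact ⟨1, by rwa [pow_one, pow_one, div_mul_cancel₀ _ hj0]⟩
  obtain ⟨c, hcP, hcQ⟩ := exists_common_value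
    (S := Set.range fun i => φ i / φ j) (by rintro _ ⟨i, rfl⟩; exact hvals i) hu
  have key : ∀ R : Place k K, R.ord (φ j) = -D R → (0 < D R + R.ord v ↔ R.1 (v / φ j) < 1) :=
    fun R hR => by
      rw [val_lt_one_iff R (div_ne_zero hv0 hj0), div_eq_mul_inv, ord_mul R hv0 (inv_ne_zero hj0),
        ord_inv, hR]
      omega
  rw [key P hjP, key Q hjQ, val_lt_one_iff_const P hcP, val_lt_one_iff_const Q hcQ]

/-- A nonsingular place is a place with a hyperplane of intersection multiplicity one. -/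
theorem isNonsingularAt_iff_exists_mult_one {n : ℕ} (hn : 1 ≤ n) {φ : Fin (n + 1) → K}
    (hφ : LinearIndependent k φ) (P : Place k K) :
    IsNonsingularAt φ P ↔ ∃ c : Fin (n + 1) → k, ∑ i, c i • φ i ≠ 0 ∧
      ∑ᶠ Q ∈ {Q : Place k K | SameImage φ P Q},
        ((FunFld.mapDiv k φ) Q + Q.ord (∑ i, c i • φ i)) = 1 := by
  classical
  have h := isBpfSeries_span' hK hφ
  set D := FunFld.mapDiv k φ
  set V := Submodule.span k (Set.range φ)
  have hPP : SameImage φ P P := (sameImage_iff hK h P P).mpr fun z hz => by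
    obtain ⟨m, b, hb, hb0, hbP, hzb⟩ := (inLocRing_iff_pow h P z).mp hz
    refine ⟨?_, Iff.rfl⟩
    rcases eq_or_ne z 0 with rfl | hz0
    · simp
    rw [val_le_one_iff P hz0]
    have hpow : V ^ m ≤ L ((m : ℕ) • D) := by
      clear hb hzb hbP
      induction m with
      | zero => rw [Submodule.pow_zero, Submodule.one_le]; intro R; simp
      | succ m ih =>
        rw [Submodule.pow_succ, succ_nsmul, Submodule.mul_le]
        exact fun a ha b hb => mul_mem_L (ih ha) (h.le hb)
    have := (mem_L_iff_ord (mul_ne_zero hz0 hb0)).mp (hpow hzb) P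
    rw [ord_mul P hz0 hb0, hbP, Finsupp.smul_apply, nsmul_eq_mul] at this
    omega
  constructor
  · intro hns
    have hsingle : {Q : Place k K | SameImage φ P Q} = {P} := by
      refine Set.eq_singleton_iff_unique_mem.mpr ⟨hPP, fun Q hQ => ?_⟩
      by_contra hne
      obtain ⟨z, hz, hz'⟩ := exists_sep_two hne
      exact hz'.not_ge ((sameImage_iff hK h P Q).mp hQ z (hns z hz.le)).1
    obtain ⟨v, hv, hv0, hvP⟩ :=
      (bpf_of_nonsingular hK h hns).exact P
    obtain ⟨c, hc⟩ := Submodule.mem_span_range_iff_exists_fun k |>.mp hv.1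
    refine ⟨c, hc.symm ▸ hv0, ?_⟩
    rw [hsingle, finsum_mem_singleton, hc, hvP, Finsupp.sub_apply, Finsupp.single_eq_same]
    ring
  · rintro ⟨c, hv0, hsum⟩
    set v := ∑ i, c i • φ i
    have hv : v ∈ V := sum_mem fun i _ => Submodule.smul_mem _ _ (Submodule.subset_span ⟨i, rfl⟩)
    have hnn : ∀ R : Place k K, 0 ≤ D R + R.ord v := fun R => by
      have := (mem_L_iff_ord hv0).mp (h.le hv) R
      omega
    have hfib := finite_sameImage hK hn hφ P
    rw [finsum_mem_eq_finite_toFinset_sum _ hfib] at hsum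
    have hPmem : P ∈ hfib.toFinset := hfib.mem_toFinset.mpr hPP
    obtain ⟨Q₀, hQ₀, hQ₀'⟩ : ∃ Q ∈ hfib.toFinset, 0 < D Q + Q.ord v := by
      by_contra! hall
      rw [Finset.sum_eq_zero fun Q hQ => le_antisymm (hall Q hQ) (hnn Q)] at hsum
      exact zero_ne_one hsum
    have hP0 : 0 < D P + P.ord v :=
      (vanish_iff_of_sameImage hK h (hfib.mem_toFinset.mp hQ₀) hv hv0).mpr hQ₀'
    have huniq : ∀ Q, SameImage φ P Q → Q = P := by
      intro Q hQ
      by_contra hne
      have hQ0 := (vanish_iff_of_sameImage hK h hQ hv hv0).mp hP0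
      have h2 := Finset.sum_le_sum_of_subset_of_nonneg
        (f := fun R : Place k K => D R + R.ord v)
        (s := {P, Q}) (t := hfib.toFinset)
        (by rintro R hR; rw [Finset.mem_insert, Finset.mem_singleton] at hR
            rcases hR with rfl | rfl
            · exact hPmem
            · exact hfib.mem_toFinset.mpr hQ) (fun R _ _ => hnn R)
      rw [Finset.sum_pair (Ne.symm hne), hsum] at h2
      omega
    have hP1 : D P + P.ord v = 1 := by
      rw [show hfib.toFinset = {P} from Finset.eq_singleton_iff_unique_mem.mpr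
        ⟨hPmem, fun Q hQ => huniq Q (hfib.mem_toFinset.mp hQ)⟩, Finset.sum_singleton] at hsum
      exact hsum
    have hvL : v ∈ L (D - Finsupp.single P 1) := (mem_L_iff_ord hv0).mpr fun R => by
      have := hnn R
      rw [Finsupp.sub_apply, Finsupp.single_apply]
      split_ifs with e
      · subst e; omega
      · omega
    refine isNonsingularAt_of_bpf hK h (mapDiv_deg_pos hK hn hφ) P ⟨inf_le_right, fun Q => ?_⟩
    rcases eq_or_ne Q P with rfl | hne
    · exact ⟨v, ⟨hv, hvL⟩, hv0, by rw [Finsupp.sub_apply, Finsupp.single_eq_same]; omega⟩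
    by_contra! hall
    refine hne (huniq Q ?_)
    obtain ⟨j, hj0, hjP⟩ := exists_exact_entry h P
    have hminP : ∀ i, P.1 (φ i) ≤ P.1 (φ j) := fun i => by
      rw [val_eq_exp P hj0, hjP, neg_neg]
      exact h.le (Submodule.subset_span ⟨i, rfl⟩) P
    have hch : ∀ i, ∃ a : k, P.1 (φ i / φ j - algebraMap k K a) < 1 ∧
        Q.1 (φ i - a • φ j) < exp (D Q) := by
      intro i
      obtain ⟨a, ha⟩ := exists_value hK.1 (deg_eq_one hK.1 P) (x := φ i / φ j) (by
        rw [map_div₀, div_le_one₀ (zero_lt_iff.mpr (val_ne_zero P hj0))]; exact hminP i)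
      refine ⟨a, ha, ?_⟩
      rcases eq_or_ne (φ i - a • φ j) 0 with h0 | h0
      · rw [h0, map_zero]; exact zero_lt_iff.mpr exp_ne_zero
      have hmem : φ i - a • φ j ∈ V :=
        sub_mem (Submodule.subset_span ⟨i, rfl⟩) (Submodule.smul_mem _ _ (Submodule.subset_span ⟨j, rfl⟩))
      have hP' : P.ord (φ i - a • φ j) ≠ -D P := by
        intro e
        have e' : φ i - a • φ j = (φ i / φ j - algebraMap k K a) * φ j := by
          rw [Algebra.smul_def, sub_mul, div_mul_cancel₀ _ hj0]
        have hlt : P.1 (φ i - a • φ j) < P.1 (φ j) := by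
          rw [e', map_mul]
          exact (mul_lt_iff_lt_one_left (zero_lt_iff.mpr (val_ne_zero P hj0))).mpr ha
        rw [val_eq_exp P h0, val_eq_exp P hj0, e, hjP] at hlt
        exact lt_irrefl _ hlt
      have hmemL : φ i - a • φ j ∈ L (D - Finsupp.single P 1) := by
        by_contra hni
        exact hP' ((not_mem_L_sub_iff (h.le hmem)).mp hni).2
      have hQ' := hall _ ⟨hmem, hmemL⟩ h0
      rw [Finsupp.sub_apply, Finsupp.single_apply, if_neg hne.symm, sub_zero] at hQ'
      have := (mem_L_iff_ord h0).mp (h.le hmem) Q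
      rw [val_eq_exp Q h0, exp_lt_exp]
      omega
    have hjQ : Q.1 (φ j) = exp (D Q) := by
      refine le_antisymm (h.le (Submodule.subset_span ⟨j, rfl⟩) Q) (not_lt.mp fun hlt => ?_)
      obtain ⟨i, hi0, hiQ⟩ := exists_exact_entry h Q
      obtain ⟨a, -, ha⟩ := hch i
      have hsplit : Q.1 (φ i) < exp (D Q) := by
        rw [← sub_add_cancel (φ i) (a • φ j)]
        refine (Q.1.map_add _ _).trans_lt (max_lt ha ?_)
        rw [Algebra.smul_def, map_mul]
        exact (mul_le_mul' (Q.2.1 a) le_rfl).trans_lt (by rwa [one_mul])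
      rw [val_eq_exp Q hi0, hiQ, neg_neg] at hsplit
      exact lt_irrefl _ hsplit
    refine ⟨j, hj0, hminP, fun i => hjQ.ge.trans' (h.le (Submodule.subset_span ⟨i, rfl⟩) Q), fun i => ?_⟩
    obtain ⟨a, ha, ha'⟩ := hch i
    refine ⟨a, ha, ?_⟩
    rw [show φ i / φ j - algebraMap k K a = (φ i - a • φ j) / φ j by
      rw [Algebra.smul_def, sub_div, mul_div_assoc, div_self hj0, mul_one], map_div₀, hjQ,
      div_lt_one₀ (zero_lt_iff.mpr exp_ne_zero)]
    exact ha'

end Groth.Agent.FFLib
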