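import Groth.Agent.FFLib.Ext
import Mathlib.RingTheory.Valuation.RamificationGroup
import Mathlib.GroupTheory.Index

/-! Places in finite Galois extensions. -/

namespace Groth.Agent.FFLib

open FunFld WithZero
open scoped Pointwise

variable {k K K' : Type*} [Field k] [Field K] [Field K'] [Algebra k K] [Algebra K K'] [Algebra k K']
  [IsScalarTower k K K']

theorem smul_O (σ : K' ≃ₐ[K] K') (Q : Place k K') :
    σ • Q.O = (placeComap (σ.symm.restrictScalars k) Q).O := by
  ext x
  rw [ValuationSubring.mem_pointwise_smul_iff_inv_smul_mem]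
  rfl

theorem ramIdx_deg_conj (hF : IsFF k K) [FiniteDimensional K K'] [IsGalois K K'] {Q Q' : Place k K'}
    {P : Place k K} {e : ℕ} (he : IsOverWith Q P e) (h' : IsOver Q' P) :
    IsOverWith Q' P e ∧ Q'.deg = Q.deg := by
  obtain ⟨σ, rfl⟩ := exists_conj hF ⟨e, he⟩ h'
  exact ⟨isOverWith_placeComap σ he, deg_placeComap hF.ext _ Q⟩

theorem card_over_mul_stabilizer (hF : IsFF k K) [FiniteDimensional K K'] [IsGalois K K']
    {Q : Place k K'} {P : Place k K} (h : IsOver Q P) :
    Nat.card {Q' : Place k K' // IsOver Q' P} *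
      Nat.card ((Q.O).decompositionSubgroup K) = Module.finrank K K' := by
  rw [← IsGalois.card_aut_eq_finrank K K',
    ← Subgroup.index_mul_card ((Q.O).decompositionSubgroup K),
    MulAction.index_stabilizer, ← Nat.card_coe_set_eq]
  congr 1
  refine Nat.card_congr (Equiv.ofBijective (fun Q' => ⟨Q'.1.O, ?_⟩)
    ⟨fun a b hab => Subtype.ext (place_eq_of_iff fun x => ?_), fun ⟨A, hA⟩ => ?_⟩)
  · obtain ⟨σ, hσ⟩ := exists_conj hF h Q'.2
    exact ⟨σ.symm, by
      show σ.symm • Q.O = _
      rw [smul_O, AlgEquiv.symm_symm, hσ]⟩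
  · exact SetLike.ext_iff.mp (congrArg Subtype.val hab) x
  · obtain ⟨σ, hσ⟩ := hA
    obtain ⟨e, he⟩ := h
    refine ⟨⟨_, e, isOverWith_placeComap σ.symm he⟩, Subtype.ext ?_⟩
    show (placeComap (σ.symm.restrictScalars k) Q).O = A
    rw [← smul_O]
    exact hσ

theorem card_over_mul_ram_deg (hF : IsFF k K) [FiniteDimensional K K'] [IsGalois K K']
    {Q : Place k K'} {P : Place k K} {e : ℕ} (he : IsOverWith Q P e) :
    Nat.card {Q' : Place k K' // IsOver Q' P} * (e * Q.deg) = Module.finrank K K' * P.deg := by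
  have h := sum_ram_deg hF P (over_finite (K' := K') hF P).toFinset fun Q' =>
    (over_finite (K' := K') hF P).mem_toFinset
  rw [← h, Finset.sum_const_nat (m := e * Q.deg) fun Q' hQ' => ?_]
  · congr 1
    exact (Nat.card_eq_card_finite_toFinset (over_finite (K' := K') hF P)).symm ▸ rfl
  · have h' : IsOver Q' P := (over_finite (K' := K') hF P).mem_toFinset.mp hQ'
    rw [(ramIdx_deg_conj hF he h').2, ramIdx_eq hF (ramIdx_deg_conj hF he h').1]

end Groth.Agent.FFLib
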