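import Groth.Agent.FFLib.Conductor
import Groth.Agent.FFLib.AdjointAffine
import Groth.Agent.FFLib.PlaneRel

/-! The intersection multiplicity of a curve with a plane model as a codimension in the local ring. -/

set_option linter.unusedSectionVars false

namespace Groth.Agent.FFLib.IntMult

open FunFld WithZero Groth.Agent.FFLib MvPolynomial

variable {k K : Type*} [Field k] [Field K] [Algebra k K]

/-- The dimension of `M / N`. -/
noncomputable def codim (N M : Submodule k K) : ℕ := Module.finrank k (M ⧸ N.submoduleOf M)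

theorem codim_self (N : Submodule k K) : codim N N = 0 := by
  have : Subsingleton (N ⧸ N.submoduleOf N) :=
    Submodule.Quotient.subsingleton_iff.mpr (Submodule.submoduleOf_self N)
  exact Module.finrank_zero_of_subsingleton

theorem codim_add {N L M : Submodule k K} (h1 : N ≤ L) (h2 : L ≤ M)
    (hfin : FiniteDimensional k (M ⧸ N.submoduleOf M)) :
    FiniteDimensional k (L ⧸ N.submoduleOf L) ∧ FiniteDimensional k (M ⧸ L.submoduleOf M) ∧
      codim N M = codim N L + codim L M := by
  let f : (L ⧸ N.submoduleOf L) →ₗ[k] (M ⧸ N.submoduleOf M) :=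
    Submodule.mapQ _ _ (Submodule.inclusion h2) fun z hz => hz
  have hleN : N.submoduleOf M ≤ L.submoduleOf M := fun z hz => h1 hz
  let g : (M ⧸ N.submoduleOf M) →ₗ[k] (M ⧸ L.submoduleOf M) := Submodule.factor hleN
  have hf : Function.Injective f := by
    rw [← LinearMap.ker_eq_bot, eq_bot_iff]
    intro z hz
    induction z using Submodule.Quotient.induction_on with
    | H z =>
      rw [LinearMap.mem_ker, Submodule.mapQ_apply, Submodule.Quotient.mk_eq_zero] at hz
      rw [Submodule.mem_bot, Submodule.Quotient.mk_eq_zero]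
      exact hz
  have hg : Function.Surjective g := Submodule.factor_surjective hleN
  haveI := hfin
  have i1 : FiniteDimensional k (L ⧸ N.submoduleOf L) := Module.Finite.of_injective f hf
  refine ⟨i1, Module.Finite.of_surjective g hg, ?_⟩
  have hex : LinearMap.ker g = LinearMap.range f := by
    ext z
    induction z using Submodule.Quotient.induction_on with
    | H z =>
      constructor
      · intro hz
        have hz' : (z : K) ∈ L := (Submodule.Quotient.mk_eq_zero (L.submoduleOf M) (x := z)).mp (LinearMap.mem_ker.mp hz)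
        exact ⟨Submodule.Quotient.mk ⟨z, hz'⟩, rfl⟩
      · rintro ⟨w, hw⟩
        induction w using Submodule.Quotient.induction_on with
        | H w =>
          rw [← hw, LinearMap.mem_ker]
          exact (Submodule.Quotient.mk_eq_zero _).mpr w.2
  have h := g.finrank_range_add_finrank_ker
  rw [LinearMap.range_eq_top.mpr hg, finrank_top, hex, LinearMap.finrank_range_of_inj hf] at h
  rw [codim, codim, codim]
  omega

/-- Multiplication by a nonzero element preserves codimensions. -/
theorem codim_smul {g : K} (hg : g ≠ 0) (N M : Submodule k K) :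
    codim (N.map (LinearMap.mulLeft k g)) (M.map (LinearMap.mulLeft k g)) = codim N M := by
  have hinj : Function.Injective (LinearMap.mulLeft k g) := mul_right_injective₀ hg
  let e := Submodule.equivMapOfInjective (LinearMap.mulLeft k g) hinj M
  refine (LinearEquiv.finrank_eq (Submodule.Quotient.equiv _ _ e ?_)).symm
  ext z
  constructor
  · rintro ⟨w, hw, rfl⟩
    exact ⟨w, hw, rfl⟩
  · rintro ⟨w, hw, hwz⟩
    obtain ⟨w', rfl⟩ := e.surjective z
    refine ⟨w', ?_, rfl⟩
    have : (w' : K) = w := hinj (hwz.trans rfl).symm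
    show (w' : K) ∈ N
    rw [this]; exact hw

/-- Functions bounded below by `m` on a finite set of places. -/
def ball (S : Finset (Place k K)) (m : Place k K → ℕ) : Submodule k K where
  carrier := {z | ∀ Q ∈ S, Q.1 z ≤ exp (-(m Q : ℤ))}
  add_mem' {a b} ha hb Q hQ := (Q.1.map_add _ _).trans (max_le (ha Q hQ) (hb Q hQ))
  zero_mem' Q _ := by simp
  smul_mem' c a ha Q hQ := by
    rw [Algebra.smul_def, map_mul]
    exact le_trans (mul_le_of_le_one_left' (Q.2.1 c)) (ha Q hQ)

theorem mem_ball {S : Finset (Place k K)} {m : Place k K → ℕ} {z : K} :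
    z ∈ ball S m ↔ ∀ Q ∈ S, Q.1 z ≤ exp (-(m Q : ℤ)) := Iff.rfl

theorem ball_step [IsAlgClosed k] [DecidableEq (Place k K)] (hK : IsFunctionField k K)
    {S : Finset (Place k K)} (m : Place k K → ℕ) {Q₀ : Place k K} (hQ₀ : Q₀ ∈ S) :
    FiniteDimensional k (ball S m ⧸ (ball S (Function.update m Q₀ (m Q₀ + 1))).submoduleOf (ball S m)) ∧
      codim (ball S (Function.update m Q₀ (m Q₀ + 1))) (ball S m) = 1 := by
  classical
  set m' := Function.update m Q₀ (m Q₀ + 1)
  obtain ⟨t, ht0, ht⟩ := exists_val_eq_exp Q₀ (-(m Q₀ : ℤ))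
  obtain ⟨w, hw⟩ := exists_approx S (fun Q => if Q = Q₀ then t else 0) (fun Q => (m Q : ℤ) + 1)
  have hwQ : Q₀.1 w = exp (-(m Q₀ : ℤ)) := by
    have h := hw Q₀ hQ₀
    simp only [↓reduceIte] at h
    rw [← ht]
    refine Valuation.map_eq_of_sub_lt _ (h.trans_lt ?_)
    rw [ht, exp_lt_exp]; omega
  have hwm : w ∈ ball S m := fun Q hQ => by
    by_cases hQQ : Q = Q₀
    · subst hQQ; exact hwQ.le
    · have h := hw Q hQ
      simp only [if_neg hQQ, sub_zero] at h
      exact h.trans (exp_le_exp.mpr (by omega))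
  have hspan : ∀ v : ball S m ⧸ (ball S m').submoduleOf (ball S m),
      ∃ c : k, c • Submodule.Quotient.mk ⟨w, hwm⟩ = v := by
    intro v
    induction v using Submodule.Quotient.induction_on with
    | H z =>
      have hw0 : w ≠ 0 := fun h0 => exp_ne_zero (by rw [← hwQ, h0, map_zero])
      have hle : Q₀.1 ((z : K) / w) ≤ 1 := by
        rw [map_div₀, hwQ]
        exact div_le_one_of_le₀ (z.2 Q₀ hQ₀) zero_le
      obtain ⟨c, hc⟩ := exists_value hK.1 (deg_eq_one hK.1 Q₀) hle
      refine ⟨c, (Submodule.Quotient.mk_smul _ c _).symm.trans ((Submodule.Quotient.eq _).mpr fun Q hQ => ?_)⟩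
      show Q.1 (c • w - (z : K)) ≤ _
      by_cases hQQ : Q = Q₀
      · subst hQQ
        rw [show c • w - (z : K) = -(((z : K) / w - algebraMap k K c) * w) by
          rw [Algebra.smul_def]; field_simp; ring, Valuation.map_neg, map_mul, hwQ]
        simp only [m', Function.update_self, Nat.cast_add, Nat.cast_one]
        refine (mul_le_mul' (le_exp_neg_one Q hc) le_rfl).trans ?_
        rw [← exp_add, exp_le_exp]; omega
      · simp only [m', Function.update_of_ne hQQ]
        refine (Q.1.map_sub _ _).trans (max_le ?_ (z.2 Q hQ))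
        rw [Algebra.smul_def, map_mul]
        exact (mul_le_of_le_one_left' (Q.2.1 c)).trans (hwm Q hQ)
  have hne : (Submodule.Quotient.mk ⟨w, hwm⟩ : ball S m ⧸ (ball S m').submoduleOf (ball S m)) ≠ 0 := fun h0 => by
    have h : Q₀.1 w ≤ exp (-((m' Q₀ : ℕ) : ℤ)) := (Submodule.Quotient.mk_eq_zero _).mp h0 Q₀ hQ₀
    rw [hwQ, exp_le_exp] at h
    simp only [m', Function.update_self] at h
    omega
  refine ⟨Module.Finite.of_surjective (LinearMap.toSpanSingleton k _ (Submodule.Quotient.mk ⟨w, hwm⟩))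
    fun v => hspan v, finrank_eq_one _ hne hspan⟩

theorem codim_ball [IsAlgClosed k] (hK : IsFunctionField k K) (S : Finset (Place k K)) (m : Place k K → ℕ) :
    FiniteDimensional k (ball S 0 ⧸ (ball S m).submoduleOf (ball S 0)) ∧
      codim (ball S m) (ball S 0) = ∑ Q ∈ S, m Q := by
  classical
  induction hn : ∑ Q ∈ S, m Q using Nat.strong_induction_on generalizing m with
  | _ n ih =>
    by_cases h0 : ∀ Q ∈ S, m Q = 0
    · have e : ball S m = ball S 0 := by ext z; exact forall₂_congr fun Q hQ => by rw [h0 Q hQ, Pi.zero_apply]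
      have hn0 : n = 0 := by rw [← hn, Finset.sum_eq_zero h0]
      rw [e, codim_self, hn0]
      refine ⟨?_, rfl⟩
      have : Subsingleton (ball S (0 : Place k K → ℕ) ⧸ (ball S 0).submoduleOf (ball S 0)) :=
        Submodule.Quotient.subsingleton_iff.mpr (Submodule.submoduleOf_self _)
      infer_instance
    push Not at h0
    obtain ⟨Q₀, hQ₀, hm⟩ := h0
    set m₁ := Function.update m Q₀ (m Q₀ - 1) with hm₁
    have hsum : ∑ Q ∈ S, m₁ Q + 1 = n := by
      rw [← hn, hm₁, Finset.sum_update_of_mem hQ₀, Finset.sdiff_singleton_eq_erase,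
        ← Finset.add_sum_erase _ _ hQ₀]
      omega
    obtain ⟨f1, c1⟩ := ih _ (by omega) m₁ rfl
    have hm' : Function.update m₁ Q₀ (m₁ Q₀ + 1) = m := by
      rw [hm₁, Function.update_self, Function.update_idem, Nat.sub_add_cancel (Nat.one_le_iff_ne_zero.mpr hm),
        Function.update_eq_self]
    obtain ⟨f2, c2⟩ := ball_step hK m₁ hQ₀
    rw [hm'] at f2 c2
    have hle1 : ball S m ≤ ball S m₁ := fun z hz Q hQ => (hz Q hQ).trans (exp_le_exp.mpr (by
      rcases eq_or_ne Q Q₀ with rfl | hne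
      · simp [hm₁]
      · simp [hm₁, hne]))
    have hle2 : ball S m₁ ≤ ball S 0 := fun z hz Q hQ => (hz Q hQ).trans (exp_le_exp.mpr (by simp))
    let f : ((ball S m₁) ⧸ (ball S m).submoduleOf (ball S m₁)) →ₗ[k]
        (ball S 0 ⧸ (ball S m).submoduleOf (ball S 0)) :=
      Submodule.mapQ _ _ (Submodule.inclusion hle2) fun z hz => hz
    let g : (ball S 0 ⧸ (ball S m).submoduleOf (ball S 0)) →ₗ[k]
        (ball S 0 ⧸ (ball S m₁).submoduleOf (ball S 0)) :=
      Submodule.factor fun z hz => hle1 hz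
    have hfin : FiniteDimensional k (ball S 0 ⧸ (ball S m).submoduleOf (ball S 0)) := by
      have hker : FiniteDimensional k (LinearMap.ker g) := by
        refine Module.Finite.of_surjective (f.codRestrict (LinearMap.ker g) fun z => ?_) fun z => ?_
        · induction z using Submodule.Quotient.induction_on with
          | H z => exact (Submodule.Quotient.mk_eq_zero _).mpr z.2
        · obtain ⟨z, hz⟩ := z
          induction z using Submodule.Quotient.induction_on with
          | H z =>
            have hz' : (z : K) ∈ ball S m₁ :=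
              (Submodule.Quotient.mk_eq_zero ((ball S m₁).submoduleOf (ball S 0)) (x := z)).mp (LinearMap.mem_ker.mp hz)
            exact ⟨Submodule.Quotient.mk ⟨z, hz'⟩, rfl⟩
      haveI := hker
      haveI := f1
      haveI : Module.Finite k ((ball S 0 ⧸ (ball S m).submoduleOf (ball S 0)) ⧸ LinearMap.ker g) :=
        Module.Finite.equiv (LinearMap.quotKerEquivOfSurjective g
          (Submodule.factor_surjective
            (show (ball S m).submoduleOf (ball S 0) ≤ (ball S m₁).submoduleOf (ball S 0) from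
              fun z hz => hle1 hz))).symm
      exact Module.Finite.of_submodule_quotient (LinearMap.ker g)
    refine ⟨hfin, ?_⟩
    rw [(codim_add hle1 hle2 hfin).2.2, c1, c2]
    omega

theorem map_mulLeft_ball (S : Finset (Place k K)) {g : K} (hg : g ≠ 0) (m : Place k K → ℕ)
    (hpos : ∀ Q ∈ S, 0 ≤ Q.ord g) :
    (ball S m).map (LinearMap.mulLeft k g) = ball S (fun Q => (Q.ord g).toNat + m Q) := by
  ext z
  constructor
  · rintro ⟨w, hw, rfl⟩ Q hQ
    rw [LinearMap.mulLeft_apply, map_mul, val_eq_exp Q hg]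
    refine (mul_le_mul' le_rfl (hw Q hQ)).trans ?_
    rw [← exp_add, exp_le_exp]
    dsimp only
    have := hpos Q hQ
    omega
  · intro hz
    refine ⟨g⁻¹ * z, fun Q hQ => ?_, by rw [LinearMap.mulLeft_apply, mul_inv_cancel_left₀ hg]⟩
    rw [map_mul, map_inv₀, val_eq_exp Q hg, ← exp_neg, neg_neg]
    refine (mul_le_mul' le_rfl (hz Q hQ)).trans ?_
    rw [← exp_add, exp_le_exp]
    dsimp only
    have := hpos Q hQ
    omega

/-- The places over a finite point. -/
theorem exists_pointPlaces [IsAlgClosed k] (hK : IsFunctionField k K) {x y : K}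
    (hxy : IntermediateField.adjoin k ({x, y} : Set K) = ⊤) (c : Fin 2 → k) :
    ∃ S : Finset (Place k K), ∀ Q : Place k K, Q ∈ S ↔ ∀ i, Q.1 (![x, y] i - algebraMap k K (c i)) < 1 := by
  suffices h : {Q : Place k K | ∀ i, Q.1 (![x, y] i - algebraMap k K (c i)) < 1}.Finite from
    ⟨h.toFinset, fun Q => Set.Finite.mem_toFinset h⟩
  obtain ⟨i, hi⟩ : ∃ i, Transcendental k (![x, y] i) := by
    rcases exists_transcendental_of_adjoin hK hxy with h | h
    · exact ⟨0, h⟩
    · exact ⟨1, h⟩
  refine (finite_zeros hK.1 (x := ![x, y] i - algebraMap k K (c i)) fun h => hi ?_).subset fun Q hQ => hQ i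
  rw [show ![x, y] i = (![x, y] i - algebraMap k K (c i)) + algebraMap k K (c i) by rw [sub_add_cancel]]
  exact h.add (isAlgebraic_algebraMap _)

theorem val_le_one_point {x : Fin 2 → K} {c : Fin 2 → k} {Q : Place k K}
    (hQ : ∀ i, Q.1 (x i - algebraMap k K (c i)) < 1) (i : Fin 2) : Q.1 (x i) ≤ 1 := by
  rw [← sub_add_cancel (x i) (algebraMap k K (c i))]
  exact (Q.1.map_add _ _).trans (max_le (hQ i).le (Q.2.1 _))

theorem sameImage_iff [IsAlgClosed k] {x y : K} {c : Fin 2 → k} {P : Place k K}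
    (hc : ∀ i, P.1 (![x, y] i - algebraMap k K (c i)) < 1) (Q : Place k K) :
    SameImage ![(1 : K), x, y] P Q ↔ ∀ i, Q.1 (![x, y] i - algebraMap k K (c i)) < 1 := by
  have huniq : ∀ (R : Place k K) (z : K) (a b : k), R.1 (z - algebraMap k K a) < 1 → R.1 (z - algebraMap k K b) < 1 → a = b :=
    fun R z a b ha hb => by
      by_contra hne
      have h := (R.1.map_sub _ _).trans_lt (max_lt hb ha)
      rw [sub_sub_sub_cancel_left, ← map_sub, val_algebraMap R (sub_ne_zero.mpr hne)] at h
      exact lt_irrefl _ h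
  have hP1 : ∀ l : Fin 3, P.1 (![(1 : K), x, y] l) ≤ 1 := fun l => by
    fin_cases l
    · simp
    · exact val_le_one_point hc 0
    · exact val_le_one_point hc 1
  constructor
  · rintro ⟨j, hj0, hPj, hQj, hr⟩
    have hPj1 : P.1 (![(1 : K), x, y] j) = 1 := le_antisymm (hP1 j) (by simpa using hPj 0)
    obtain ⟨d, hd1, hd2⟩ := hr 0
    have hd0 : d ≠ 0 := fun h0 => by
      rw [h0, map_zero, sub_zero, map_div₀, hPj1, div_one] at hd1
      simp at hd1
    have hQj1 : Q.1 (![(1 : K), x, y] j) = 1 := by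
      have h := Valuation.map_eq_of_sub_lt Q.1 (x := algebraMap k K d) (y := ![(1 : K), x, y] 0 / ![(1 : K), x, y] j)
        (by rw [val_algebraMap Q hd0]; exact hd2)
      rw [val_algebraMap Q hd0, map_div₀, show ![(1 : K), x, y] 0 = 1 from rfl, map_one, one_div, inv_eq_one] at h
      exact h
    intro i
    obtain ⟨a, ha1, ha2⟩ := hr i.succ
    have key : ∀ R : Place k K, R.1 (![(1 : K), x, y] j) = 1 →
        R.1 (![(1 : K), x, y] i.succ / ![(1 : K), x, y] j - algebraMap k K a) < 1 →
        R.1 (![(1 : K), x, y] 0 / ![(1 : K), x, y] j - algebraMap k K d) < 1 →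
        R.1 (![x, y] i - algebraMap k K (a / d)) < 1 := by
      intro R h1 h2 h3
      set φj := ![(1 : K), x, y] j
      rw [show ![(1 : K), x, y] 0 = 1 from rfl] at h3
      rw [show ![(1 : K), x, y] i.succ = ![x, y] i by fin_cases i <;> rfl] at h2
      have e : (![x, y] i - algebraMap k K (a / d)) = φj * ((![x, y] i / φj - algebraMap k K a) -
          algebraMap k K (a / d) * (1 / φj - algebraMap k K d)) := by
        have hd' : algebraMap k K d ≠ 0 := by simpa using hd0
        rw [map_div₀]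
        field_simp
        ring
      rw [e, map_mul, h1, one_mul]
      refine (R.1.map_sub _ _).trans_lt (max_lt h2 ?_)
      rw [map_mul]
      exact lt_of_le_of_lt (mul_le_of_le_one_left' (R.2.1 _)) h3
    have hci : c i = a / d := huniq P _ _ _ (hc i) (key P hPj1 ha1 hd1)
    rw [hci]
    exact key Q hQj1 ha2 hd2
  · intro hQ
    refine ⟨0, one_ne_zero, fun l => (hP1 l).trans_eq (map_one P.1).symm, fun l => ?_,
      fun l => ⟨![1, c 0, c 1] l, ?_⟩⟩
    · refine le_of_le_of_eq ?_ (map_one Q.1).symm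
      fin_cases l
      · simp
      · exact val_le_one_point hQ 0
      · exact val_le_one_point hQ 1
    · fin_cases l
      · simp
      · simpa using And.intro (hc 0) (hQ 0)
      · simpa using And.intro (hc 1) (hQ 1)

/-- The local ring of the point has finite codimension in its semilocal normalisation. -/
theorem exists_conductor_point [IsAlgClosed k] (hK : IsFunctionField k K) {x y : K}
    (hxy : IntermediateField.adjoin k ({x, y} : Set K) = ⊤) {c : Fin 2 → k}
    {P : Place k K} (hP : ∀ i, P.1 (![x, y] i - algebraMap k K (c i)) < 1) (S : Finset (Place k K))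
    (hS : ∀ Q, Q ∈ S ↔ ∀ i, Q.1 (![x, y] i - algebraMap k K (c i)) < 1) :
    ∃ b : K, b ≠ 0 ∧ (∀ Q ∈ S, 0 ≤ Q.ord b) ∧ ∀ z ∈ ball S 0, b * z ∈ affLoc P ![x, y] := by
  classical
  have hball : ∀ z ∈ ball S 0, P.1 z ≤ 1 := fun z hz => by
    simpa using hz P ((hS P).mpr hP)
  have hxQ : ∀ Q ∈ S, ∀ i, Q.1 (![x, y] i) ≤ 1 := fun Q hQ => val_le_one_point ((hS Q).mp hQ)
  set φ : Fin 3 → K := ![(1 : K), x, y] with hφdef
  by_cases hli : LinearIndependent k φ
  swap
  · -- a line is nonsingular
    refine ⟨1, one_ne_zero, fun Q _ => by simp [Place.ord], fun z hz => ?_⟩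
    rw [one_mul]
    obtain ⟨a, ha, i₁, hi₁⟩ := Fintype.not_linearIndependent_iff.mp hli
    let q : MvPolynomial (Fin 2) k := C (a 0) + C (a 1) * X 0 + C (a 2) * X 1
    have hq : aeval ![x, y] q = 0 := by
      rw [← ha, Fin.sum_univ_three]
      simp [q, φ, Algebra.smul_def]
    have hgrad : ¬ (eval c (pderiv 0 q) = 0 ∧ eval c (pderiv 1 q) = 0) := by
      rintro ⟨h1, h2⟩
      have h1' : a 1 = 0 := by simpa [q, pderiv_X, Pi.single_apply] using h1
      have h2' : a 2 = 0 := by simpa [q, pderiv_X, Pi.single_apply] using h2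
      rw [Fin.sum_univ_three, h1', h2', zero_smul, zero_smul, add_zero, add_zero] at ha
      have h0' : a 0 = 0 := by simpa [φ] using ha
      exact hi₁ (by fin_cases i₁ <;> assumption)
    have htop : IntermediateField.adjoin k (Set.range ![x, y]) = ⊤ := by
      rw [Matrix.range_cons_cons_empty]; exact hxy
    have hker : RingHom.ker (aeval (R := k) ![x, y]) =
        Ideal.span (↑(RingHom.ker (aeval (R := k) ![x, y])) : Set (MvPolynomial (Fin 2) k)) := (Ideal.span_eq _).symm
    refine ((jacobian_criterion P (x := ![x, y]) hP htop hker).mpr (le_antisymm ?_ ?_)) z (hball z hz)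
    · let l : (Fin 2 → k) →ₗ[k] k := ∑ i, eval c (pderiv i q) • LinearMap.proj i
      have hle : tangent (↑(RingHom.ker (aeval (R := k) ![x, y])) : Set (MvPolynomial (Fin 2) k)) c ≤ LinearMap.ker l := by
        intro v hv
        rw [LinearMap.mem_ker]
        simpa [l] using mem_tangent.mp hv q hq
      have hl : l ≠ 0 := fun h0 => hgrad ⟨by simpa [l] using LinearMap.congr_fun h0 (Pi.single 0 1),
        by simpa [l] using LinearMap.congr_fun h0 (Pi.single 1 1)⟩
      have h2 := Submodule.finrank_mono hle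
      have h3 := l.finrank_range_add_finrank_ker
      have h4 : 1 ≤ Module.finrank k (LinearMap.range l) := by
        rw [Submodule.one_le_finrank_iff, Ne, LinearMap.range_eq_bot]; exact hl
      rw [Module.finrank_fin_fun] at h3
      exact le_trans h2 (by omega)
    · refine Submodule.one_le_finrank_iff.mpr fun e => ptIdeal_not_le_sq P hP htop fun i => ?_
      have h := rows_mem_sq P hker hP (w := fun l => if l = i then 1 else 0) (mem_rowSpan _ fun v hv => by
        rw [e, Submodule.mem_bot] at hv; simp [hv])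
      simpa using h
  have hbir : IntermediateField.adjoin k (Set.range fun i => φ i / φ 0) = ⊤ := by
    rw [eq_top_iff, ← hxy]
    refine IntermediateField.adjoin_le_iff.mpr ?_
    rintro _ (rfl | rfl)
    · exact IntermediateField.subset_adjoin _ _ ⟨1, by simp [φ]⟩
    · exact IntermediateField.subset_adjoin _ _ ⟨2, by simp [φ]⟩
  obtain ⟨n₀, e, b, hb0, hbV, hb⟩ := exists_conductor hK (by norm_num : (1 : ℕ) ≤ 2) hli hbir
  set A := Algebra.adjoin k (Set.range ![x, y])
  have hV : ∀ n : ℕ, Submodule.span k (Set.range φ) ^ n ≤ A.toSubmodule := fun n => by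
    induction n with
    | zero => rw [Submodule.pow_zero, Submodule.one_le]; exact one_mem A
    | succ n ih =>
      rw [Submodule.pow_succ, Submodule.mul_le]
      intro u hu v hv
      refine Subalgebra.mul_mem A (ih hu) ?_
      refine (Submodule.span_le (p := A.toSubmodule)).mpr ?_ hv
      rintro _ ⟨l, rfl⟩
      fin_cases l
      · exact one_mem A
      · exact Algebra.subset_adjoin ⟨0, rfl⟩
      · exact Algebra.subset_adjoin ⟨1, rfl⟩
  have hAint : ∀ Q ∈ S, ∀ w ∈ A, Q.1 w ≤ 1 := fun Q hQ w hw => by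
    rw [show A = (aeval (R := k) ![x, y]).range from Algebra.adjoin_range_eq_range_aeval k ![x, y]] at hw
    obtain ⟨p, rfl⟩ := hw
    exact (Adjoint.val_pderiv_mem Q (hxQ Q hQ) ((hS Q).mp hQ) p).1
  refine ⟨b, hb0, fun Q hQ => (val_le_one_iff Q hb0).mp (hAint Q hQ b (hV e hbV)), fun z hz => ?_⟩
  rcases eq_or_ne z 0 with rfl | hz0
  · rw [mul_zero]; exact zero_mem _
  set D := FunFld.mapDiv k φ
  have hle := (isBpfSeries_span hK.1 φ ⟨0, rfl⟩).le
  have hDpos : ∀ R, 0 ≤ D R := fun R => by
    have h := hle (Submodule.subset_span ⟨0, rfl⟩) R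
    rw [show φ 0 = 1 from rfl, map_one, ← exp_zero, exp_le_exp] at h
    exact h
  set T := (FunFld.div k z).support.filter fun R => R ∉ S ∧ R.1 x ≤ 1 ∧ R.1 y ≤ 1 with hT
  have huR : ∀ R ∈ T, ∃ u ∈ A, u ≠ 0 ∧ R.1 u < 1 ∧ P.1 u = 1 := by
    intro R hR
    obtain ⟨-, hRS, hRx, hRy⟩ := Finset.mem_filter.mp hR
    have hR1 : ∀ i, R.1 (![x, y] i) ≤ 1 := fun i => by fin_cases i <;> assumption
    obtain ⟨i, hi⟩ := not_forall.mp ((hS R).not.mp hRS)
    obtain ⟨d, hd⟩ := exists_value hK.1 (deg_eq_one hK.1 R) (hR1 i)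
    have hdc : c i ≠ d := fun h => hi (h ▸ hd)
    have hPu : P.1 (![x, y] i - algebraMap k K d) = 1 := by
      rw [show ![x, y] i - algebraMap k K d = (![x, y] i - algebraMap k K (c i)) + algebraMap k K (c i - d) by
        rw [map_sub]; ring, Valuation.map_add_eq_of_lt_right _ (by
          rw [val_algebraMap P (sub_ne_zero.mpr hdc)]; exact hP i), val_algebraMap P (sub_ne_zero.mpr hdc)]
    exact ⟨_, sub_mem (Algebra.subset_adjoin ⟨i, rfl⟩) (Subalgebra.algebraMap_mem _ _),
      fun h0 => by rw [h0, map_zero] at hPu; exact zero_ne_one hPu, hd, hPu⟩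
  choose! u huA hu0 huR huP using huR
  set N : ℕ := ∑ R ∈ T, (-R.ord z).toNat
  set U : K := (∏ R ∈ T, u R) ^ N
  have hUA : U ∈ A := pow_mem (prod_mem fun R hR => huA R hR) N
  have hUP : P.1 U = 1 := by rw [map_pow, map_prod, Finset.prod_eq_one huP, one_pow]
  have hU0 : U ≠ 0 := pow_ne_zero _ (Finset.prod_ne_zero_iff.mpr fun R hR => hu0 R hR)
  have hzU0 : z * U ≠ 0 := mul_ne_zero hz0 hU0
  have hfinite : ∀ R : Place k K, R.1 x ≤ 1 → R.1 y ≤ 1 → 0 ≤ R.ord (z * U) := by
    intro R hRx hRy
    have hR1 : ∀ i, R.1 (![x, y] i) ≤ 1 := fun i => by fin_cases i <;> assumption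
    have hU1 : ∀ w ∈ A, R.1 w ≤ 1 := fun w hw => by
      induction hw using Algebra.adjoin_induction with
      | mem w hw => obtain ⟨i, rfl⟩ := hw; exact hR1 i
      | algebraMap r => exact R.2.1 r
      | add a b _ _ ha hb => exact (R.1.map_add _ _).trans (max_le ha hb)
      | mul a b _ _ ha hb => rw [map_mul]; exact mul_le_one' ha hb
    rw [ord_mul R hz0 hU0]
    have hU : 0 ≤ R.ord U := (val_le_one_iff R hU0).mp (hU1 U hUA)
    by_cases hRz : 0 ≤ R.ord z
    · omega
    have hRS : R ∉ S := fun h => hRz ((val_le_one_iff R hz0).mp (by simpa using hz R h))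
    have hRT : R ∈ T := Finset.mem_filter.mpr ⟨Finsupp.mem_support_iff.mpr (by
      rw [div_apply hK.1]; omega), hRS, hRx, hRy⟩
    have hv : R.1 U ≤ exp (-(N : ℤ)) := by
      rw [map_pow, show -(N : ℤ) = N • (-1 : ℤ) by simp, exp_nsmul]
      refine pow_le_pow_left₀ zero_le ?_ N
      rw [← Finset.mul_prod_erase _ _ hRT, map_mul]
      exact (mul_le_of_le_one_right' (hU1 _ (prod_mem fun l hl => huA l (Finset.mem_of_mem_erase hl)))).trans
        (le_exp_neg_one R (huR R hRT))
    rw [val_le_exp_iff R hU0] at hv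
    have hN : (-R.ord z).toNat ≤ N := Finset.single_le_sum (f := fun l => (-l.ord z).toNat) (fun _ _ => Nat.zero_le _) hRT
    omega
  set q : ℕ := ∑ R ∈ (FunFld.div k (z * U)).support, (-R.ord (z * U)).toNat
  have hmem : z * U ∈ L ((n₀ + q : ℕ) • D) := by
    rw [mem_L_iff_ord hzU0]
    intro R
    rw [Finsupp.smul_apply, nsmul_eq_mul]
    have hDR := hDpos R
    by_cases hfinR : R.1 x ≤ 1 ∧ R.1 y ≤ 1
    · have := hfinite R hfinR.1 hfinR.2
      have h2 : (0 : ℤ) ≤ ((n₀ + q : ℕ) : ℤ) * D R := by positivity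
      omega
    · have hD1 : 1 ≤ D R := by
        by_contra hlt
        have h0 : D R = 0 := by omega
        refine hfinR ⟨?_, ?_⟩
        · have h := hle (Submodule.subset_span ⟨1, rfl⟩) R; rw [h0, exp_zero] at h; exact h
        · have h := hle (Submodule.subset_span ⟨2, rfl⟩) R; rw [h0, exp_zero] at h; exact h
      have hq : -R.ord (z * U) ≤ (q : ℤ) := by
        by_cases hsupp : R ∈ (FunFld.div k (z * U)).support
        · have h := Finset.single_le_sum (f := fun l : Place k K => (-l.ord (z * U)).toNat) (fun _ _ => Nat.zero_le _) hsupp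
          have h' : (-R.ord (z * U)).toNat ≤ q := h
          omega
        · rw [Finsupp.notMem_support_iff, div_apply hK.1] at hsupp
          omega
      have h2 : ((n₀ + q : ℕ) : ℤ) * 1 ≤ ((n₀ + q : ℕ) : ℤ) * D R := mul_le_mul_of_nonneg_left hD1 (by positivity)
      push_cast at h2 ⊢
      omega
  refine ⟨U, hUA, hUP, ?_⟩
  rw [show b * z * U = z * U * b by ring]
  exact hV _ (hb q _ hmem)

/-- The intersection multiplicity is a codimension in the local ring. -/
theorem sum_ord_eq_finrank [IsAlgClosed k] (hK : IsFunctionField k K) {x y : K}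
    (hxy : IntermediateField.adjoin k ({x, y} : Set K) = ⊤) {f g : MvPolynomial (Fin 2) k}
    (hf : Irreducible f) (hfxy : aeval ![x, y] f = 0) (hgxy : aeval ![x, y] g ≠ 0) {c : Fin 2 → k}
    {P : Place k K} (hP : ∀ i, P.1 (![x, y] i - algebraMap k K (c i)) < 1) (S : Finset (Place k K))
    (hS : ∀ Q, Q ∈ S ↔ ∀ i, Q.1 (![x, y] i - algebraMap k K (c i)) < 1)
    (M : Ideal (MvPolynomial (Fin 2) k)) [M.IsMaximal]
    (hM : M = Ideal.span {X 0 - C (c 0), X 1 - C (c 1)}) :
    ∑ Q ∈ S, Q.ord (aeval ![x, y] g) =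
      (Module.finrank k (Localization.AtPrime M ⧸
        Ideal.map (algebraMap (MvPolynomial (Fin 2) k) (Localization.AtPrime M)) (Ideal.span {f, g})) : ℤ) := by
  classical
  set G := aeval ![x, y] g
  have hxQ : ∀ Q ∈ S, ∀ i, Q.1 (![x, y] i) ≤ 1 := fun Q hQ => val_le_one_point ((hS Q).mp hQ)
  have hGpos : ∀ Q ∈ S, 0 ≤ Q.ord G := fun Q hQ =>
    (val_le_one_iff Q hgxy).mp (Adjoint.val_pderiv_mem Q (hxQ Q hQ) ((hS Q).mp hQ) g).1
  obtain ⟨b, hb0, hbpos, hb⟩ := exists_conductor_point hK hxy hP S hS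
  set O := (affLoc P ![x, y]).toSubmodule
  set B := ball S (0 : Place k K → ℕ)
  have hAeval : ∀ w ∈ Algebra.adjoin k (Set.range ![x, y]), ∃ p, aeval ![x, y] p = w := fun w hw => by
    rw [Algebra.adjoin_range_eq_range_aeval] at hw; exact hw
  have hunit : ∀ {p : MvPolynomial (Fin 2) k}, P.1 (aeval ![x, y] p) = 1 → eval c p ≠ 0 := by
    intro p hp h0
    have h := (Adjoint.val_pderiv_mem P (hxQ P ((hS P).mpr hP)) hP p).2
    rw [h0, map_zero, sub_zero, hp] at h
    exact lt_irrefl _ h
  have hOB : O ≤ B := by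
    rintro z ⟨w, hw, hw1, hzw⟩ Q hQ
    obtain ⟨p, rfl⟩ := hAeval w hw
    obtain ⟨r, hr⟩ := hAeval _ hzw
    have h1 : Q.1 (aeval ![x, y] p) = 1 := Adjoint.val_aeval_eq_one Q (hxQ Q hQ) ((hS Q).mp hQ) (hunit hw1)
    have h2 : Q.1 (z * aeval ![x, y] p) ≤ 1 := hr ▸ (Adjoint.val_pderiv_mem Q (hxQ Q hQ) ((hS Q).mp hQ) r).1
    rw [map_mul, h1, mul_one] at h2
    simpa using h2
  have hbB : B.map (LinearMap.mulLeft k b) ≤ O := by rintro _ ⟨z, hz, rfl⟩; exact hb z hz
  set μ := LinearMap.mulLeft k G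
  set W := (B.map (LinearMap.mulLeft k b)).map μ
  have hWeq : W = ball S (fun Q => (Q.ord G).toNat + (Q.ord b).toNat) := by
    show ((ball S 0).map _).map _ = _
    rw [map_mulLeft_ball S hb0 0 hbpos, map_mulLeft_ball S hgxy _ hGpos]
    congr 1
  have hfinW : FiniteDimensional k (B ⧸ W.submoduleOf B) := by rw [hWeq]; exact (codim_ball hK S _).1
  have hG_mem : G ∈ affLoc P ![x, y] := by
    refine adjoin_le_affLoc P _ ?_
    rw [Algebra.adjoin_range_eq_range_aeval]; exact ⟨g, rfl⟩
  have hgO : O.map μ ≤ O := by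
    rintro _ ⟨z, hz, rfl⟩
    exact Subalgebra.mul_mem _ hG_mem hz
  have h1 : W ≤ O.map μ := Submodule.map_mono hbB
  have h2 : O.map μ ≤ B.map μ := Submodule.map_mono hOB
  have h3 : B.map μ ≤ B := by
    show (ball S 0).map _ ≤ _
    rw [map_mulLeft_ball S hgxy 0 hGpos]
    exact fun z hz Q hQ => (hz Q hQ).trans (exp_le_exp.mpr (by simp))
  have hfB : FiniteDimensional k (B ⧸ (O.map μ).submoduleOf B) := (codim_add h1 (h2.trans h3) hfinW).2.1
  have ea := (codim_add hgO hOB hfB).2.2
  have eb := (codim_add h2 h3 hfB).2.2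
  rw [codim_smul hgxy O B] at eb
  have hcount : codim (B.map μ) B = ∑ Q ∈ S, (Q.ord G).toNat := by
    show codim ((ball S 0).map _) _ = _
    rw [map_mulLeft_ball S hgxy 0 hGpos, (codim_ball hK S _).2]
    simp
  -- the local ring of the plane
  have hMeval : ∀ p, p ∉ M → eval c p ≠ 0 := by
    intro p hp h0
    refine hp ?_
    have hker : M = RingHom.ker (eval c) := by
      refine (‹M.IsMaximal›.eq_of_le (RingHom.ker_ne_top _) ?_)
      rw [hM, Ideal.span_le]
      rintro q (rfl | rfl) <;> simp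
    rw [hker]; exact h0
  let ev : Localization.AtPrime M →ₐ[k] K :=
    IsLocalization.liftAlgHom (M := M.primeCompl) (f := aeval (R := k) ![x, y]) fun s => by
      rw [isUnit_iff_ne_zero]
      intro h0
      have h := Adjoint.val_aeval_eq_one P (hxQ P ((hS P).mpr hP)) hP (hMeval s.1 s.2)
      rw [h0, map_zero] at h
      exact zero_ne_one h
  have hev : ∀ p, ev (algebraMap (MvPolynomial (Fin 2) k) _ p) = aeval ![x, y] p := fun p => IsLocalization.lift_eq _ p
  set A := Localization.AtPrime M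
  set ι := algebraMap (MvPolynomial (Fin 2) k) A
  have hev2 : ∀ (p : MvPolynomial (Fin 2) k) (s : M.primeCompl),
      ev (IsLocalization.mk' A p s) * aeval ![x, y] (s : MvPolynomial (Fin 2) k) = aeval ![x, y] p := fun p s => by
    rw [← hev s, ← map_mul, IsLocalization.mk'_spec, hev]
  have hrange : ∀ a : A, ev a ∈ O := by
    intro a
    obtain ⟨⟨p, s⟩, rfl⟩ := IsLocalization.exists_mk'_eq M.primeCompl a |>.elim fun p hp => hp.elim fun s hs =>
      (⟨(p, s), hs⟩ : ∃ ps : MvPolynomial (Fin 2) k × M.primeCompl, IsLocalization.mk' A ps.1 ps.2 = a)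
    refine ⟨aeval ![x, y] (s : MvPolynomial (Fin 2) k), ?_,
      Adjoint.val_aeval_eq_one P (hxQ P ((hS P).mpr hP)) hP (hMeval s.1 s.2), ?_⟩
    · rw [Algebra.adjoin_range_eq_range_aeval]; exact ⟨_, rfl⟩
    · rw [hev2, Algebra.adjoin_range_eq_range_aeval]; exact ⟨p, rfl⟩
  have hsurj : ∀ z ∈ O, ∃ a : A, ev a = z := by
    rintro z ⟨w, hw, hw1, hzw⟩
    obtain ⟨s, rfl⟩ := hAeval w hw
    obtain ⟨p, hp⟩ := hAeval _ hzw
    have hs : s ∈ M.primeCompl := fun hsM => hunit hw1 (by
      rw [hM] at hsM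
      exact Ideal.span_le.mpr (show ({X 0 - C (c 0), X 1 - C (c 1)} : Set (MvPolynomial (Fin 2) k)) ⊆
        RingHom.ker (eval c) by rintro q (rfl | rfl) <;> simp) hsM)
    refine ⟨IsLocalization.mk' A p ⟨s, hs⟩, mul_right_cancel₀ (b := aeval ![x, y] s) (fun h0 => ?_) ?_⟩
    · rw [h0, map_zero] at hw1; exact zero_ne_one hw1
    · rw [hev2 p ⟨s, hs⟩, hp]
  let ψ : A →ₗ[k] O ⧸ (O.map μ).submoduleOf O :=
    (Submodule.mkQ _).comp (ev.toLinearMap.codRestrict O hrange)
  have hψ : Function.Surjective ψ := by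
    intro v
    induction v using Submodule.Quotient.induction_on with
    | H z =>
      obtain ⟨a, ha⟩ := hsurj z z.2
      exact ⟨a, congrArg Submodule.Quotient.mk (Subtype.ext ha)⟩
  set I := Ideal.map ι (Ideal.span {f, g}) with hI
  have hfI : ι f ∈ I := Ideal.mem_map_of_mem _ (Ideal.subset_span (Set.mem_insert _ _))
  have hgI : ι g ∈ I := Ideal.mem_map_of_mem _ (Ideal.subset_span (Set.mem_insert_of_mem _ rfl))
  have hker : LinearMap.ker ψ = I.restrictScalars k := by
    ext a
    rw [LinearMap.mem_ker, Submodule.restrictScalars_mem]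
    constructor
    · intro ha
      obtain ⟨z, hz, hza⟩ := (Submodule.Quotient.mk_eq_zero _).mp ha
      obtain ⟨a', rfl⟩ := hsurj z hz
      have h0 : ev (a - ι g * a') = 0 := by
        rw [map_sub, map_mul, hev, sub_eq_zero]; exact hza.symm
      obtain ⟨p, hp⟩ := IsLocalization.exists_mk'_eq M.primeCompl (a - ι g * a')
      obtain ⟨s, hs⟩ := hp
      have hp0 : aeval ![x, y] p = 0 := by rw [← hev2 p s, hs, h0, zero_mul]
      have hpf : p ∈ Ideal.span {f} := by rw [← ker_eq_span hK hxy hf hfxy]; exact hp0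
      obtain ⟨r, rfl⟩ := Ideal.mem_span_singleton.mp hpf
      have hmem : a - ι g * a' ∈ I := by
        rw [← hs, IsLocalization.mk'_eq_mul_mk'_one, map_mul]
        exact Ideal.mul_mem_right _ _ (Ideal.mul_mem_right _ _ hfI)
      simpa using add_mem hmem (Ideal.mul_mem_right a' _ hgI)
    · intro ha
      refine (Submodule.Quotient.mk_eq_zero _).mpr ?_
      rw [hI, Ideal.map_span, Set.image_pair, Ideal.mem_span_pair] at ha
      obtain ⟨u, v, rfl⟩ := ha
      refine ⟨ev v, hrange v, ?_⟩
      show G * ev v = ev (u * ι f + v * ι g)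
      rw [map_add, map_mul, map_mul, hev, hev, hfxy, mul_zero, zero_add, mul_comm]
  have hdim : Module.finrank k (A ⧸ I) = codim (O.map μ) O := by
    rw [codim, ← (LinearMap.quotKerEquivOfSurjective ψ hψ).finrank_eq, hker]
    exact (Submodule.Quotient.restrictScalarsEquiv k I).finrank_eq.symm
  rw [hdim, show (∑ Q ∈ S, Q.ord G) = ((∑ Q ∈ S, (Q.ord G).toNat : ℕ) : ℤ) by
    push_cast; exact Finset.sum_congr rfl fun Q hQ => (Int.toNat_of_nonneg (hGpos Q hQ)).symm, ← hcount]
  omega

end Groth.Agent.FFLib.IntMult
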