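import Groth.Agent.FFLib.Degree

/-! The spaces `L(D)`, `A(D)` and their jumps. -/

namespace Groth.Agent.FFLib

open FunFld IntermediateField WithZero

variable {k K : Type*} [Field k] [Field K] [Algebra k K]

/-- Elements with `ord_P ≥ -n`. -/
def ball (P : Place k K) (n : ℤ) : Submodule k K where
  carrier := {y | P.1 y ≤ exp n}
  add_mem' {x y} hx hy := (P.1.map_add x y).trans (max_le hx hy)
  zero_mem' := by simp
  smul_mem' c x hx := by
    show P.1 (c • x) ≤ exp n
    rw [Algebra.smul_def, map_mul]; exact (mul_le_mul' (P.2.1 c) hx).trans_eq (one_mul _)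

theorem lt_exp_iff_le_exp_pred (P : Place k K) (y : K) (n : ℤ) :
    P.1 y < exp n ↔ P.1 y ≤ exp (n - 1) := by
  rcases eq_or_ne y 0 with rfl | hy
  · simp
  · rw [val_eq_exp P hy, exp_lt_exp, exp_le_exp]; omega

theorem val_mul_le_one {P : Place k K} {n : ℤ} {t : K} (ht : P.1 t = exp (-n)) {y : K}
    (hy : P.1 y ≤ exp n) : P.1 (y * t) ≤ 1 := by
  rw [map_mul, ht]
  refine (mul_le_mul_left hy _).trans_eq ?_
  rw [← exp_add, add_neg_cancel, exp_zero]

/-- `y ↦` residue of `y * t`. -/
noncomputable def lead (P : Place k K) (n : ℤ) (t : K) (ht : P.1 t = exp (-n)) :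
    ball P n →ₗ[k] Res P where
  toFun y := IsLocalRing.residue P.O ⟨y.1 * t, val_mul_le_one ht y.2⟩
  map_add' y y' := by
    rw [← map_add]; congr 1; exact Subtype.ext (add_mul _ _ _)
  map_smul' c y := by
    refine Eq.trans ?_ (residue_smul P c _).symm
    congr 1
    apply Subtype.ext
    show (c • y.1) * t = _
    rw [Algebra.smul_def, MulMemClass.coe_mul, coe_algebraMap_O, mul_assoc]

theorem lead_eq_zero (P : Place k K) (n : ℤ) {t : K} (ht : P.1 t = exp (-n)) (y : ball P n) :
    lead P n t ht y = 0 ↔ P.1 y.1 ≤ exp (n - 1) := by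
  refine (residue_eq_zero P _).trans ?_
  rw [← lt_exp_iff_le_exp_pred]
  show P.1 (y.1 * t) < 1 ↔ _
  rw [map_mul, ht, exp_neg, ← div_eq_mul_inv, div_lt_one₀ (zero_lt_iff.mpr exp_ne_zero)]

theorem lead_surjective (P : Place k K) (n : ℤ) {t : K} (ht : P.1 t = exp (-n)) :
    Function.Surjective (lead P n t ht) := by
  intro r
  obtain ⟨r, rfl⟩ := IsLocalRing.residue_surjective r
  have ht0 : t ≠ 0 := fun h => exp_ne_zero (ht.symm.trans (by simp [h]))
  refine ⟨⟨r.1 * t⁻¹, ?_⟩, ?_⟩
  · show P.1 (r.1 * t⁻¹) ≤ exp n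
    rw [map_mul, map_inv₀, ht, ← exp_neg, neg_neg]
    exact mul_le_of_le_one_left' r.2
  · show IsLocalRing.residue P.O ⟨_, _⟩ = _
    congr 1
    exact Subtype.ext (by field_simp)

theorem relDim_pullback (hF : IsFF k K) {V : Type*} [AddCommGroup V] [Module k V]
    {A B : Submodule k V} (f : V →ₗ[k] K) (P : Place k K) (n : ℤ) (hAB : A ≤ B)
    (hB : ∀ v ∈ B, P.1 (f v) ≤ exp n) (hA : ∀ v ∈ B, v ∈ A ↔ P.1 (f v) ≤ exp (n - 1)) :
    ∃ m : ℕ, m ≤ P.deg ∧ RelDim A B m ∧ ((∀ y : K, P.1 y ≤ exp n → ∃ v ∈ B, f v = y) → m = P.deg) := by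
  obtain ⟨t, ht0, ht⟩ := exists_val_eq_exp P (-n)
  have := residue_finite hF P
  let fB : B →ₗ[k] ball P n := (f.domRestrict B).codRestrict _ fun v => hB v.1 v.2
  let g : B →ₗ[k] Res P := (lead P n t ht).comp fB
  refine ⟨_, Submodule.finrank_le (LinearMap.range g), relDim_of_ker hAB g ?_, fun hsurj => ?_⟩
  · ext v
    rw [LinearMap.mem_ker, Submodule.submoduleOf, Submodule.mem_comap]
    exact (lead_eq_zero P n ht _).trans (hA v.1 v.2).symm
  · have : LinearMap.range g = ⊤ := by
      refine LinearMap.range_eq_top.mpr fun r => ?_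
      obtain ⟨y, rfl⟩ := lead_surjective P n ht r
      obtain ⟨v, hv, hvy⟩ := hsurj y.1 y.2
      exact ⟨⟨v, hv⟩, congrArg (lead P n t ht) (Subtype.ext hvy)⟩
    rw [this, finrank_top]
    rfl

/-! ### Divisors -/

@[simp] theorem Divisor.deg_zero : Divisor.deg (0 : Divisor k K) = 0 := by simp [Divisor.deg]

theorem Divisor.deg_add (D E : Divisor k K) : (D + E).deg = D.deg + E.deg :=
  Finsupp.sum_add_index' (fun _ => by simp) fun _ _ _ => by ring

@[simp] theorem Divisor.deg_single (P : Place k K) (n : ℤ) :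
    Divisor.deg (Finsupp.single P n) = n * P.deg := by simp [Divisor.deg]

@[simp] theorem Divisor.deg_neg (D : Divisor k K) : (-D).deg = -D.deg := by
  have := Divisor.deg_add D (-D); simp at this; omega

theorem Divisor.deg_sub (D E : Divisor k K) : (D - E).deg = D.deg - E.deg := by
  rw [sub_eq_add_neg, Divisor.deg_add, Divisor.deg_neg]; ring

theorem Divisor.deg_nonneg {E : Divisor k K} (h : 0 ≤ E) : 0 ≤ E.deg :=
  Finset.sum_nonneg fun P _ => mul_nonneg (h P) (Int.natCast_nonneg _)

theorem Divisor.deg_mono {D E : Divisor k K} (h : D ≤ E) : D.deg ≤ E.deg := by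
  have := Divisor.deg_nonneg (sub_nonneg.mpr h); rw [Divisor.deg_sub] at this; omega

theorem effective_induction {motive : Divisor k K → Prop} (h0 : motive 0)
    (hadd : ∀ E P, 0 ≤ E → motive E → motive (E + Finsupp.single P 1)) :
    ∀ E : Divisor k K, 0 ≤ E → motive E := by
  classical
  have key : ∀ E : Place k K →₀ ℕ, motive (E.mapRange (fun n : ℕ => (n : ℤ)) rfl) := by
    intro E
    induction E using Finsupp.induction with
    | zero => simpa using h0
    | single_add a b f _ hb ih =>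
      clear hb
      induction b with
      | zero => simpa using ih
      | succ b ihb =>
        convert hadd _ a (fun P => by simp; positivity) ihb using 1
        ext P
        by_cases h : a = P <;> simp [h]
        ring
  intro E hE
  convert key (E.mapRange Int.toNat rfl) using 1
  ext P
  simpa using (hE P)

theorem effective_induction' {motive : (E : Divisor k K) → 0 ≤ E → Prop} (h0 : motive 0 le_rfl)
    (hadd : ∀ E P (hE : 0 ≤ E), motive E hE →
      motive (E + Finsupp.single P 1) (add_nonneg hE (Finsupp.single_nonneg.mpr zero_le_one))) :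
    ∀ (E : Divisor k K) (hE : 0 ≤ E), motive E hE := by
  intro E hE
  exact (effective_induction (motive := fun E => ∃ h, motive E h) ⟨le_rfl, h0⟩
    (fun E P hE ⟨_, h⟩ => ⟨_, hadd E P hE h⟩) E hE).elim fun _ h => h

theorem div_eq (hF : IsFF k K) {x : K} (D : Divisor k K) (P : Place k K) :
    (D + FunFld.div k x) P = D P + P.ord x := by
  rw [Finsupp.add_apply, div_apply hF]

/-! ### `A(D)` and `L(D)` -/

theorem mem_L {D : Divisor k K} {x : K} : x ∈ L D ↔ ∀ P : Place k K, P.1 x ≤ exp (D P) := Iff.rfl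

theorem mem_L_iff_ord {D : Divisor k K} {x : K} (hx : x ≠ 0) :
    x ∈ L D ↔ ∀ P : Place k K, -D P ≤ P.ord x :=
  forall_congr' fun P => val_le_exp_iff P hx (D P)

theorem mem_AD {D : Divisor k K} {a : Place k K → K} :
    a ∈ AD D ↔ ∀ P : Place k K, P.1 (a P) ≤ exp (D P) := Iff.rfl

theorem L_mono {D E : Divisor k K} (h : D ≤ E) : L D ≤ L E :=
  fun _ hx P => (hx P).trans (exp_le_exp.mpr (h P))

theorem AD_mono {D E : Divisor k K} (h : D ≤ E) : AD D ≤ AD E :=
  fun _ hx P => (hx P).trans (exp_le_exp.mpr (h P))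

theorem le_add_single (D : Divisor k K) (P : Place k K) : D ≤ D + Finsupp.single P 1 :=
  le_add_of_nonneg_right (Finsupp.single_nonneg.mpr zero_le_one)

theorem relDim_AD (hF : IsFF k K) {D E : Divisor k K} (h : D ≤ E) :
    ∃ m : ℕ, (m : ℤ) = E.deg - D.deg ∧ RelDim (AD D) (AD E) m := by
  classical
  obtain ⟨E, hE, rfl⟩ : ∃ F, 0 ≤ F ∧ E = D + F := ⟨E - D, sub_nonneg.mpr h, by abel⟩
  clear h
  induction E, hE using effective_induction' with
  | h0 => exact ⟨0, by simp, by rw [add_zero]; exact relDim_refl _⟩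
  | hadd E P hE ih =>
    obtain ⟨m, hm, hrel⟩ := ih
    obtain ⟨m', -, hrel', heq⟩ := relDim_pullback hF (LinearMap.proj P) P ((D + E) P + 1)
      (AD_mono (le_add_single (D + E) P))
      (fun a ha => by simpa using ha P)
      (fun a ha => by
        refine ⟨fun h => by simpa using h P, fun h Q => ?_⟩
        by_cases hQ : Q = P
        · subst hQ; simpa using h
        · simpa [hQ] using ha Q)
    rw [← add_assoc]
    refine ⟨m + m', ?_, hrel.trans hrel'⟩
    rw [heq fun y hy => ⟨Pi.single P y, fun Q => ?_, by simp⟩]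
    · simp only [Divisor.deg_add, Divisor.deg_single] at hm ⊢; push_cast; linarith
    · by_cases hQ : Q = P
      · subst hQ; simpa using hy
      · simp [hQ]

theorem relDim_L (hF : IsFF k K) {D E : Divisor k K} (h : D ≤ E) :
    ∃ m : ℕ, (m : ℤ) ≤ E.deg - D.deg ∧ RelDim (L D) (L E) m := by
  classical
  obtain ⟨E, hE, rfl⟩ : ∃ F, 0 ≤ F ∧ E = D + F := ⟨E - D, sub_nonneg.mpr h, by abel⟩
  clear h
  induction E, hE using effective_induction' with
  | h0 => exact ⟨0, by simp, by rw [add_zero]; exact relDim_refl _⟩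
  | hadd E P hE ih =>
    obtain ⟨m, hm, hrel⟩ := ih
    obtain ⟨m', hm', hrel', -⟩ := relDim_pullback hF LinearMap.id P ((D + E) P + 1)
      (L_mono (le_add_single (D + E) P))
      (fun a ha => by simpa using ha P)
      (fun a ha => by
        refine ⟨fun h => by simpa using h P, fun h Q => ?_⟩
        by_cases hQ : Q = P
        · subst hQ; simpa using h
        · simpa [hQ] using ha Q)
    rw [← add_assoc]
    refine ⟨m + m', ?_, hrel.trans hrel'⟩
    simp only [Divisor.deg_add, Divisor.deg_single] at hm ⊢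
    push_cast
    linarith [Int.ofNat_le.mpr hm']

theorem exists_place (hF : IsFF k K) : Nonempty (Place k K) :=
  let ⟨_, hx, _⟩ := hF
  let ⟨P, _⟩ := exists_place_zero hF hx
  ⟨P⟩

theorem L_zero_le_algebraic (hF : IsFF k K) {x : K} (hx : x ∈ L (0 : Divisor k K)) :
    IsAlgebraic k x := by
  by_contra h
  obtain ⟨P, hP⟩ := exists_place_pole hF h
  exact hP.not_ge (by simpa using hx P)

theorem L_zero_finite (hF : IsFF k K) : FiniteDimensional k (L (0 : Divisor k K)) := by
  obtain ⟨P⟩ := exists_place hF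
  obtain ⟨m, -, h, -⟩ := relDim_pullback hF (A := ⊥) (B := L (0 : Divisor k K)) LinearMap.id P 0
    bot_le (fun x hx => by simpa using hx P)
    (fun x hx => by
      simp only [Submodule.mem_bot, LinearMap.id_coe, id_eq]
      refine ⟨fun h => by simp [h], fun h => ?_⟩
      by_contra hx0
      rw [← lt_exp_iff_le_exp_pred, exp_zero] at h
      exact transcendental_of_val_ne_one P hx0 h.ne (L_zero_le_algebraic hF hx))
  exact (relDim_bot_iff.mp h).1

theorem finite_of_relDim {V : Type*} [AddCommGroup V] [Module k V] {A B : Submodule k V} {n : ℕ}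
    [FiniteDimensional k A] (h : RelDim A B n) :
    FiniteDimensional k B ∧ Module.finrank k B = Module.finrank k A + n :=
  relDim_bot_iff.mp ((relDim_bot_iff.mpr ⟨‹_›, rfl⟩).trans h)

theorem L_finite (hF : IsFF k K) (D : Divisor k K) : FiniteDimensional k (L D) := by
  classical
  let E : Divisor k K := D.mapRange (max · 0) (max_self 0)
  have hDE : D ≤ E := fun P => by simp [E]
  have := L_zero_finite hF
  obtain ⟨m, -, h⟩ := relDim_L hF (D := 0) (E := E) (fun P => by simp [E])
  have := (finite_of_relDim h).1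
  exact Submodule.finiteDimensional_of_le (L_mono hDE)

theorem ell_le_of_le (hF : IsFF k K) {D E : Divisor k K} (h : D ≤ E) :
    ell D ≤ ell E ∧ (ell E : ℤ) ≤ ell D + (E.deg - D.deg) := by
  obtain ⟨m, hm, hrel⟩ := relDim_L hF h
  have := L_finite hF D
  have h2 : ell E = ell D + m := (finite_of_relDim hrel).2
  omega

theorem ell_zero_pos (hF : IsFF k K) : 0 < ell (0 : Divisor k K) := by
  have := L_zero_finite hF
  have : Nontrivial (L (0 : Divisor k K)) :=
    ⟨⟨1, fun P => by simp⟩, 0, fun h => one_ne_zero (Subtype.ext_iff.mp h)⟩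
  exact Module.finrank_pos

theorem L_zero_eq (hK : IsFunctionField k K) :
    L (0 : Divisor k K) = LinearMap.range (Algebra.linearMap k K) := by
  ext x
  refine ⟨fun h => hK.2 x (L_zero_le_algebraic hK.1 h), ?_⟩
  rintro ⟨c, rfl⟩ P
  simpa using P.2.1 c

theorem ell_zero (hK : IsFunctionField k K) : ell (0 : Divisor k K) = 1 := by
  rw [ell, L_zero_eq hK, LinearMap.finrank_range_of_inj (algebraMap k K).injective]
  exact Module.finrank_self k

/-- Multiplication by `x` identifies `L(D + div x)` with `L(D)`. -/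
theorem mul_mem_L_iff (hF : IsFF k K) {D : Divisor k K} {x : K} (hx : x ≠ 0) (y : K) :
    x * y ∈ L D ↔ y ∈ L (D + FunFld.div k x) := by
  refine forall_congr' fun P => ?_
  rw [div_eq hF, map_mul, val_eq_exp P hx, exp_add, exp_neg,
    inv_mul_le_iff₀ (zero_lt_iff.mpr exp_ne_zero), mul_comm]

noncomputable def equivLAddDiv (hF : IsFF k K) (D : Divisor k K) {x : K} (hx : x ≠ 0) :
    L (D + FunFld.div k x) ≃ₗ[k] L D where
  toFun y := ⟨x * y.1, (mul_mem_L_iff hF hx _).mpr y.2⟩
  invFun y := ⟨x⁻¹ * y.1, (mul_mem_L_iff hF hx _).mp (by rw [mul_inv_cancel_left₀ hx]; exact y.2)⟩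
  map_add' a b := Subtype.ext (mul_add _ _ _)
  map_smul' c a := Subtype.ext (mul_smul_comm _ _ _)
  left_inv a := Subtype.ext (inv_mul_cancel_left₀ hx _)
  right_inv a := Subtype.ext (mul_inv_cancel_left₀ hx _)

theorem ell_add_div (hF : IsFF k K) (D : Divisor k K) {x : K} (hx : x ≠ 0) :
    ell (D + FunFld.div k x) = ell D :=
  (equivLAddDiv hF D hx).finrank_eq

end Groth.Agent.FFLib
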