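import Groth.Agent.FFLib.PlaneGenus

/-! The divisor of a map under extensions of function fields. -/

namespace Groth.Agent.FFLib

open FunFld IntermediateField

variable {k K K' : Type*} [Field k] [Field K] [Algebra k K] [Field K'] [Algebra k K'] [Algebra K K']
  [IsScalarTower k K K']

/-- Pullback of the divisor of a map is the conorm. -/
theorem mapDiv_algebraMap (hF : IsFF k K) [FiniteDimensional K K'] {ι : Type*} [Fintype ι]
    [Nonempty ι] (φ : ι → K) :
    FunFld.mapDiv k (fun i => algebraMap K K' (φ i)) = conorm K' (FunFld.mapDiv k φ) := by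
  ext Q
  obtain ⟨P, e, -, he⟩ := exists_over hF Q
  rw [mapDiv_apply hF.ext, conorm_apply hF _ he, mapDiv_apply hF, mul_neg, neg_inj]
  simp only [ord_over he]
  obtain ⟨i, -, hi⟩ := Finset.exists_mem_eq_inf' Finset.univ_nonempty (fun i => P.ord (φ i))
  refine le_antisymm ((Finset.inf'_le _ (Finset.mem_univ i)).trans (by rw [hi]))
    ((Finset.le_inf'_iff _ _).mpr fun j _ => ?_)
  exact mul_le_mul_of_nonneg_left (Finset.inf'_le _ (Finset.mem_univ j)) (by positivity)

theorem deg_mapDiv_algebraMap (hF : IsFF k K) [FiniteDimensional K K'] {ι : Type*} [Fintype ι]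
    [Nonempty ι] (φ : ι → K) :
    (FunFld.mapDiv k (fun i => algebraMap K K' (φ i))).deg =
      Module.finrank K K' * (FunFld.mapDiv k φ).deg := by
  rw [mapDiv_algebraMap hF, deg_conorm hF]

omit [Algebra K K'] [IsScalarTower k K K'] in
/-- An isomorphic copy of a function field carries divisors of maps of the same degree. -/
theorem deg_mapDiv_algEquiv (hF : IsFF k K) (σ : K ≃ₐ[k] K') {ι : Type*} [Fintype ι] [Nonempty ι]
    (φ : ι → K) :
    IsFF k K' ∧ (FunFld.mapDiv k (fun i => σ (φ i))).deg = (FunFld.mapDiv k φ).deg := by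
  letI := (σ : K →+* K').toAlgebra
  haveI : IsScalarTower k K K' := IsScalarTower.of_algebraMap_eq fun c => (σ.commutes c).symm
  let l : K ≃ₗ[K] K' :=
    LinearEquiv.ofBijective (Algebra.linearMap K K') σ.bijective
  haveI : FiniteDimensional K K' := Module.Finite.equiv l
  refine ⟨hF.ext, ?_⟩
  have := deg_mapDiv_algebraMap (K' := K') hF φ
  rw [← l.finrank_eq, Module.finrank_self, Nat.cast_one, one_mul] at this
  exact this

omit [Algebra K K'] [IsScalarTower k K K'] in
/-- Degrees of maps multiply by the degree of an endomorphism. -/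
theorem deg_mapDiv_algHom (hF : IsFF k K) (τ : K →ₐ[k] K) {ι : Type*} [Fintype ι] [Nonempty ι]
    (φ : ι → K) :
    (FunFld.mapDiv k (τ ∘ φ)).deg = Module.finrank τ.fieldRange K * (FunFld.mapDiv k φ).deg := by
  let σ : K ≃ₐ[k] τ.fieldRange := AlgEquiv.ofInjectiveField τ
  obtain ⟨hF', hdeg⟩ := deg_mapDiv_algEquiv hF σ φ
  obtain ⟨x, hx, -⟩ := id hF
  have htx : Transcendental k (τ x) :=
    fun h => hx ((isAlgebraic_algHom_iff τ τ.injective).mp h)
  have hfin := IsFF.finite_adjoin hF htx
  have hle : k⟮τ x⟯ ≤ τ.fieldRange := adjoin_simple_le_iff.mpr ⟨x, rfl⟩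
  haveI : FiniteDimensional τ.fieldRange K := by
    letI := (IntermediateField.inclusion hle).toRingHom.toAlgebra
    haveI : IsScalarTower k⟮τ x⟯ τ.fieldRange K := IsScalarTower.of_algebraMap_eq fun _ => rfl
    exact Module.Finite.of_restrictScalars_finite k⟮τ x⟯ τ.fieldRange K
  rw [← hdeg, ← deg_mapDiv_algebraMap (K := τ.fieldRange) (K' := K) hF']
  rfl

end Groth.Agent.FFLib
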