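import Groth.Agent.FFLib.Plucker

/-! Members of a linear series supported at two places. -/

namespace Groth.Agent.FFLib

open FunFld WithZero Polynomial

variable {k K : Type*} [Field k] [Field K] [Algebra k K]

theorem div_coord (hF : IsFF k K) {B R : Place k K} (hB : B.deg = 1) (hR1 : R.deg = 1) {x : K}
    (hxB : B.ord x = -1) (hx : ∀ Q, Q ≠ B → 0 ≤ Q.ord x) (hR : R ≠ B) {a : k}
    (ha : R.1 (x - algebraMap k K a) < 1) :
    x - algebraMap k K a ≠ 0 ∧
      FunFld.div k (x - algebraMap k K a) = Finsupp.single R 1 - Finsupp.single B 1 := by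
  classical
  have hx0 : x ≠ 0 := fun e => by simp [e] at hxB
  have hp := ord_aeval_pole hxB (X_sub_C_ne_zero a)
  simp only [map_sub, aeval_X, aeval_C, natDegree_X_sub_C, Nat.cast_one] at hp
  set y := x - algebraMap k K a with hy
  obtain ⟨hy0, hyB⟩ := hp
  refine ⟨hy0, ?_⟩
  have hge : ∀ Q, (Finsupp.single R (1 : ℤ) - Finsupp.single B 1 : Divisor k K) Q ≤ (FunFld.div k y) Q := by
    intro Q
    rw [div_apply hF]
    rcases eq_or_ne Q R with rfl | hQR
    · simp [hR.symm]
      have := (val_lt_one_iff Q hy0).mp ha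
      omega
    rcases eq_or_ne Q B with rfl | hQB
    · simp [hQR.symm, hyB]
    · simpa [hQR.symm, hQB.symm] using (val_le_one_iff Q hy0).mp
        ((Q.1.map_sub _ _).trans (max_le ((val_le_one_iff Q hx0).mpr (hx Q hQB)) (Q.2.1 _)))
  exact (deg_eq_of_le hF hge (by
    rw [Divisor.deg_sub, Divisor.deg_single, Divisor.deg_single, hB, hR1, deg_div hF]; omega)).symm

theorem const_of_div_eq_zero (hK : IsFunctionField k K) {z : K} (hz : FunFld.div k z = 0) :
    ∃ c : k, z = algebraMap k K c := by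
  rcases eq_or_ne z 0 with rfl | hz0
  · exact ⟨0, (map_zero _).symm⟩
  have hm : z ∈ L (0 : Divisor k K) := (mem_L_iff_ord hz0).mpr fun R => by
    have := congrArg (fun E : Divisor k K => E R) hz
    simp [div_apply hK.1] at this ⊢
    omega
  have hle : Submodule.span k {(1 : K)} ≤ L (0 : Divisor k K) :=
    (Submodule.span_singleton_le_iff_mem ..).mpr ((mem_L_iff_ord one_ne_zero).mpr fun R => by simp)
  have := L_finite hK.1 (0 : Divisor k K)
  have h1 := ell_zero hK
  rw [ell] at h1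
  have heq := Submodule.eq_of_le_of_finrank_eq hle (by
    rw [finrank_span_singleton (one_ne_zero (α := K)), h1])
  rw [← heq] at hm
  obtain ⟨c, hc⟩ := Submodule.mem_span_singleton.mp hm
  exact ⟨c, by rw [← hc, Algebra.smul_def, mul_one]⟩

theorem ord_sub_const_le_one [CharZero k] (hK : IsFunctionField k K) (hg : genus k K = 0)
    (hd1 : ∀ R : Place k K, R.deg = 1) {P P' Q : Place k K} (hne : P ≠ P') (hP : P ≠ Q)
    (hP' : P' ≠ Q) {n : ℕ} (hn : 0 < n) {h : K} (hh0 : h ≠ 0)
    (hh : FunFld.div k h = Finsupp.single P (n : ℤ) - Finsupp.single P' (n : ℤ)) (c : k) :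
    h - algebraMap k K c ≠ 0 ∧ Q.ord (h - algebraMap k K c) ≤ 1 := by
  classical
  have hF : IsFF k K := hK.1
  obtain ⟨x, hxB, hxR⟩ := exists_coord hK hg (hd1 P')
  have hx0 : x ≠ 0 := fun e => by simp [e] at hxB
  obtain ⟨b, hb⟩ := exists_value hF (hd1 P) ((val_le_one_iff P hx0).mpr (hxR P hne))
  obtain ⟨hy0, hdy⟩ := div_coord hF (hd1 P') (hd1 P) hxB hxR hne hb
  set y := x - algebraMap k K b
  have hord : ∀ R : Place k K, R.ord y =
      (Finsupp.single P (1 : ℤ) - Finsupp.single P' 1 : Divisor k K) R := fun R => by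
    rw [← div_apply hF, hdy]
  have hordh : ∀ R : Place k K, R.ord h =
      (Finsupp.single P (n : ℤ) - Finsupp.single P' (n : ℤ) : Divisor k K) R := fun R => by
    rw [← div_apply hF, hh]
  have hyP' : P'.ord y = -1 := by simpa [hne] using hord P'
  have hyR : ∀ R, R ≠ P' → 0 ≤ R.ord y := fun R hR => by
    rw [hord]; simp only [Finsupp.sub_apply, Finsupp.single_apply]; split_ifs <;> simp_all
  obtain ⟨lam, hlam⟩ := const_of_div_eq_zero hK (z := h / y ^ n) (by
    ext R
    rw [div_apply hF, div_eq_mul_inv, ord_mul R hh0 (inv_ne_zero (pow_ne_zero _ hy0)), ord_inv,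
      ord_pow, hord, hordh]
    simp only [Finsupp.sub_apply, Finsupp.single_apply, Finsupp.zero_apply]
    split_ifs <;> ring)
  have hlam0 : lam ≠ 0 := fun e => by
    rw [e, map_zero] at hlam
    exact div_ne_zero hh0 (pow_ne_zero _ hy0) hlam
  let p : k[X] := C lam * X ^ n - C c
  have hp : p ≠ 0 := fun e => hlam0 (by
    simpa [p, coeff_C, hn.ne'] using congrArg (fun q : k[X] => q.coeff n) e)
  have hpy : aeval y p = h - algebraMap k K c := by
    simp [p, ← hlam, div_mul_cancel₀ _ (pow_ne_zero n hy0)]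
  obtain ⟨hne0, -⟩ := ord_aeval_pole hyP' hp
  rw [← hpy]
  refine ⟨hne0, ?_⟩
  have hQP' : Q ≠ P' := hP'.symm
  have hy1 : Q.1 y ≤ 1 := (val_le_one_iff Q hy0).mpr (hyR Q hQP')
  obtain ⟨g, hg'⟩ := exists_value hF (hd1 Q) hy1
  obtain ⟨hyg, hdyg⟩ := div_coord hF (hd1 P') (hd1 Q) hyP' hyR hQP' hg'
  have hg0 : g ≠ 0 := fun e => by
    rw [e, map_zero, sub_zero, val_lt_one_iff Q hy0, hord] at hg'
    simp [hP, hP'] at hg'
  rw [ord_aeval_point (by rw [← div_apply hF, hdyg]; simp [hP']) hy1 hp hne0]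
  by_contra hlt
  have h2 := (one_lt_rootMultiplicity_iff_isRoot (t := g) hp).mp (not_le.mp (by omega))
  simp [p, IsRoot, derivative_X_pow, hlam0, hg0, hn.ne'] at h2

variable {D : Divisor k K} {V : Submodule k K} {d r : ℕ}

theorem IsSeries.eq_smul_of_supported [CharZero k] (hS : IsSeries D V d r) (hg : genus k K = 0)
    {Q P P' : Place k K} (hcusp : r ≤ vdim D V Q 2) (hP : P ≠ Q) (hP' : P' ≠ Q) {f g : K}
    (hf : f ∈ V) (hgV : g ∈ V) (hf0 : f ≠ 0) (hg0 : g ≠ 0)
    (hfs : ∀ R : Place k K, R ≠ P → R ≠ P' → (FunFld.div k f + D) R = 0)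
    (hgs : ∀ R : Place k K, R ≠ P → R ≠ P' → (FunFld.div k g + D) R = 0) :
    ∃ c : k, g = c • f := by
  classical
  have hK := hS.hK
  have hF : IsFF k K := hK.1
  set h := g / f with hh
  have hh0 : h ≠ 0 := div_ne_zero hg0 hf0
  have hgh : g = h * f := (div_mul_cancel₀ g hf0).symm
  by_cases hz : FunFld.div k h = 0
  · obtain ⟨c, hc⟩ := const_of_div_eq_zero hK hz
    exact ⟨c, by rw [hgh, hc, Algebra.smul_def]⟩
  exfalso
  have hoff : ∀ R, R ≠ P → R ≠ P' → (FunFld.div k h) R = 0 := fun R h1 h2 => by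
    have e1 := hfs R h1 h2
    have e2 := hgs R h1 h2
    simp only [Finsupp.add_apply, div_apply hF] at e1 e2 ⊢
    rw [hh, div_eq_mul_inv, ord_mul R hg0 (inv_ne_zero hf0), ord_inv]
    omega
  have hne : P ≠ P' := fun e => hz (by
    subst e
    have hs : FunFld.div k h = Finsupp.single P ((FunFld.div k h) P) := by
      ext R
      rcases eq_or_ne R P with rfl | hR
      · simp
      · simpa [hR.symm] using hoff R hR hR
    have hd := deg_div hF (x := h)
    rw [hs, Divisor.deg_single, hS.deg_one] at hd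
    rw [hs, show (FunFld.div k h) P = 0 by omega]
    simp)
  obtain ⟨m, hm⟩ : ∃ m : ℤ, FunFld.div k h = Finsupp.single P m - Finsupp.single P' m := by
    refine ⟨(FunFld.div k h) P, ?_⟩
    have hs : FunFld.div k h = Finsupp.single P ((FunFld.div k h) P) +
        Finsupp.single P' ((FunFld.div k h) P') := by
      ext R
      rcases eq_or_ne R P with rfl | hR
      · simp [hne.symm]
      rcases eq_or_ne R P' with rfl | hR'
      · simp [hne]
      · simpa [hR.symm, hR'.symm] using hoff R hR hR'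
    have hd := deg_div hF (x := h)
    rw [hs, Divisor.deg_add, Divisor.deg_single, Divisor.deg_single, hS.deg_one, hS.deg_one] at hd
    conv_lhs => rw [hs]
    rw [show (FunFld.div k h) P' = -((FunFld.div k h) P) by omega, Finsupp.single_neg, sub_eq_add_neg]
  have hm0 : m ≠ 0 := fun e => hz (by simp [hm, e])
  have hind : LinearIndependent k ![f, g] := by
    refine LinearIndependent.pair_iff' hf0 |>.mpr fun a ha => hm0 ?_
    have ha0 : a ≠ 0 := fun e => hg0 (by rw [← ha, e, zero_smul])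
    have hha : h = algebraMap k K a := by rw [hh, ← ha, Algebra.smul_def, mul_div_assoc, div_self hf0, mul_one]
    have := div_apply hF (x := h) P
    rw [hm, hha, ord_algebraMap P a] at this
    simpa [hne.symm] using this
  have hW : Submodule.span k (Set.range ![f, g]) ≤ V := Submodule.span_le.mpr (by
    rintro _ ⟨i, rfl⟩
    fin_cases i
    · exact hf
    · exact hgV)
  have := hS.finite
  have := Submodule.finiteDimensional_of_le hW
  have := hS.finite_inf (L (D - Finsupp.single Q ((2 : ℕ) : ℤ)))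
  obtain ⟨w, ⟨hwV, hwL⟩, hwW, hw0⟩ : ∃ w, w ∈ V ⊓ L (D - Finsupp.single Q ((2 : ℕ) : ℤ)) ∧
      w ∈ Submodule.span k (Set.range ![f, g]) ∧ w ≠ 0 := by
    have e := Submodule.finrank_sup_add_finrank_inf_eq (V ⊓ L (D - Finsupp.single Q ((2 : ℕ) : ℤ)))
      (Submodule.span k (Set.range ![f, g]))
    rw [finrank_span_eq_card hind, Fintype.card_fin] at e
    have h1 := Submodule.finrank_mono (sup_le inf_le_left hW :
      (V ⊓ L (D - Finsupp.single Q ((2 : ℕ) : ℤ))) ⊔ _ ≤ V)
    rw [hS.dim] at h1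
    rw [vdim] at hcusp
    obtain ⟨w, hw, hw0⟩ := Submodule.exists_mem_ne_zero_of_ne_bot (p := (V ⊓ L (D -
      Finsupp.single Q ((2 : ℕ) : ℤ))) ⊓ Submodule.span k (Set.range ![f, g])) (fun hb => by
        rw [hb, finrank_bot] at e; omega)
    exact ⟨w, hw.1, hw.2, hw0⟩
  rw [Matrix.range_cons, Matrix.range_cons, Matrix.range_empty, Set.union_empty, Set.singleton_union] at hwW
  obtain ⟨a, b, rfl⟩ := Submodule.mem_span_pair.mp hwW
  have hwQ := (mem_L_iff_ord hw0).mp hwL Q
  have hfQ := hfs Q hP.symm hP'.symm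
  simp only [Finsupp.add_apply, div_apply hF] at hfQ
  simp only [Finsupp.sub_apply, Finsupp.single_eq_same] at hwQ
  have hb : b ≠ 0 := fun e => by
    have ha : a ≠ 0 := fun e' => hw0 (by simp [e, e'])
    rw [e, zero_smul, add_zero, Algebra.smul_def, ord_mul Q (by simpa using ha) hf0,
      ord_algebraMap] at hwQ
    omega
  set c := -a / b with hc
  have hsplit : a • f + b • g = algebraMap k K b * ((h - algebraMap k K c) * f) := by
    have : algebraMap k K b ≠ 0 := by simpa using hb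
    rw [hgh, hc, map_div₀, map_neg, Algebra.smul_def, Algebra.smul_def]
    field_simp
    ring
  obtain ⟨n, hn | hn⟩ := m.eq_nat_or_neg
  · obtain ⟨h0, hle⟩ := ord_sub_const_le_one hK hg hS.deg_one hne hP hP' (n := n) (by omega) hh0
      (by rw [hm, hn]) c
    rw [hsplit, ord_mul Q (by simpa using hb) (mul_ne_zero h0 hf0), ord_algebraMap,
      ord_mul Q h0 hf0] at hwQ
    omega
  · obtain ⟨h0, hle⟩ := ord_sub_const_le_one hK hg hS.deg_one hne.symm hP' hP (n := n) (by omega) hh0
      (by rw [hm, hn, Finsupp.single_neg, Finsupp.single_neg]; abel) c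
    rw [hsplit, ord_mul Q (by simpa using hb) (mul_ne_zero h0 hf0), ord_algebraMap,
      ord_mul Q h0 hf0] at hwQ
    omega

/-- Members of `V` cut out exactly by `m P + (d - m) Q`. -/
theorem IsSeries.exists_exact (hS : IsSeries D V d r) (P Q : Place k K) {m : ℕ} (hm : m ≤ d)
    (hpos : 0 < Module.finrank k
      ↥(V ⊓ L (D - Finsupp.single P (m : ℤ) - Finsupp.single Q ((d - m : ℕ) : ℤ)))) :
    ∃ f ∈ V, f ≠ 0 ∧
      FunFld.div k f + D = Finsupp.single P (m : ℤ) + Finsupp.single Q ((d - m : ℕ) : ℤ) := by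
  have hF := hS.hK.1
  obtain ⟨f, ⟨hfV, hfL⟩, hf0⟩ := Submodule.exists_mem_ne_zero_of_ne_bot
    (p := V ⊓ L (D - Finsupp.single P (m : ℤ) - Finsupp.single Q ((d - m : ℕ) : ℤ)))
    (fun hb => by rw [hb, finrank_bot] at hpos; omega)
  refine ⟨f, hfV, hf0, (deg_eq_of_le hF (fun R => ?_) ?_).symm⟩
  · have := (mem_L_iff_ord hf0).mp hfL R
    simp only [Finsupp.sub_apply, Finsupp.add_apply, div_apply hF] at this ⊢
    omega
  · rw [Divisor.deg_add, Divisor.deg_add, deg_div hF, Divisor.deg_single, Divisor.deg_single,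
      hS.deg_one, hS.deg_one, hS.hD]
    omega

/-- If the weights at `P` and `Q` are large, `m P` and `m Q` are equivalent for some `m ≤ d`. -/
theorem IsSeries.exists_ratio (hS : IsSeries D V d r) {P Q : Place k K} (hPQ : P ≠ Q)
    (hw : (r + 1) * d + 1 ≤ vsum D V d P + vsum D V d Q + r) :
    ∃ m : ℕ, 1 ≤ m ∧ m ≤ d ∧ ∃ h : K, h ≠ 0 ∧
      FunFld.div k h = Finsupp.single Q (m : ℤ) - Finsupp.single P (m : ℤ) := by
  classical
  have hF := hS.hK.1
  obtain ⟨T, hTdef⟩ : ∃ T : Finset ℕ, T = (Finset.range (d + 1)).filter fun n : ℕ =>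
      0 < Module.finrank k
        ↥(V ⊓ L (D - Finsupp.single P (n : ℤ) - Finsupp.single Q ((d - n : ℕ) : ℤ))) := ⟨_, rfl⟩
  have hI : ∀ n ∈ Finset.range (d + 1), vdim D V P n + vdim D V Q (d - n) ≤
      r + 1 + if n ∈ T then 1 else 0 := fun n hn => by
    have hn' := Finset.mem_range.mp hn
    have h1 := hS.vdim_add_le' P Q hPQ n (d - n)
    set E := D - Finsupp.single P (n : ℤ) - Finsupp.single Q ((d - n : ℕ) : ℤ) with hE
    split_ifs with hT
    · have := L_finite hF E
      have h2 := Submodule.finrank_mono (inf_le_right : V ⊓ L E ≤ _)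
      have h3 : ell E ≤ 1 := by
        rcases Nat.eq_zero_or_pos (ell E) with h4 | h4
        · omega
        obtain ⟨z, hz0, hz⟩ := exists_div_of_deg_zero hF (E := E) (by
          rw [hE, Divisor.deg_sub, Divisor.deg_sub, Divisor.deg_single, Divisor.deg_single,
            hS.deg_one, hS.deg_one, hS.hD]; omega) h4
        rw [← ell_add_div hF E hz0, hz, ell_zero hS.hK]
      rw [ell] at h3
      omega
    · have : ¬ 0 < Module.finrank k ↥(V ⊓ L E) := fun h0 => hT (hTdef ▸ Finset.mem_filter.mpr ⟨hn, h0⟩)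
      omega
  have hsum := Finset.sum_le_sum hI
  rw [Finset.sum_add_distrib, Finset.sum_add_distrib, Finset.sum_ite_mem, Finset.inter_eq_right.mpr
    (hTdef ▸ Finset.filter_subset _ _ : T ⊆ _), Finset.sum_const, Finset.sum_const, Finset.card_range, smul_eq_mul,
    smul_eq_mul, mul_one, Finset.sum_range_succ' (fun n => vdim D V P n)] at hsum
  have hQ : ∑ n ∈ Finset.range (d + 1), vdim D V Q (d - n) = vsum D V d Q + (r + 1) := by
    have := Finset.sum_range_reflect (fun n => vdim D V Q n) (d + 1)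
    simp only [Nat.add_sub_cancel] at this
    rw [this, Finset.sum_range_succ' (fun n => vdim D V Q n), hS.vdim_zero]
    rfl
  rw [hQ, hS.vdim_zero] at hsum
  have hP : ∑ n ∈ Finset.range d, vdim D V P (n + 1) = vsum D V d P := rfl
  rw [hP] at hsum
  have hT2 : 1 < T.card := by
    have : (d + 1) * (r + 1) = (r + 1) * d + (r + 1) := by ring
    omega
  obtain ⟨a, ha, b, hb, hab⟩ := Finset.one_lt_card.mp hT2
  wlog hlt : a < b generalizing a b
  · exact this b hb a ha hab.symm (by omega)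
  simp only [hTdef, Finset.mem_filter, Finset.mem_range] at ha hb
  obtain ⟨f, -, hf0, hf⟩ := hS.exists_exact P Q (by omega) ha.2
  obtain ⟨g, -, hg0, hg⟩ := hS.exists_exact P Q (by omega) hb.2
  refine ⟨b - a, by omega, by omega, f / g, div_ne_zero hf0 hg0, ?_⟩
  ext R
  have e1 := congrArg (fun E : Divisor k K => E R) hf
  have e2 := congrArg (fun E : Divisor k K => E R) hg
  simp only [Finsupp.add_apply, Finsupp.sub_apply, div_apply hF] at e1 e2 ⊢
  rw [div_eq_mul_inv, ord_mul R hf0 (inv_ne_zero hg0), ord_inv]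
  simp only [Finsupp.single_apply] at e1 e2 ⊢
  split_ifs at e1 e2 ⊢ <;> omega

end Groth.Agent.FFLib
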