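import Groth.Agent.FFLib.SV.WDiv
import Groth.Agent.FFLib.Plucker
import Groth.Agent.FFLib.Embed
import Groth.Agent.FFLib.SV.Aut
import Groth.Agent.FFLib.Diff.Basic
import Mathlib.FieldTheory.PrimitiveElement

/-! Plane generators with local parameters. -/

set_option linter.unusedSectionVars false
set_option linter.style.haveILetI false

namespace Groth.Agent.FFLib

open FunFld WithZero IntermediateField

variable {k K : Type*} [Field k] [Field K] [Algebra k K] [IsAlgClosed k] (hK : IsFunctionField k K)

include hK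

omit hK [IsAlgClosed k] in
theorem deg_finset_sum {ι : Type*} (s : Finset ι) (f : ι → Divisor k K) :
    (∑ i ∈ s, f i).deg = ∑ i ∈ s, (f i).deg := by
  classical
  induction s using Finset.induction with
  | empty => simp
  | insert a s ha ih => rw [Finset.sum_insert ha, Finset.sum_insert ha, Divisor.deg_add, ih]

theorem transcendental_of_separable {x : K} (hsep : Algebra.IsSeparable k⟮x⟯ K) : Transcendental k x := by
  intro halg
  obtain ⟨c, rfl⟩ := hK.2 x halg
  obtain ⟨t, ht, -⟩ := id hK.1
  have hbot : k⟮algebraMap k K c⟯ = ⊥ := IntermediateField.adjoin_simple_eq_bot_iff.mpr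
    (IntermediateField.algebraMap_mem _ c)
  have h1 : IsIntegral k⟮algebraMap k K c⟯ t := Algebra.IsSeparable.isIntegral _ t
  have : Algebra.IsIntegral k k⟮algebraMap k K c⟯ := by rw [hbot]; infer_instance
  exact ht (isIntegral_trans t h1).isAlgebraic

theorem finite_intermediate {x : K} (hsep : Algebra.IsSeparable k⟮x⟯ K) :
    Finite (IntermediateField k⟮x⟯ K) := by
  haveI := IsFF.finite_adjoin hK.1 (transcendental_of_separable hK hsep)
  exact (Field.exists_primitive_element_iff_finite_intermediateField k⟮x⟯ K).mp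
    ⟨inferInstance, Field.exists_primitive_element k⟮x⟯ K⟩

theorem exists_generator_mem (W : Submodule k K) (hW : IntermediateField.adjoin k (W : Set K) = ⊤) {x : K}
    (hx : x ∈ W) (hsep : Algebra.IsSeparable k⟮x⟯ K) :
    ∃ y ∈ W, IntermediateField.adjoin k ({x, y} : Set K) = ⊤ := by
  classical
  haveI := finite_intermediate hK hsep
  let p : {F : IntermediateField k⟮x⟯ K // F ≠ ⊤} → Submodule k W := fun F =>
    ((F.1.restrictScalars k).toSubalgebra.toSubmodule).comap W.subtype
  have hp : ∀ F, p F ≠ ⊤ := fun F htop => by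
    have hle : IntermediateField.adjoin k (W : Set K) ≤ F.1.restrictScalars k :=
      IntermediateField.adjoin_le_iff.mpr fun w hw => by
        have : (⟨w, hw⟩ : W) ∈ p F := by rw [htop]; trivial
        exact this
    refine F.2 (eq_top_iff.mpr fun z _ => ?_)
    exact hle (hW ▸ IntermediateField.mem_top)
  obtain ⟨⟨y, hy⟩, hyp⟩ := Submodule.exists_forall_notMem_of_forall_ne_top p hp
  refine ⟨y, hy, ?_⟩
  have htop : (k⟮x⟯)⟮y⟯ = ⊤ := by
    by_contra h
    exact hyp ⟨_, h⟩ (IntermediateField.mem_adjoin_simple_self k⟮x⟯ y)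
  have h := congrArg (IntermediateField.restrictScalars k) htop
  rwa [IntermediateField.adjoin_simple_adjoin_simple, IntermediateField.restrictScalars_top] at h

theorem exists_separating_mem (W : Submodule k K) (hW : IntermediateField.adjoin k (W : Set K) = ⊤) :
    ∃ x ∈ W, Algebra.IsSeparable k⟮x⟯ K := by
  obtain h0 | ⟨p, hp, hpk⟩ := CharP.exists' k
  · have := h0
    obtain ⟨w, hw, hwt⟩ : ∃ w ∈ W, Transcendental k w := by
      by_contra! hall
      obtain ⟨t, ht, -⟩ := id hK.1
      have hle : IntermediateField.adjoin k (W : Set K) ≤ ⊥ := IntermediateField.adjoin_le_iff.mpr fun w hw => by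
        obtain ⟨c, hc⟩ := hK.2 w (not_not.mp (hall w hw))
        exact IntermediateField.mem_bot.mpr ⟨c, hc⟩
      obtain ⟨c, rfl⟩ := IntermediateField.mem_bot.mp (hle (hW ▸ IntermediateField.mem_top (x := t)))
      exact ht (isAlgebraic_algebraMap c)
    refine ⟨w, hw, ?_⟩
    haveI := IsFF.finite_adjoin hK.1 hwt
    haveI : CharZero k⟮w⟯ := charZero_of_injective_algebraMap (algebraMap k k⟮w⟯).injective
    infer_instance
  · have : CharP K p := charP_of_injective_algebraMap (algebraMap k K).injective p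
    obtain ⟨x, hx, hsep⟩ := exists_separating_element hK (isGeometric_of_perfect hK)
    by_contra! hall
    have hle : IntermediateField.adjoin k (W : Set K) ≤ powField k K p :=
      IntermediateField.adjoin_le_iff.mpr fun w hw => by
        by_contra hwp
        exact hall w hw (isSeparable_of_notMem p hK hx hsep hwp)
    have hxm : x ∈ powField k K p := hle (hW ▸ IntermediateField.mem_top)
    exact D_ne_zero hK hx hsep (D_eq_zero_of_mem p hxm)

theorem finite_critical {x : K} (hsep : Algebra.IsSeparable k⟮x⟯ K) :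
    {P : Place k K | ¬ ∃ c : k, P.1 (x - algebraMap k K c) = exp (-1 : ℤ)}.Finite := by
  classical
  have hxt := transcendental_of_separable hK hsep
  have hD := D_ne_zero hK hxt hsep
  choose t ht using fun P : Place k K => exists_unif P
  choose φ hφ using fun P : Place k K => exists_expansion' hK P (ht P).2
  refine ((finite_ordDiff hK (isGeometric_of_perfect hK) (fun _ => k) φ (fun P => (hφ P).1) one_ne_zero hD).union
    (finite_support_ord hK.1 x)).subset fun P hP => ?_
  by_contra hn
  simp only [Set.mem_union, Function.mem_support, not_or, not_not] at hn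
  obtain ⟨c, hc⟩ := exists_value hK.1 (deg_eq_one hK.1 P) (x := x) (by
    rcases eq_or_ne x 0 with rfl | h
    · simp
    · exact (val_le_one_iff P h).mpr hn.2.ge)
  refine hP ⟨c, le_antisymm ?_ (not_lt.mp fun hlt => ?_)⟩
  · rcases eq_or_ne (x - algebraMap k K c) 0 with h | h
    · rw [h, map_zero]; exact zero_le
    · rw [val_eq_exp P h, ← exp_zero, exp_lt_exp] at hc
      rw [val_eq_exp P h, exp_le_exp]
      omega
  · have h2 : P.1 (x - algebraMap k K c) ≤ exp (-2 : ℤ) := by
      rcases eq_or_ne (x - algebraMap k K c) 0 with h | h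
      · rw [h, map_zero]; exact zero_le
      · rw [val_eq_exp P h, exp_lt_exp] at hlt
        rw [val_eq_exp P h, exp_le_exp]
        omega
    have hlow : Low (φ P (x - algebraMap k K c)) 2 := (low_iff_val _ _).mpr (by rw [(hφ P).1.1]; exact h2)
    have hv : LocRes.vDiff (φ P) 1 x ≤ exp (-1 : ℤ) := by
      have he : LocRes.D k (φ P x) = LocRes.D k (φ P (x - algebraMap k K c)) := by
        rw [map_sub, map_sub]
        show _ = _ - dExp (φ P) (algebraMap k K c)
        rw [dExp_const, sub_zero]
      rw [vDiff_one, he]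
      exact (low_iff_val _ _).mp hlow.deriv
    have hne : LocRes.vDiff (φ P) 1 x ≠ 0 :=
      (map_ne_zero _).mpr (by
        rw [map_one, one_mul]
        exact dExp_ne_zero (hφ P).1 hK (isGeometric_of_perfect hK) hD)
    have h0 := hn.1
    rw [LocRes.ordDiff, neg_eq_zero] at h0
    rw [← exp_log hne, h0, exp_le_exp] at hv
    omega

/-- A second generator such that `1, x, y` span a local parameter at every place. -/
theorem exists_generator_uniformizers {x : K} (hsep : Algebra.IsSeparable k⟮x⟯ K) :
    ∃ y : K, IntermediateField.adjoin k ({x, y} : Set K) = ⊤ ∧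
      ∀ P : Place k K, ∃ f ∈ Submodule.span k ({1, x, y} : Set K), P.1 f = exp (-1 : ℤ) := by
  classical
  have hF := hK.1
  haveI := finite_intermediate hK hsep
  haveI := IsFF.finite_adjoin hF (transcendental_of_separable hK hsep)
  obtain ⟨θ, hθ⟩ := Field.exists_primitive_element k⟮x⟯ K
  have hSfin := finite_critical hK hsep
  set S := hSfin.toFinset
  obtain ⟨Q₀, hQ₀⟩ : ∃ Q : Place k K, Q ∉ S := by
    haveI := infinite_places (k := k) hK
    exact Infinite.exists_notMem_finset S
  let D₀ : Divisor k K := ∑ P ∈ S, Finsupp.single P (-1 - poles θ P) +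
    Finsupp.single Q₀ (2 * (genus k K : ℤ) + S.card + (poles θ : Divisor k K).deg + 2 +
      ∑ P ∈ S, (poles θ : Divisor k K) P)
  let D₁ := D₀ + poles θ
  have hdeg0 : D₀.deg = -(S.card : ℤ) - (∑ P ∈ S, (poles θ : Divisor k K) P) + (2 * (genus k K : ℤ) + S.card +
      (poles θ : Divisor k K).deg + 2 + ∑ P ∈ S, (poles θ : Divisor k K) P) := by
    show ((∑ P ∈ S, Finsupp.single P (-1 - poles θ P) + Finsupp.single Q₀ _ : Divisor k K)).deg = _
    rw [Divisor.deg_add, Divisor.deg_single, deg_eq_one hF Q₀, deg_finset_sum]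
    simp only [Divisor.deg_single, deg_eq_one hF, Nat.cast_one, mul_one]
    rw [Finset.sum_sub_distrib, Finset.sum_const, smul_neg, nsmul_eq_mul, mul_one]
  have hpn : 0 ≤ (poles θ : Divisor k K).deg := Divisor.deg_nonneg (poles_nonneg θ)
  have hdeg1 : D₁.deg = D₀.deg + (poles θ : Divisor k K).deg := Divisor.deg_add _ _
  have hD₁S : ∀ P ∈ S, D₁ P = -1 := fun P hP => by
    have hsum : (∑ R ∈ S, Finsupp.single R (-1 - (poles θ : Divisor k K) R)) P = -1 - (poles θ : Divisor k K) P := by
      rw [Finsupp.finsetSum_apply, Finset.sum_eq_single P (fun R _ hR => Finsupp.single_eq_of_ne (Ne.symm hR))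
        (fun h => absurd hP h), Finsupp.single_eq_same]
    show (D₀ + (poles θ : Divisor k K)) P = -1
    rw [Finsupp.add_apply, show D₀ P = _ from Finsupp.add_apply _ _ P, hsum,
      Finsupp.single_eq_of_ne (fun e : P = Q₀ => hQ₀ (e ▸ hP))]
    ring
  haveI := L_finite hF D₀
  haveI := L_finite hF D₁
  obtain ⟨s, hs, hs0⟩ : ∃ s ∈ L D₀, s ≠ 0 := by
    have h := ell_of_deg_gt hK (D := D₀) (by omega)
    by_contra! hall
    have : L D₀ = ⊥ := eq_bot_iff.mpr fun z hz => hall z hz
    rw [ell, this, finrank_bot] at h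
    omega
  have hsle : s ∈ L D₁ := L_mono (le_add_of_nonneg_right (poles_nonneg θ)) hs
  have hsθ : s * θ ∈ L D₁ := fun P => by
    show _ ≤ exp ((D₀ + (poles θ : Divisor k K)) P)
    rw [map_mul, Finsupp.add_apply, exp_add]
    exact mul_le_mul' (hs P) (val_le_exp_poles hF θ P)
  let p : {F : IntermediateField k⟮x⟯ K // F ≠ ⊤} ⊕ {P // P ∈ S} → Submodule k (L D₁) :=
    Sum.elim (fun F => ((F.1.restrictScalars k).toSubalgebra.toSubmodule).comap (L D₁).subtype)
      (fun P => (L (D₁ - Finsupp.single P.1 1)).comap (L D₁).subtype)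
  have hp : ∀ i, p i ≠ ⊤ := by
    rintro (F | P) htop
    · refine F.2 (eq_top_iff.mpr (hθ.ge.trans (IntermediateField.adjoin_simple_le_iff.mpr ?_)))
      have h1 : (⟨s, hsle⟩ : L D₁) ∈ p (Sum.inl F) := htop ▸ trivial
      have h2 : (⟨s * θ, hsθ⟩ : L D₁) ∈ p (Sum.inl F) := htop ▸ trivial
      rw [← inv_mul_cancel_left₀ hs0 θ]
      exact mul_mem (inv_mem (show s ∈ F.1 from h1)) (show s * θ ∈ F.1 from h2)
    · have h1 := ell_of_deg_gt hK (D := D₁) (by omega)
      have h2 := ell_of_deg_gt hK (D := D₁ - Finsupp.single P.1 1) (by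
        rw [Divisor.deg_sub, Divisor.deg_single, deg_eq_one hF]; omega)
      rw [Divisor.deg_sub, Divisor.deg_single, deg_eq_one hF] at h2
      have hle : L D₁ ≤ L (D₁ - Finsupp.single P.1 1) := fun z hz => by
        have : (⟨z, hz⟩ : L D₁) ∈ p (Sum.inr P) := htop ▸ trivial
        exact this
      haveI := L_finite hF (D₁ - Finsupp.single P.1 1)
      have := Submodule.finrank_mono hle
      unfold ell at h1 h2
      omega
  obtain ⟨⟨y, hy⟩, hyp⟩ := Submodule.exists_forall_notMem_of_forall_ne_top p hp
  have htop : (k⟮x⟯)⟮y⟯ = ⊤ := by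
    by_contra h
    exact hyp (Sum.inl ⟨_, h⟩) (IntermediateField.mem_adjoin_simple_self k⟮x⟯ y)
  refine ⟨y, ?_, fun P => ?_⟩
  · have h := congrArg (IntermediateField.restrictScalars k) htop
    rwa [IntermediateField.adjoin_simple_adjoin_simple, IntermediateField.restrictScalars_top] at h
  by_cases hP : P ∈ S
  · refine ⟨y, Submodule.subset_span (by simp), ?_⟩
    obtain ⟨hy0, hyo⟩ := (not_mem_L_sub_iff hy).mp (hyp (Sum.inr ⟨P, hP⟩))
    rw [val_eq_exp P hy0, hyo, hD₁S P hP]
    simp
  · obtain ⟨c, hc⟩ := not_not.mp fun h => hP (hSfin.mem_toFinset.mpr h)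
    refine ⟨x - algebraMap k K c, sub_mem (Submodule.subset_span (by simp)) ?_, hc⟩
    rw [Algebra.algebraMap_eq_smul_one]
    exact Submodule.smul_mem _ _ (Submodule.subset_span (by simp))

end Groth.Agent.FFLib
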