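import Groth.Agent.FFLib.Embed
import Groth.Agent.FFLib.Exists
import Mathlib.RingTheory.Valuation.LocalSubring
import Mathlib.RingTheory.Polynomial.IsIntegral
import Mathlib.FieldTheory.IntermediateField.Adjoin.Basic
import Mathlib.Algebra.Algebra.Operations

/-! Plane models: the genus bound and its equality case. -/

namespace Groth.Agent.FFLib

open FunFld IntermediateField WithZero Polynomial

variable {k K : Type*} [Field k] [Field K] [Algebra k K]

theorem val_aeval_pole (B : Place k K) {x : K} (hx : 1 < B.1 x) {p : k[X]} (hp : p ≠ 0) :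
    B.1 (aeval x p) = B.1 x ^ p.natDegree := by
  have hc : p.coeff p.natDegree ≠ 0 := leadingCoeff_ne_zero.mpr hp
  have hlt : ∀ i ∈ Finset.range (p.natDegree + 1) \ {p.natDegree},
      B.1 (p.coeff i • x ^ i) < B.1 (p.coeff p.natDegree • x ^ p.natDegree) := fun i hi => by
    simp only [Finset.mem_sdiff, Finset.mem_range, Finset.mem_singleton] at hi
    rw [val_smul B hc, map_pow]
    rcases eq_or_ne (p.coeff i) 0 with h | h
    · simp [h]; exact pow_pos (zero_lt_one.trans hx) _
    · rw [val_smul B h, map_pow]; exact pow_lt_pow_right₀ hx (by omega)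
  have hv := B.1.map_sum_eq_of_lt (f := fun i => p.coeff i • x ^ i)
    (Finset.mem_range.mpr (Nat.lt_succ_self p.natDegree)) hlt
  rw [← aeval_eq_sum_range, val_smul B hc, map_pow] at hv
  exact hv

variable (hK : IsFunctionField k K)
include hK

/-- An element of `k(x)` integral at the finite places of `x` is a polynomial in `x`. -/
theorem exists_eq_aeval [IsAlgClosed k] {x : K} (hx : Transcendental k x) {r : K} (hr : r ∈ k⟮x⟯)
    (h : ∀ Q : Place k K, Q.1 x ≤ 1 → Q.1 r ≤ 1) : ∃ p : k[X], r = aeval x p := by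
  classical
  obtain ⟨p, q, rfl⟩ := (mem_adjoin_simple_iff k r).mp hr
  have hne : ∀ p : k[X], p ≠ 0 → aeval x p ≠ 0 := fun p hp e => hp (transcendental_iff.mp hx p e)
  rcases eq_or_ne q 0 with rfl | hq
  · exact ⟨0, by simp⟩
  obtain ⟨p', q', c, hp, rfl, rfl⟩ := UniqueFactorizationMonoid.exists_reduced_factors' p q hq
  rw [map_mul, map_mul, mul_div_mul_left _ _ (hne c (left_ne_zero_of_mul hq))] at h ⊢
  by_cases hd : q'.natDegree = 0
  · obtain ⟨a, rfl⟩ := natDegree_eq_zero.mp hd
    exact ⟨C a⁻¹ * p', by rw [map_mul, aeval_C, aeval_C, map_inv₀]; ring⟩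
  obtain ⟨a, ha⟩ := IsAlgClosed.exists_root q' fun hd' => hd (natDegree_eq_zero_iff_degree_le_zero.mpr hd'.le)
  have hq'0 : q' ≠ 0 := fun e => hd (by simp [e])
  obtain ⟨Q, hQ⟩ := exists_place_zero hK.1 (x := x - algebraMap k K a) fun halg => hx (by
    simpa using halg.add (isAlgebraic_algebraMap a))
  have hx1 : Q.1 x ≤ 1 := by
    simpa using (Q.1.map_add (x - algebraMap k K a) (algebraMap k K a)).trans (max_le hQ.le (Q.2.1 a))
  have hsmall : ∀ g : k[X], g.eval a = 0 → Q.1 (aeval x g) < 1 := fun g hg => by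
    obtain ⟨g', rfl⟩ := dvd_iff_isRoot.mpr hg
    rw [map_mul, map_mul]
    refine (mul_le_mul' le_rfl (val_aeval_le_one Q.2.1 hx1 g')).trans_lt ?_
    simpa using hQ
  have hbig : Q.1 (aeval x p') = 1 := by
    have hpa : p'.eval a ≠ 0 := fun e =>
      not_isUnit_X_sub_C a (hp (dvd_iff_isRoot.mpr e) (dvd_iff_isRoot.mpr ha))
    have h1 := hsmall (p' - C (p'.eval a)) (by simp)
    rw [map_sub, aeval_C] at h1
    have := Q.1.map_add_eq_of_lt_left (x := algebraMap k K (p'.eval a))
      (y := aeval x p' - algebraMap k K (p'.eval a)) (by rwa [val_algebraMap Q hpa])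
    rwa [add_sub_cancel, val_algebraMap Q hpa] at this
  exfalso
  have := h Q hx1
  rw [map_div₀, hbig, one_div, inv_le_one₀ (zero_lt_iff.mpr (val_ne_zero Q (hne q' hq'0)))] at this
  exact this.not_gt (hsmall q' ha)

/-- If `y` is integral at the finite places of `x`, so are the coefficients of its minimal
polynomial over `k(x)`. -/
theorem minpoly_coeff_le [IsAlgClosed k] {x y : K} (hx : Transcendental k x)
    (h : ∀ Q : Place k K, Q.1 x ≤ 1 → Q.1 y ≤ 1) (i : ℕ) (Q : Place k K) (hQ : Q.1 x ≤ 1) :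
    Q.1 ((minpoly k⟮x⟯ y).coeff i : K) ≤ 1 := by
  classical
  let s : Set K := insert x (Set.range (algebraMap k K))
  let B := Subring.closure s
  have hint : IsIntegral B y := by
    have hmem : y ∈ (⨅ V : {V : ValuationSubring K // s ⊆ V.toSubring}, V.1.toSubring) := by
      rw [Subring.mem_iInf]
      rintro ⟨V, hV⟩
      show y ∈ V
      by_cases htop : V = ⊤
      · rw [htop]; trivial
      obtain ⟨P, hP⟩ := exists_place_of_valuationSubring hK.1 V
        (fun c => hV (Set.mem_insert_of_mem _ ⟨c, rfl⟩)) htop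
      rw [← hP]
      exact h P (show x ∈ P.O by rw [hP]; exact hV (Set.mem_insert _ _))
    rw [iInf_valuationSubring_superset] at hmem
    exact hmem
  have : FiniteDimensional k⟮x⟯ K := IsFF.finite_adjoin hK.1 hx
  have hyint : IsIntegral k⟮x⟯ y := IsIntegral.of_finite k⟮x⟯ y
  obtain ⟨p, hp, hpy⟩ := hint
  have hBle : ∀ b : B, (b : K) ∈ k⟮x⟯ := fun b => (Subring.closure_le (t := k⟮x⟯.toSubfield.toSubring)).mpr
    (Set.insert_subset_iff.mpr ⟨mem_adjoin_simple_self k x,
      Set.range_subset_iff.mpr fun c => (k⟮x⟯).algebraMap_mem c⟩) b.2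
  let j : B →+* k⟮x⟯ := B.subtype.codRestrict k⟮x⟯ hBle
  letI : Algebra B k⟮x⟯ := j.toAlgebra
  have hdvd : minpoly k⟮x⟯ y ∣ p.map (algebraMap B k⟮x⟯) := by
    refine minpoly.dvd _ _ ?_
    rw [aeval_def, eval₂_map]
    exact hpy
  have hcoeff := Polynomial.isIntegral_coeff_of_dvd p (minpoly k⟮x⟯ y) hp (minpoly.monic hyint) hdvd i
  obtain ⟨q, hq, hqc⟩ := hcoeff
  have hz : IsIntegral B ((minpoly k⟮x⟯ y).coeff i : K) := ⟨q, hq, by
    have := congrArg (Subtype.val : k⟮x⟯ → K) hqc
    rw [show (Subtype.val : k⟮x⟯ → K) = ⇑(algebraMap k⟮x⟯ K) from rfl, hom_eval₂, map_zero] at this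
    exact this⟩
  have hmem : ((minpoly k⟮x⟯ y).coeff i : K) ∈ (integralClosure B K).toSubring := hz
  rw [← iInf_valuationSubring_superset, Subring.mem_iInf] at hmem
  exact hmem ⟨Q.O, Set.insert_subset_iff.mpr ⟨hQ, Set.range_subset_iff.mpr Q.2.1⟩⟩

omit hK

/-- A coordinate system `s, t, u` for a plane model of degree `deg D`. -/
structure PlaneChart (D : Divisor k K) (V : Submodule k K) (s t u : K) : Prop where
  span : V = Submodule.span k {s, t, u}
  le : V ≤ L D
  s_ne : s ≠ 0
  t_ne : t ≠ 0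
  exact : ∀ Q : Place k K, Q.ord s = -D Q ∨ Q.ord t = -D Q
  gen : IntermediateField.adjoin k ({t / s, u / s} : Set K) = ⊤

/-- The sums `∑_{c<d} (m+1-c)`. -/
theorem two_mul_sum_sub (d m : ℕ) (h : d ≤ m + 1) :
    2 * ((∑ c : Fin d, (m + 1 - (c : ℕ)) : ℕ) : ℤ) = d * (2 * (m : ℤ) + 3 - d) := by
  induction d with
  | zero => simp
  | succ d ih =>
    rw [Fin.sum_univ_castSucc]
    simp only [Fin.val_castSucc, Fin.val_last]
    push_cast [Nat.cast_sub (show d ≤ m + 1 by omega)]
    have := ih (by omega)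
    push_cast at this
    linarith

namespace PlaneChart

variable {D : Divisor k K} {V : Submodule k K} {s t u : K} (C : PlaneChart D V s t u)
include C

theorem s_mem : s ∈ V := C.span ▸ Submodule.subset_span (by simp)
theorem t_mem : t ∈ V := C.span ▸ Submodule.subset_span (by simp)
theorem u_mem : u ∈ V := C.span ▸ Submodule.subset_span (by simp)

theorem ord_ge {z : K} (hz : z ∈ V) (hz0 : z ≠ 0) (Q : Place k K) : -D Q ≤ Q.ord z := by
  have := (mem_L_iff_ord hz0).mp (C.le hz) Q
  omega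

/-- Where `t/s` is finite, `s` is exact. -/
theorem exact_s {Q : Place k K} (h : Q.1 (t / s) ≤ 1) : Q.ord s = -D Q := by
  rcases C.exact Q with h' | h'
  · exact h'
  · rw [val_le_one_iff Q (div_ne_zero C.t_ne C.s_ne), div_eq_mul_inv,
      ord_mul Q C.t_ne (inv_ne_zero C.s_ne), ord_inv] at h
    have := C.ord_ge C.s_mem C.s_ne Q
    omega

theorem exact_t {Q : Place k K} (h : 1 ≤ Q.1 (t / s)) : Q.ord t = -D Q := by
  rcases C.exact Q with h' | h'
  · rcases eq_or_lt_of_le h with h1 | h1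
    · have h2 := (val_le_one_iff Q (div_ne_zero C.t_ne C.s_ne)).mp h1.ge
      have h3 : ¬ 0 < Q.ord (t / s) := fun h0 =>
        ((val_lt_one_iff Q (div_ne_zero C.t_ne C.s_ne)).mpr h0).ne h1.symm
      rw [div_eq_mul_inv, ord_mul Q C.t_ne (inv_ne_zero C.s_ne), ord_inv] at h2 h3
      omega
    · rw [one_lt_val_iff Q (div_ne_zero C.t_ne C.s_ne), div_eq_mul_inv,
        ord_mul Q C.t_ne (inv_ne_zero C.s_ne), ord_inv] at h1
      have := C.ord_ge C.t_mem C.t_ne Q
      omega
  · exact h'

theorem val_div_le {z a : K} (hz : z ∈ V) (ha0 : a ≠ 0) {Q : Place k K} (ha : Q.ord a = -D Q) :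
    Q.1 (z / a) ≤ 1 := by
  rcases eq_or_ne z 0 with rfl | hz0
  · simp
  · rw [val_le_one_iff Q (div_ne_zero hz0 ha0), div_eq_mul_inv, ord_mul Q hz0 (inv_ne_zero ha0),
      ord_inv]
    have := C.ord_ge hz hz0 Q
    omega

variable (hK : IsFunctionField k K)
include hK

theorem poles_eq : (poles (t / s) : Divisor k K) = D + FunFld.div k s := by
  refine Finsupp.ext fun Q => ?_
  rw [poles, Finsupp.mapRange_apply, Finsupp.add_apply, div_apply hK.1, div_apply hK.1,
    div_eq_mul_inv, ord_mul Q C.t_ne (inv_ne_zero C.s_ne), ord_inv]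
  have h1 := C.ord_ge C.s_mem C.s_ne Q
  have h2 := C.ord_ge C.t_mem C.t_ne Q
  rcases C.exact Q with h' | h' <;> omega

theorem transcendental (hd : 0 < D.deg) : Transcendental k (t / s) := fun halg => by
  have h : (poles (t / s) : Divisor k K).deg = D.deg := by
    rw [C.poles_eq hK, Divisor.deg_add, deg_div hK.1, add_zero]
  rw [show (poles (t / s) : Divisor k K) = 0 by
    ext Q; simp [poles, div_eq_zero_of_algebraic hK.1 halg], Divisor.deg_zero] at h
  omega

theorem finrank_eq (hd : 0 < D.deg) : (Module.finrank k⟮t / s⟯ K : ℤ) = D.deg := by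
  rw [← deg_poles hK.1 (C.transcendental hK hd), C.poles_eq hK, Divisor.deg_add, deg_div hK.1,
    add_zero]

theorem adjoin_top (hd : 0 < D.deg) :
    (k⟮t / s⟯)⟮u / s⟯ = ⊤ ∧ FiniteDimensional k⟮t / s⟯ K := by
  refine ⟨IntermediateField.restrictScalars_injective k ?_, IsFF.finite_adjoin hK.1 (C.transcendental hK hd)⟩
  rw [adjoin_adjoin_left, IntermediateField.restrictScalars_top, Set.singleton_union]
  exact C.gen

theorem natDegree_minpoly (hd : 0 < D.deg) :
    ((minpoly k⟮t / s⟯ (u / s)).natDegree : ℤ) = D.deg := by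
  obtain ⟨h1, h2⟩ := C.adjoin_top hK hd
  rw [← C.finrank_eq hK hd, ← adjoin.finrank (IsIntegral.of_finite _ _), h1,
    IntermediateField.finrank_top']

theorem linearIndependent (hd : 0 < D.deg) :
    LinearIndependent k⟮t / s⟯ fun i : Fin D.deg.toNat => (u / s) ^ (i : ℕ) := by
  have h := C.natDegree_minpoly hK hd
  have h2 : D.deg.toNat = (minpoly k⟮t / s⟯ (u / s)).natDegree := by omega
  exact (linearIndependent_pow (K := k⟮t / s⟯) (u / s)).comp (Fin.cast h2) (Fin.cast_injective _)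

omit hK in
/-- The standard monomials of degree `m`. -/
theorem mono_mem {a b c : ℕ} : s ^ a * t ^ b * u ^ c ∈ V ^ (a + b + c) := by
  rw [pow_add, pow_add]
  exact Submodule.mul_mem_mul (Submodule.mul_mem_mul (Submodule.pow_mem_pow V C.s_mem a)
    (Submodule.pow_mem_pow V C.t_mem b)) (Submodule.pow_mem_pow V C.u_mem c)

omit hK in
theorem pow_le (m : ℕ) : V ^ m ≤ L ((m : ℕ) • D) := by
  induction m with
  | zero =>
    rw [Submodule.pow_zero, zero_nsmul, Submodule.one_le]
    intro Q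
    simp
  | succ m ih =>
    rw [Submodule.pow_succ, succ_nsmul, Submodule.mul_le]
    exact fun a ha b hb => mul_mem_L (ih ha) (C.le hb)

/-- Linear independence of the standard monomials. -/
theorem indep (hd : 0 < D.deg) (m : ℕ) :
    LinearIndependent k fun p : Σ c : Fin D.deg.toNat, Fin (m + 1 - c) =>
      s ^ (m - p.1 - p.2) * t ^ (p.2 : ℕ) * u ^ (p.1 : ℕ) := by
  classical
  have hx := C.transcendental hK hd
  rw [Fintype.linearIndependent_iff]
  intro g hg
  let P : Fin D.deg.toNat → k[X] := fun c => ∑ b : Fin (m + 1 - c), monomial (b : ℕ) (g ⟨c, b⟩)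
  have hsum : ∑ c, (⟨aeval (t / s) (P c), algebra_adjoin_le_adjoin k _
      (by rw [Algebra.adjoin_singleton_eq_range_aeval]; exact ⟨P c, rfl⟩)⟩ : k⟮t / s⟯) •
      (u / s) ^ (c : ℕ) = 0 := by
    have e : s ^ m * ∑ c, aeval (t / s) (P c) * (u / s) ^ (c : ℕ) = 0 := by
      rw [← hg, Fintype.sum_sigma, Finset.mul_sum]
      refine Finset.sum_congr rfl fun c _ => ?_
      simp only [P, map_sum, aeval_monomial, Finset.sum_mul, Finset.mul_sum, Algebra.smul_def]
      refine Finset.sum_congr rfl fun b _ => ?_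
      have hb := b.2
      have he : s ^ m = s ^ (m - c - b) * s ^ (b : ℕ) * s ^ (c : ℕ) := by
        rw [← pow_add, ← pow_add]; congr 1; omega
      rw [he, div_pow, div_pow]
      field_simp [C.s_ne]
    simp only [IntermediateField.smul_def, smul_eq_mul]
    exact (mul_eq_zero.mp e).resolve_left (pow_ne_zero _ C.s_ne)
  rintro ⟨c, b⟩
  have h0 := Fintype.linearIndependent_iff.mp (C.linearIndependent hK hd) _ hsum c
  have h1 : P c = 0 := transcendental_iff.mp hx _ (congrArg Subtype.val h0)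
  have h2 := congrArg (Polynomial.coeff · (b : ℕ)) h1
  simp only [P, finsetSum_coeff, coeff_monomial, coeff_zero] at h2
  rw [Finset.sum_eq_single b (fun x _ hx => if_neg fun e => hx (Fin.ext e))
    (fun h => absurd (Finset.mem_univ b) h), if_pos rfl] at h2
  exact h2

omit hK in
/-- The standard monomials lie in `V ^ m`. -/
theorem range_le (d m : ℕ) :
    Submodule.span k (Set.range fun p : Σ c : Fin d, Fin (m + 1 - c) =>
      s ^ (m - p.1 - p.2) * t ^ (p.2 : ℕ) * u ^ (p.1 : ℕ)) ≤ V ^ m := by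
  refine Submodule.span_le.mpr ?_
  rintro _ ⟨⟨c, b⟩, rfl⟩
  have := C.mono_mem (a := m - c - b) (b := b) (c := c)
  rwa [show m - (c : ℕ) - (b : ℕ) + b + c = m by have := b.2; have := c.2; omega] at this

/-- The monic equation of degree `d` of the plane curve. -/
theorem equation [IsAlgClosed k] (hd : 0 < D.deg) :
    u ^ D.deg.toNat ∈ Submodule.span k (Set.range fun p : Σ c : Fin D.deg.toNat,
      Fin (D.deg.toNat + 1 - c) =>
      s ^ (D.deg.toNat - p.1 - p.2) * t ^ (p.2 : ℕ) * u ^ (p.1 : ℕ)) := by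
  classical
  set d := D.deg.toNat
  have hx := C.transcendental hK hd
  obtain ⟨h1, h2⟩ := C.adjoin_top hK hd
  have hx0 : t / s ≠ 0 := div_ne_zero C.t_ne C.s_ne
  set x := t / s
  set w := u / s with hw
  set f := minpoly k⟮x⟯ w
  have hdeg : f.natDegree = d := by have := C.natDegree_minpoly hK hd; simp only [f, w, d, x]; omega
  have hmon : f.Monic := minpoly.monic (IsIntegral.of_finite _ _)
  let F : k⟮x⟯ := ⟨x, mem_adjoin_simple_self k x⟩
  have hF : F ≠ 0 := fun e => hx0 (congrArg Subtype.val e)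
  -- the minimal polynomial of `u/t`
  let f' : Polynomial k⟮x⟯ := Polynomial.C (F⁻¹ ^ d) * f.comp (Polynomial.C F * Polynomial.X)
  have hf'deg : f'.natDegree ≤ d := by
    refine natDegree_le_iff_coeff_eq_zero.mpr fun N hN => ?_
    rw [coeff_C_mul, comp_C_mul_X_coeff, coeff_eq_zero_of_natDegree_lt (by omega), zero_mul,
      mul_zero]
  have hf'lead : f'.coeff d = 1 := by
    rw [coeff_C_mul, comp_C_mul_X_coeff, ← hdeg, hmon.coeff_natDegree, one_mul, ← mul_pow,
      inv_mul_cancel₀ hF, one_pow]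
  have hf'mon : f'.Monic := monic_of_natDegree_le_of_coeff_eq_one d hf'deg hf'lead
  have hv : aeval (u / t) f' = 0 := by
    rw [map_mul, aeval_comp, map_mul, aeval_C, aeval_C, aeval_X,
      show algebraMap k⟮x⟯ K F * (u / t) = w by
        show t / s * (u / t) = u / s
        field_simp [C.t_ne, C.s_ne],
      minpoly.aeval, mul_zero]
  have hgenv : (k⟮x⟯)⟮u / t⟯ = ⊤ := by
    rw [eq_top_iff, ← h1, adjoin_simple_le_iff]
    rw [show w = algebraMap k⟮x⟯ K F * (u / t) by
      show u / s = t / s * (u / t)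
      field_simp [C.t_ne, C.s_ne]]
    exact mul_mem (IntermediateField.algebraMap_mem _ _) (mem_adjoin_simple_self _ _)
  have hdegv : (minpoly k⟮x⟯ (u / t)).natDegree = d := by
    have := C.finrank_eq hK hd
    rw [← adjoin.finrank (IsIntegral.of_finite _ _), hgenv, IntermediateField.finrank_top']
    simp only [d, x]; omega
  have hf'eq : f' = minpoly k⟮x⟯ (u / t) :=
    eq_of_monic_of_dvd_of_natDegree_le (minpoly.monic (IsIntegral.of_finite _ _)) hf'mon
      (minpoly.dvd _ _ hv) (by omega)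
  have hcoef : ∀ c : Fin d, ∃ p : k[X], (f.coeff c : K) = aeval x p ∧ p.natDegree + c ≤ d := by
    intro c
    obtain ⟨p, hp⟩ := exists_eq_aeval hK hx (f.coeff c).2 fun Q hQ =>
      minpoly_coeff_le hK hx (fun R hR => C.val_div_le C.u_mem C.s_ne (C.exact_s hR)) c Q hQ
    rcases eq_or_ne p 0 with rfl | hp0
    · exact ⟨0, hp, by simp [c.2.le]⟩
    refine ⟨p, hp, ?_⟩
    obtain ⟨B, hB⟩ := exists_place_pole hK.1 hx
    have hxinv : Transcendental k x⁻¹ := transcendental_inv hx
    have hle : B.1 ((f'.coeff c : k⟮x⟯) : K) ≤ 1 := by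
      rw [hf'eq]
      have hF' : k⟮x⁻¹⟯ = k⟮x⟯ := adjoin_inv x
      have hcoe : ∀ (E : IntermediateField k K) (hE : k⟮x⟯ = E),
          ((minpoly E (u / t)).coeff c : K) = ((minpoly k⟮x⟯ (u / t)).coeff c : K) := by
        rintro E rfl; rfl
      rw [← hcoe _ hF'.symm]
      refine minpoly_coeff_le hK hxinv (fun R hR => C.val_div_le C.u_mem C.t_ne (C.exact_t ?_)) c B ?_
      · rw [map_inv₀, inv_le_one₀ (zero_lt_iff.mpr (val_ne_zero R hx0))] at hR; exact hR
      · rw [map_inv₀, inv_le_one₀ (zero_lt_iff.mpr (val_ne_zero B hx0))]; exact hB.le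
    have hval : ((f'.coeff c : k⟮x⟯) : K) = x⁻¹ ^ d * (aeval x p * x ^ (c : ℕ)) := by
      rw [coeff_C_mul, comp_C_mul_X_coeff, ← hp]
      rfl
    rw [hval, map_mul, map_mul, val_aeval_pole B hB hp0, map_pow, map_pow, map_inv₀, inv_pow,
      ← pow_add, inv_mul_le_iff₀ (pow_pos (zero_lt_one.trans hB) _), mul_one] at hle
    exact (pow_le_pow_iff_right₀ hB).mp hle
  choose p hp hpd using hcoef
  have hrel : u ^ d = -∑ c : Fin d, s ^ d * (aeval x (p c) * w ^ (c : ℕ)) := by
    have h0 := minpoly.aeval k⟮x⟯ w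
    rw [aeval_eq_sum_range, show (minpoly k⟮x⟯ w).natDegree = d from hdeg, Finset.sum_range_succ,
      ← Fin.sum_univ_eq_sum_range (fun i => (minpoly k⟮x⟯ w).coeff i • w ^ i) d] at h0
    have hlead : (minpoly k⟮x⟯ w).coeff d = 1 := hdeg ▸ hmon.coeff_natDegree
    rw [hlead, one_smul] at h0
    simp only [IntermediateField.smul_def, smul_eq_mul] at h0
    rw [Finset.sum_congr rfl fun c _ => by rw [show ((minpoly k⟮x⟯ w).coeff (c : ℕ) : K) = _ from hp c]] at h0
    rw [← Finset.mul_sum, eq_neg_iff_add_eq_zero, show u ^ d = s ^ d * w ^ d by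
      rw [hw, div_pow, mul_div_cancel₀ _ (pow_ne_zero _ C.s_ne)], ← mul_add, add_comm, h0, mul_zero]
  rw [hrel]
  refine Submodule.neg_mem _ (Submodule.sum_mem _ fun c _ => ?_)
  have hc := hpd c
  rw [aeval_eq_sum_range, Finset.sum_mul, Finset.mul_sum]
  refine Submodule.sum_mem _ fun b hb => ?_
  rw [Finset.mem_range] at hb
  rw [show s ^ d * ((p c).coeff b • x ^ b * w ^ (c : ℕ)) =
      (p c).coeff b • (s ^ (d - c - b) * t ^ b * u ^ (c : ℕ)) by
    rw [smul_mul_assoc, mul_smul_comm]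
    congr 1
    rw [show s ^ d = s ^ (d - c - b) * s ^ b * s ^ (c : ℕ) by
      rw [← pow_add, ← pow_add]; congr 1; omega, hw]
    simp only [x, div_pow]
    field_simp [C.s_ne]]
  exact Submodule.smul_mem _ _ (Submodule.subset_span ⟨⟨c, ⟨b, by omega⟩⟩, rfl⟩)

/-- `V ^ m` is spanned by the standard monomials. -/
theorem pow_eq [IsAlgClosed k] (hd : 0 < D.deg) (m : ℕ) :
    V ^ m = Submodule.span k (Set.range fun p : Σ c : Fin D.deg.toNat, Fin (m + 1 - c) =>
      s ^ (m - p.1 - p.2) * t ^ (p.2 : ℕ) * u ^ (p.1 : ℕ)) := by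
  classical
  refine le_antisymm ?_ (C.range_le _ m)
  set d := D.deg.toNat
  let W : ℕ → Submodule k K := fun m => Submodule.span k
    (Set.range fun p : Σ c : Fin d, Fin (m + 1 - c) =>
      s ^ (m - p.1 - p.2) * t ^ (p.2 : ℕ) * u ^ (p.1 : ℕ))
  have hmem : ∀ a b c : ℕ, c < d → s ^ a * t ^ b * u ^ c ∈ W (a + b + c) := fun a b c hc =>
    Submodule.subset_span ⟨⟨⟨c, hc⟩, ⟨b, by show b < _ - c; omega⟩⟩, by
      show s ^ (a + b + c - c - b) * t ^ b * u ^ c = _
      rw [show a + b + c - c - b = a by omega]⟩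
  have hmem' : ∀ a b c : ℕ, c ≤ d → s ^ a * t ^ b * u ^ c ∈ W (a + b + c) := by
    intro a b c hc
    rcases eq_or_lt_of_le hc with rfl | hc
    · have hle : (W d).map (LinearMap.mulLeft k (s ^ a * t ^ b)) ≤ W (a + b + d) := by
        rw [Submodule.map_span_le]
        rintro _ ⟨⟨c, b'⟩, rfl⟩
        have := b'.2
        rw [LinearMap.mulLeft_apply, show s ^ a * t ^ b * (s ^ (d - (c : ℕ) - (b' : ℕ)) *
          t ^ (b' : ℕ) * u ^ (c : ℕ)) = s ^ (a + (d - c - b')) * t ^ (b + b') * u ^ (c : ℕ) by ring,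
          show a + b + d = (a + (d - c - b')) + (b + b') + c by omega]
        exact hmem _ _ _ c.2
      exact hle (Submodule.mem_map_of_mem (C.equation hK hd))
    · exact hmem a b c hc
  show V ^ m ≤ W m
  induction m with
  | zero =>
    rw [Submodule.pow_zero, Submodule.one_le]
    have := hmem 0 0 0 (by omega)
    simpa using this
  | succ m ih =>
    rw [pow_succ']
    refine le_trans (mul_le_mul' C.span.le ih) ?_
    rw [Submodule.span_mul_span, Submodule.span_le]
    rintro _ ⟨z, hz, _, ⟨⟨c, b⟩, rfl⟩, rfl⟩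
    have hb := b.2
    have hc := c.2
    rcases hz with rfl | rfl | rfl
    · have := hmem' (m - c - b + 1) b c hc.le
      rw [show m - (c : ℕ) - b + 1 + b + c = m + 1 by omega] at this
      rw [SetLike.mem_coe]
      convert this using 1
      ring
    · have := hmem' (m - c - b) (b + 1) c hc.le
      rw [show m - (c : ℕ) - b + (b + 1) + c = m + 1 by omega] at this
      rw [SetLike.mem_coe]
      convert this using 1
      ring
    · have := hmem' (m - c - b) b (c + 1) hc
      rw [show m - (c : ℕ) - b + b + (c + 1) = m + 1 by omega] at this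
      rw [SetLike.mem_coe]
      convert this using 1
      ring

theorem finrank_pow [IsAlgClosed k] (hd : 0 < D.deg) {m : ℕ} (hm : D.deg ≤ m + 1) :
    2 * (Module.finrank k ↥(V ^ m) : ℤ) = D.deg * (2 * (m : ℤ) + 3 - D.deg) := by
  rw [C.pow_eq hK hd m, finrank_span_eq_card (C.indep hK hd m), Fintype.card_sigma]
  simp only [Fintype.card_fin]
  rw [two_mul_sum_sub _ m (by omega)]
  rw [Int.toNat_of_nonneg hd.le]

end PlaneChart

end Groth.Agent.FFLib
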