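import Groth.Agent.FFLib.Rational
import Groth.Agent.FFLib.PlaneModel
import Mathlib.FieldTheory.RatFunc.IntermediateField
import Mathlib.RingTheory.Polynomial.RationalRoot

/-! Quadratic extensions of function fields. -/

namespace Groth.Agent.FFLib

open FunFld IntermediateField WithZero

variable {k F K : Type*} [Field k] [Field F] [Algebra k F] [Field K] [Algebra k K] [Algebra F K]
  [IsScalarTower k F K]

/-- A decomposition in a quadratic extension. -/
theorem exists_eq_add_mul (hdeg : Module.finrank F K = 2) {z : K}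
    (hz : z ∉ Set.range (algebraMap F K)) (w : K) :
    ∃ a b : F, algebraMap F K a + algebraMap F K b * z = w := by
  have : FiniteDimensional F K := Module.finite_of_finrank_eq_succ hdeg
  have hli : LinearIndependent F ![(1 : K), z] := by
    rw [LinearIndependent.pair_iff' one_ne_zero]
    intro a ha
    exact hz ⟨a, by rw [← ha, Algebra.smul_def, mul_one]⟩
  have hspan := hli.span_eq_top_of_card_eq_finrank (by rw [Fintype.card_fin, hdeg])
  have hw : w ∈ Submodule.span F (Set.range ![(1 : K), z]) := hspan ▸ Submodule.mem_top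
  rw [Submodule.mem_span_range_iff_exists_fun] at hw
  obtain ⟨c, hc⟩ := hw
  refine ⟨c 0, c 1, ?_⟩
  rw [← hc, Fin.sum_univ_two]
  simp [Algebra.smul_def]

variable (hF : IsFF k F)
include hF

/-- Ramification in a quadratic extension. -/
theorem quad_over (hdeg : Module.finrank F K = 2) {Q : Place k K} {P : Place k F} {e : ℕ}
    (h : IsOverWith Q P e) :
    1 ≤ e ∧ e ≤ 2 ∧
      (e = 2 → Q.deg = P.deg ∧ ∀ Q' : Place k K, IsOver Q' P → Q' = Q) := by
  classical
  have : FiniteDimensional F K := Module.finite_of_finrank_eq_succ hdeg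
  have he := over_pos hF h
  set S := (over_finite (K' := K) hF P).toFinset
  have hS : ∀ Q, Q ∈ S ↔ IsOver Q P := fun Q => Set.Finite.mem_toFinset _
  have hsum := sum_ram_deg hF P S hS
  rw [hdeg] at hsum
  have hQ : Q ∈ S := (hS Q).mpr ⟨e, h⟩
  have hle := deg_le_deg_over hF (⟨e, h⟩ : IsOver Q P)
  have hpos := deg_pos hF P
  have h1 := Finset.single_le_sum (f := fun Q => ramIdx Q P * Q.deg) (fun _ _ => Nat.zero_le _) hQ
  simp only [hsum, ramIdx_eq hF h] at h1
  refine ⟨he, ?_, fun he2 => ⟨by subst he2; omega, fun Q' hQ' => ?_⟩⟩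
  · by_contra hgt
    have : 3 * P.deg ≤ e * Q.deg := Nat.mul_le_mul (by omega) hle
    omega
  · by_contra hne
    obtain ⟨e', he'⟩ := hQ'
    have he'1 := over_pos hF he'
    have h2 := Finset.sum_le_sum_of_subset (f := fun Q => ramIdx Q P * Q.deg)
      (Finset.insert_subset_iff.mpr ⟨(hS Q').mpr ⟨e', he'⟩, Finset.singleton_subset_iff.mpr hQ⟩)
    rw [Finset.sum_pair hne, hsum, ramIdx_eq hF h, ramIdx_eq hF he'] at h2
    have := deg_le_deg_over hF (⟨e', he'⟩ : IsOver Q' P)
    have : 1 * P.deg ≤ e' * Q'.deg := Nat.mul_le_mul he'1 this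
    subst he2
    omega

/-- If twice an order upstairs is a multiple of an odd order downstairs, the place ramifies. -/
theorem ramified_of_odd (hdeg : Module.finrank F K = 2) {P : Place k F}
    (hodd : ∀ (Q : Place k K) (e : ℕ), IsOverWith Q P e → ∃ m n : ℤ, Odd n ∧ 2 * m = e * n) :
    (∃! Q : Place k K, IsOver Q P) ∧
      ∀ Q : Place k K, IsOver Q P → IsOverWith Q P 2 ∧ Q.deg = P.deg := by
  have : FiniteDimensional F K := Module.finite_of_finrank_eq_succ hdeg
  have key : ∀ (Q : Place k K) (e : ℕ), IsOverWith Q P e → e = 2 := by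
    intro Q e he
    obtain ⟨h1, h2, -⟩ := quad_over hF hdeg he
    obtain ⟨m, n, ⟨j, rfl⟩, hmn⟩ := hodd Q e he
    interval_cases e
    · omega
    · rfl
  obtain ⟨Q, hQ⟩ := exists_isOver (K' := K) hF P
  obtain ⟨e, he⟩ := id hQ
  refine ⟨⟨Q, hQ, (quad_over hF hdeg he).2.2 (key Q e he) |>.2⟩, fun Q' ⟨e', he'⟩ => ?_⟩
  obtain rfl := key Q' e' he'
  exact ⟨he', ((quad_over hF hdeg he').2.2 rfl).1⟩

omit hF

/-- A place with index two takes even orders on the base. -/
theorem even_ord_of_two {Q : Place k K} {P : Place k F} (h : IsOverWith Q P 2) (a : F) :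
    Even (Q.ord (algebraMap F K a)) := ⟨P.ord a, by rw [ord_over h]; ring⟩

include hF

/-- A place where the square root is a unit is unramified. -/
theorem unramified_of_sq (hdeg : Module.finrank F K = 2) (h2 : (2 : F) ≠ 0) {z : K} {u : F}
    (hzu : z ^ 2 = algebraMap F K u) (hz : z ∉ Set.range (algebraMap F K)) {P : Place k F}
    (hu : Even (P.ord u)) {Q : Place k K} (hQ : IsOver Q P) : IsOverWith Q P 1 := by
  obtain ⟨e, he⟩ := hQ
  obtain ⟨h1, hle, -⟩ := quad_over hF hdeg he
  interval_cases e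
  · exact he
  exfalso
  have hev := even_ord_of_two he
  obtain ⟨w, hw0, hw⟩ := exists_unif Q
  obtain ⟨a, b, hab⟩ := exists_eq_add_mul hdeg hz w
  have hw1 : Q.ord w = 1 := ord_of_val_eq Q hw
  have hzev : Even (Q.ord z) := by
    obtain ⟨j, hj⟩ := hu
    have := ord_pow Q z 2
    rw [hzu, ord_over he, hj] at this
    exact ⟨j, by push_cast at this; omega⟩
  rcases eq_or_ne b 0 with rfl | hb
  · rw [map_zero, zero_mul, add_zero] at hab
    rw [← hab] at hw1
    have := hev a
    rw [hw1] at this
    exact Int.not_even_one this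
  have hz0 : z ≠ 0 := fun e => hz ⟨0, by rw [e, map_zero]⟩
  have hb' : algebraMap F K b ≠ 0 := by simpa using hb
  have hbz : Even (Q.ord (algebraMap F K b * z)) := by
    rw [ord_mul Q hb' hz0]; exact (hev b).add hzev
  rcases eq_or_ne a 0 with rfl | ha
  · rw [map_zero, zero_add] at hab
    rw [hab, hw1] at hbz
    exact Int.not_even_one hbz
  have ha' : algebraMap F K a ≠ 0 := by simpa using ha
  set A := algebraMap F K a with hA
  set B := algebraMap F K b * z with hB
  have hB0 : B ≠ 0 := mul_ne_zero hb' hz0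
  have hAB : Q.1 A = Q.1 B := by
    by_contra hne
    have := Q.1.map_add_of_distinct_val hne
    rw [hab, hw, val_eq_exp Q ha', val_eq_exp Q hB0] at this
    rcases max_choice (exp (-Q.ord A)) (exp (-Q.ord B)) with hm | hm <;>
      rw [hm, exp_inj] at this
    · have := hev a; rw [show Q.ord A = 1 by omega] at this; exact Int.not_even_one this
    · rw [show Q.ord B = 1 by omega] at hbz; exact Int.not_even_one hbz
  have hwlt : Q.1 w < Q.1 A := by
    refine lt_of_le_of_ne (hab ▸ (Q.1.map_add A B).trans (max_le le_rfl hAB.ge)) fun e => ?_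
    rw [hw, val_eq_exp Q ha', exp_inj] at e
    have := hev a
    rw [show Q.ord A = 1 by omega] at this
    exact Int.not_even_one this
  have h2v : Q.1 (2 : K) = 1 := by
    have h2k : (2 : k) ≠ 0 := fun e => h2 (by rw [← map_ofNat (algebraMap k F) 2, e, map_zero])
    rw [← map_ofNat (algebraMap k K) 2]
    exact val_algebraMap Q h2k
  have hconj : Q.1 (A - B) = Q.1 A := by
    have h3 : Q.1 (2 * A) = Q.1 A := by rw [map_mul, h2v, one_mul]
    rw [show A - B = 2 * A - w by rw [← hab]; ring, Q.1.map_sub_eq_of_lt_left (by rwa [h3]), h3]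
  have hne : A - B ≠ 0 := fun e => by
    rw [e, map_zero] at hconj; exact val_ne_zero Q ha' hconj.symm
  have hN : algebraMap F K (a ^ 2 - b ^ 2 * u) = w * (A - B) := by
    rw [← hab, map_sub, map_pow, map_mul, map_pow, ← hzu, hA, hB]
    ring
  have := hev (a ^ 2 - b ^ 2 * u)
  rw [hN, ord_mul Q hw0 hne, hw1] at this
  have hordC : Q.ord (A - B) = Q.ord A := by
    rw [val_eq_exp Q hne, val_eq_exp Q ha', exp_inj] at hconj; omega
  rw [hordC] at this
  obtain ⟨j, hj⟩ := hev a
  rw [← hA] at hj
  obtain ⟨i, hi⟩ := this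
  omega

omit hF in
/-- Twice the order of a root of `Y ^ 2 + Y = c`. -/
theorem ord_as {Q : Place k K} {y c : K} (h : y ^ 2 + y = c) (hc : Q.ord c < 0) :
    2 * Q.ord y = Q.ord c := by
  have hy0 : y ≠ 0 := fun e => by rw [← h, e] at hc; simp at hc
  have hy : Q.ord y < 0 := by
    by_contra hge
    have h1 := (val_le_one_iff Q hy0).mpr (not_lt.mp hge)
    have h2 : Q.1 c ≤ 1 := by
      rw [← h]
      exact (Q.1.map_add _ _).trans (max_le (by rw [map_pow]; exact pow_le_one' h1 2) h1)
    have hc0 : c ≠ 0 := fun e => by rw [e] at hc; simp at hc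
    have := (val_le_one_iff Q hc0).mp h2
    omega
  have hlt : Q.1 y < Q.1 (y ^ 2) := by
    rw [map_pow, val_eq_exp Q hy0, ← exp_nsmul, exp_lt_exp, nsmul_eq_mul]
    push_cast
    omega
  have := Q.1.map_add_eq_of_lt_left hlt
  rw [h, map_pow, val_eq_exp Q hy0, ← exp_nsmul, nsmul_eq_mul] at this
  have h3 := ord_of_val_eq Q (x := c) (n := 2 * Q.ord y) (by rw [this]; congr 1; push_cast; ring)
  omega

/-- An Artin-Schreier extension is unramified where the right-hand side is regular. -/
theorem unramified_of_as (hdeg : Module.finrank F K = 2) (h2 : (2 : F) = 0) {y : K} {f : F}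
    (hyf : y ^ 2 + y = algebraMap F K f) (hy : y ∉ Set.range (algebraMap F K)) {P : Place k F}
    (hf : P.1 f ≤ 1) {Q : Place k K} (hQ : IsOver Q P) : IsOverWith Q P 1 := by
  classical
  obtain ⟨e, he⟩ := hQ
  obtain ⟨h1, hle, hram⟩ := quad_over hF hdeg he
  interval_cases e
  · exact he
  exfalso
  obtain ⟨hdeq, -⟩ := hram rfl
  have : FiniteDimensional F K := Module.finite_of_finrank_eq_succ hdeg
  have h2K : (2 : K) = 0 := by rw [← map_ofNat (algebraMap F K) 2, h2, map_zero]
  have hev := even_ord_of_two he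
  have hy1 : Q.1 y ≤ 1 := by
    by_contra hgt
    rw [not_le] at hgt
    have hlt : Q.1 y < Q.1 (y ^ 2) := by
      rw [map_pow]
      exact lt_self_pow₀ hgt (by norm_num)
    have h3 := Q.1.map_add_eq_of_lt_left hlt
    rw [hyf, he f] at h3
    exact ((hgt.trans hlt).trans_eq h3.symm).not_ge (pow_le_one' hf 2)
  -- a residue representative of `y` in the base
  obtain ⟨c, hc1, hc⟩ : ∃ c : F, P.1 c ≤ 1 ∧ Q.1 (y - algebraMap F K c) < 1 := by
    obtain ⟨a, ha⟩ := exists_resIndep hF P
    have hnot : ¬ ResIndep Q (Fin.cons y fun i => algebraMap F K (a i) : Fin (P.deg + 1) → K) := by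
      intro hind
      have := ResIndep.card_le (IsFF.ext hF) hind
      omega
    have hreg : ∀ i, Q.1 ((Fin.cons y fun i => algebraMap F K (a i) : Fin (P.deg + 1) → K) i) ≤ 1 := by
      intro i
      refine Fin.cases ?_ (fun i => ?_) i
      · exact hy1
      · rw [Fin.cons_succ, he]; exact pow_le_one' (ha.1 i) 2
    have hex : ∃ c : Fin (P.deg + 1) → k,
        Q.1 (∑ i, c i • (Fin.cons y fun i => algebraMap F K (a i) : Fin (P.deg + 1) → K) i) < 1 ∧
          c ≠ 0 := by
      by_contra! hall
      exact hnot ⟨hreg, hall⟩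
    obtain ⟨d, hd, hdne⟩ := hex
    rw [Fin.sum_univ_succ] at hd
    simp only [Fin.cons_zero, Fin.cons_succ] at hd
    have hmap : ∑ i : Fin P.deg, d i.succ • algebraMap F K (a i) =
        algebraMap F K (∑ i : Fin P.deg, d i.succ • a i) := by
      rw [map_sum]
      exact Finset.sum_congr rfl fun i _ =>
        (map_smul (IsScalarTower.toAlgHom k F K) (d i.succ) (a i)).symm
    rw [hmap] at hd
    set s := ∑ i : Fin P.deg, d i.succ • a i
    have hs : P.1 s ≤ 1 := Valuation.map_sum_le _ fun i _ => by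
      rw [Algebra.smul_def, map_mul]
      exact (mul_le_mul' (P.2.1 _) (ha.1 i)).trans_eq (one_mul _)
    rcases eq_or_ne (d 0) 0 with h0 | h0
    · rw [h0, zero_smul, zero_add, he] at hd
      have hs' : P.1 s < 1 := by
        by_contra hge
        exact hd.not_ge (one_le_pow₀ (not_lt.mp hge))
      refine absurd (funext fun i => ?_) hdne
      refine Fin.cases h0 (fun i => ?_) i
      exact congrFun (ha.2 (fun i => d i.succ) hs') i
    · refine ⟨-((d 0)⁻¹ • s), ?_, ?_⟩
      · rw [Valuation.map_neg, val_smul P (inv_ne_zero h0)]; exact hs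
      · rw [map_neg, sub_neg_eq_add,
          show algebraMap F K ((d 0)⁻¹ • s) = (d 0)⁻¹ • algebraMap F K s from
            map_smul (IsScalarTower.toAlgHom k F K) _ _]
        rw [← val_smul Q h0, smul_add, smul_smul, mul_inv_cancel₀ h0, one_smul]
        exact hd
  set z := y - algebraMap F K c with hz
  have hzr : z ∉ Set.range (algebraMap F K) := fun ⟨r, hr⟩ => hy ⟨r + c, by
    rw [map_add, hr, hz, sub_add_cancel]⟩
  set g := f - c ^ 2 - c with hg
  have hzg : z * (z + 1) = algebraMap F K g := by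
    rw [hg, map_sub, map_sub, map_pow, ← hyf, hz]
    linear_combination (-(algebraMap F K c) * y + algebraMap F K c ^ 2) * h2K
  have hz1 : Q.1 (z + 1) = 1 := by
    rw [Q.1.map_add_eq_of_lt_right (by rw [map_one]; exact hc), map_one]
  have hz0 : z ≠ 0 := fun e => hzr ⟨0, by rw [map_zero, e]⟩
  have hzev : Even (Q.ord z) := by
    have : Q.1 z = Q.1 (algebraMap F K g) := by rw [← hzg, map_mul, hz1, mul_one]
    have hg0 : algebraMap F K g ≠ 0 := fun e => by
      rw [e, map_zero] at this; exact val_ne_zero Q hz0 this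
    rw [val_eq_exp Q hz0, val_eq_exp Q hg0, exp_inj] at this
    rw [show Q.ord z = Q.ord (algebraMap F K g) by omega]
    exact hev g
  obtain ⟨w, hw0, hw⟩ := exists_unif Q
  obtain ⟨a, b, hab⟩ := exists_eq_add_mul hdeg hzr w
  have hw1 : Q.ord w = 1 := ord_of_val_eq Q hw
  rcases eq_or_ne b 0 with rfl | hb
  · rw [map_zero, zero_mul, add_zero] at hab
    rw [← hab] at hw1
    have := hev a
    rw [hw1] at this
    exact Int.not_even_one this
  have hb' : algebraMap F K b ≠ 0 := by simpa using hb
  set A := algebraMap F K a with hA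
  set B := algebraMap F K b * z with hB
  have hB0 : B ≠ 0 := mul_ne_zero hb' hz0
  have hbz : Even (Q.ord B) := by rw [hB, ord_mul Q hb' hz0]; exact (hev b).add hzev
  rcases eq_or_ne a 0 with ha | ha
  · rw [hA, ha, map_zero, zero_add] at hab
    rw [hab, hw1] at hbz
    exact Int.not_even_one hbz
  have ha' : A ≠ 0 := by simpa [hA] using ha
  have hAB : Q.1 A = Q.1 B := by
    by_contra hne
    have := Q.1.map_add_of_distinct_val hne
    rw [hab, hw, val_eq_exp Q ha', val_eq_exp Q hB0] at this
    rcases max_choice (exp (-Q.ord A)) (exp (-Q.ord B)) with hm | hm <;>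
      rw [hm, exp_inj] at this
    · have := hev a; rw [← hA, show Q.ord A = 1 by omega] at this; exact Int.not_even_one this
    · rw [show Q.ord B = 1 by omega] at hbz; exact Int.not_even_one hbz
  -- the conjugate `A + B + b`
  have hwlt : Q.1 w < Q.1 (algebraMap F K b) := by
    refine (hab ▸ (Q.1.map_add A B).trans (max_le hAB.le le_rfl) : Q.1 w ≤ Q.1 B).trans_lt ?_
    rw [hB, map_mul]
    exact (mul_lt_iff_lt_one_right (zero_lt_iff.mpr (val_ne_zero Q hb'))).mpr hc
  have hconj : Q.1 (w + algebraMap F K b) = Q.1 (algebraMap F K b) :=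
    Q.1.map_add_eq_of_lt_right hwlt
  have hne : w + algebraMap F K b ≠ 0 := fun e => by
    rw [e, map_zero] at hconj; exact val_ne_zero Q hb' hconj.symm
  have hN : algebraMap F K (a ^ 2 + a * b + b ^ 2 * g) = w * (w + algebraMap F K b) := by
    rw [← hab, hA, hB, map_add, map_add, map_pow, map_mul, map_mul, map_pow, ← hzg]
    linear_combination (-(algebraMap F K a * algebraMap F K b * z)) * h2K
  have := hev (a ^ 2 + a * b + b ^ 2 * g)
  rw [hN, ord_mul Q hw0 hne, hw1] at this
  have hordC : Q.ord (w + algebraMap F K b) = Q.ord (algebraMap F K b) := by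
    rw [val_eq_exp Q hne, val_eq_exp Q hb', exp_inj] at hconj; omega
  rw [hordC] at this
  obtain ⟨j, hj⟩ := hev b
  obtain ⟨i, hi⟩ := this
  omega

omit hF

variable (k) in
theorem isFF_ratFunc : IsFF k (RatFunc k) := by
  refine ⟨RatFunc.X, RatFunc.transcendental_X, ?_⟩
  rw [RatFunc.adjoin_X]
  exact Module.Finite.of_surjective (Algebra.linearMap (⊤ : IntermediateField k (RatFunc k)) _)
    fun x => ⟨⟨x, trivial⟩, rfl⟩

/-- The place at infinity of the rational function field. -/
theorem ratFunc_infinity (P : Place k (RatFunc k)) (hP : P.ord (RatFunc.X : RatFunc k) < 0) :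
    P.ord (RatFunc.X : RatFunc k) = -1 ∧ P.deg = 1 ∧
      ∀ p : Polynomial k, p ≠ 0 → P.ord (algebraMap (Polynomial k) (RatFunc k) p) = -p.natDegree := by
  classical
  have hF := isFF_ratFunc k
  have hX : Transcendental k (RatFunc.X : RatFunc k) := RatFunc.transcendental_X
  have hdeg := deg_poles hF hX
  rw [RatFunc.adjoin_X, IntermediateField.finrank_top] at hdeg
  have hle : Finsupp.single P (-P.ord (RatFunc.X : RatFunc k)) ≤
      (poles (RatFunc.X : RatFunc k) : Divisor k (RatFunc k)) := fun Q => by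
    by_cases hQ : P = Q
    · subst hQ; simp [poles, div_apply hF]
    · simpa [hQ] using poles_nonneg (RatFunc.X : RatFunc k) Q
  have hdP := Divisor.deg_mono hle
  rw [Divisor.deg_single, hdeg] at hdP
  have hpos := deg_pos hF P
  push_cast at hdP
  have h1 : P.ord (RatFunc.X : RatFunc k) = -1 := by nlinarith
  rw [h1] at hdP
  refine ⟨h1, by omega, fun p hp => ?_⟩
  have hX0 : (RatFunc.X : RatFunc k) ≠ 0 := RatFunc.X_ne_zero
  have hmap : algebraMap (Polynomial k) (RatFunc k) p = Polynomial.aeval (RatFunc.X : RatFunc k) p := by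
    rw [← RatFunc.algebraMap_X, Polynomial.aeval_algebraMap_apply, Polynomial.aeval_X_left_apply]
  have hv := val_aeval_pole P ((one_lt_val_iff P hX0).mpr hP) hp
  rw [← hmap, val_eq_exp P hX0, h1, ← exp_nsmul] at hv
  exact ord_of_val_eq P (by rw [hv]; congr 1; rw [nsmul_eq_mul]; ring)

/-- Orders of polynomials at finite places. -/
theorem ratFunc_squarefree (P : Place k (RatFunc k)) (hX : 0 ≤ P.ord (RatFunc.X : RatFunc k))
    {f : Polynomial k} (hf : Squarefree f) :
    P.ord (algebraMap (Polynomial k) (RatFunc k) f) = 0 ∨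
      P.ord (algebraMap (Polynomial k) (RatFunc k) f) = 1 := by
  have hX1 : P.1 (RatFunc.X : RatFunc k) ≤ 1 := (val_le_one_iff P RatFunc.X_ne_zero).mpr hX
  let ι := algebraMap (Polynomial k) (RatFunc k)
  have hι : ∀ q, P.1 (ι q) ≤ 1 := fun q => by
    induction q using Polynomial.induction_on' with
    | add a b ha hb => rw [map_add]; exact (P.1.map_add _ _).trans (max_le ha hb)
    | monomial n a =>
      rw [← Polynomial.C_mul_X_pow_eq_monomial, map_mul, map_pow, map_mul, map_pow]
      refine mul_le_one' ?_ (pow_le_one' ?_ n)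
      · rw [show ι (Polynomial.C a) = algebraMap k (RatFunc k) a from
          (IsScalarTower.algebraMap_apply k (Polynomial k) (RatFunc k) a).symm]
        exact P.2.1 a
      · rw [show ι Polynomial.X = RatFunc.X from RatFunc.algebraMap_X]; exact hX1
  let 𝔭 : Ideal (Polynomial k) :=
    { carrier := {q | P.1 (ι q) < 1}
      add_mem' := fun {a b} ha hb => by
        show P.1 (ι (a + b)) < 1
        rw [map_add]; exact (P.1.map_add _ _).trans_lt (max_lt ha hb)
      zero_mem' := by simp
      smul_mem' := fun r a ha => by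
        show P.1 (ι (r * a)) < 1
        rw [map_mul, map_mul]; exact (mul_le_mul' (hι r) le_rfl).trans_lt (by rwa [one_mul]) }
  have hmem : ∀ q, q ∈ 𝔭 ↔ P.1 (ι q) < 1 := fun q => Iff.rfl
  have hpp : 𝔭.IsPrime := by
    refine ⟨fun h => ?_, fun {a b} hab => ?_⟩
    · have := (hmem 1).mp (h ▸ trivial)
      simp at this
    · simp only [hmem, map_mul] at hab ⊢
      by_contra! hcon
      exact (one_le_mul hcon.1 hcon.2).not_gt hab
  obtain ⟨p, hp⟩ := (IsPrincipalIdealRing.principal 𝔭).principal
  have hp' : ∀ q, P.1 (ι q) < 1 ↔ p ∣ q := fun q => by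
    rw [← hmem, hp]; exact Ideal.mem_span_singleton
  obtain ⟨w, hw0, hw⟩ := exists_unif P
  have hf0 : f ≠ 0 := hf.ne_zero
  have hunit : ∀ q, ¬ p ∣ q → P.1 (ι q) = 1 := fun q hq =>
    le_antisymm (hι q) (not_lt.mp (mt (hp' q).mp hq))
  by_cases hdvd : p ∣ f
  · right
    obtain ⟨r, rfl⟩ := hdvd
    have hpu : ¬ IsUnit p := fun h => by
      have := (hp' 1).mpr h.dvd
      simp at this
    have hr : ¬ p ∣ r := fun h => hpu (hf p (mul_dvd_mul_left p h))
    rw [map_mul]
    refine ord_of_val_eq P ?_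
    rw [map_mul, hunit r hr, mul_one]
    -- `p` is a uniformizer
    have hp0 : p ≠ 0 := left_ne_zero_of_mul hf0
    have hpow : ∀ q : Polynomial k, q ≠ 0 → ∃ n : ℕ, P.1 (ι q) = P.1 (ι p) ^ n := fun q hq => by
      obtain ⟨m, r', hr', rfl⟩ := WfDvdMonoid.max_power_factor' hq hpu
      exact ⟨m, by rw [map_mul, map_pow, map_mul, map_pow, hunit r' hr', mul_one]⟩
    have hden : RatFunc.denom w ≠ 0 := RatFunc.denom_ne_zero w
    have hnum : RatFunc.num w ≠ 0 := RatFunc.num_ne_zero hw0
    obtain ⟨m, hm⟩ := hpow _ hnum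
    obtain ⟨n, hn⟩ := hpow _ hden
    have hip : ι p ≠ 0 := by simpa [ι] using hp0
    have hlt := (hp' p).mpr dvd_rfl
    rw [val_lt_one_iff P hip] at hlt
    have : P.1 w = P.1 (ι p) ^ m / P.1 (ι p) ^ n := by
      conv_lhs => rw [← RatFunc.num_div_denom w]
      rw [map_div₀, hm, hn]
    rw [hw, val_eq_exp P hip, ← exp_nsmul, ← exp_nsmul, ← exp_sub, exp_inj] at this
    simp only [nsmul_eq_mul] at this
    have hone : P.ord (ι p) * ((m : ℤ) - n) = 1 := by linarith
    rw [val_eq_exp P hip]
    congr 1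
    rcases Int.eq_one_or_neg_one_of_mul_eq_one hone with h | h <;> omega
  · left
    exact ord_of_val_eq P (by rw [hunit f hdvd, neg_zero, exp_zero])

end Groth.Agent.FFLib
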