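import Groth.Agent.FFLib.LSpace
import Mathlib.RingTheory.AlgebraTower
import Mathlib.Algebra.Polynomial.Basis

/-! Degree of principal divisors, Riemann's inequality, genus. -/

namespace Groth.Agent.FFLib

open FunFld IntermediateField WithZero Polynomial

variable {k K : Type*} [Field k] [Field K] [Algebra k K]

/-- The pole divisor of `x`. -/
noncomputable def poles (x : K) : Divisor k K :=
  (FunFld.div k x).mapRange (fun n => max (-n) 0) (by simp)

/-- The zero divisor of `x`. -/
noncomputable def zeros (x : K) : Divisor k K :=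
  (FunFld.div k x).mapRange (fun n => max n 0) (by simp)

theorem poles_nonneg (x : K) : (0 : Divisor k K) ≤ poles x := fun P => by simp [poles]

theorem transcendental_inv {x : K} (hx : Transcendental k x) : Transcendental k x⁻¹ :=
  fun h => hx (by simpa using h.inv)

theorem adjoin_inv (x : K) : k⟮x⁻¹⟯ = k⟮x⟯ := by
  apply le_antisymm <;> rw [adjoin_simple_le_iff]
  · exact inv_mem (mem_adjoin_simple_self k x)
  · simpa using inv_mem (mem_adjoin_simple_self k x⁻¹)

theorem linearIndependent_powers {x : K} (hx : Transcendental k x) :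
    LinearIndependent k fun i : ℕ => x ^ i := by
  have := (Polynomial.basisMonomials k).linearIndependent.map' (aeval x).toLinearMap
    (LinearMap.ker_eq_bot.mpr (transcendental_iff_injective.mp hx))
  simpa [Function.comp_def, aeval_monomial] using this

variable (hF : IsFF k K)
include hF

theorem val_le_exp_poles (x : K) (P : Place k K) : P.1 x ≤ exp (poles (k := k) x P) := by
  rcases eq_or_ne x 0 with rfl | hx
  · simp
  rw [val_le_exp_iff P hx, poles, Finsupp.mapRange_apply, div_apply hF]
  omega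

theorem deg_poles_le {x : K} (hx : Transcendental k x) :
    (poles x : Divisor k K).deg ≤ Module.finrank k⟮x⟯ K := by
  have hx0 : x ≠ 0 := fun e => hx (e ▸ isAlgebraic_zero)
  have hmem : ∀ P ∈ (poles x : Divisor k K).support, P.ord x < 0 := fun P hP => by
    rw [Finsupp.mem_support_iff, poles, Finsupp.mapRange_apply, div_apply hF] at hP
    omega
  have h := sum_ord_deg_le hF (poles x : Divisor k K).support (transcendental_inv hx)
    fun P hP => (val_lt_one_iff P (inv_ne_zero hx0)).mpr (by rw [ord_inv]; linarith [hmem P hP])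
  rw [adjoin_inv] at h
  refine le_of_eq_of_le (Finset.sum_congr rfl fun P hP => ?_) h
  rw [ord_inv, poles, Finsupp.mapRange_apply, div_apply hF, max_eq_left]
  linarith [hmem P hP]

theorem exists_ell_lower {x : K} (hx : Transcendental k x) :
    ∃ C : Divisor k K, 0 ≤ C ∧ ∀ l : ℕ,
      (l + 1) * Module.finrank k⟮x⟯ K ≤ ell ((l : ℤ) • poles x + C) := by
  have := hF.finite_adjoin hx
  let b := Module.finBasis k⟮x⟯ K
  refine ⟨∑ i, poles (b i), Finset.sum_nonneg fun i _ => poles_nonneg _, fun l => ?_⟩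
  have hfin := L_finite hF ((l : ℤ) • poles x + ∑ i, poles (k := k) (b i))
  have hpow : LinearIndependent k fun j : Fin (l + 1) => (AdjoinSimple.gen k x) ^ (j : ℕ) := by
    refine LinearIndependent.of_comp k⟮x⟯.val.toLinearMap ?_
    have := (linearIndependent_powers hx).comp (fun j : Fin (l + 1) => (j : ℕ)) Fin.val_injective
    simpa [Function.comp_def] using this
  have hind := linearIndependent_smul hpow b.linearIndependent
  have hmem : ∀ p : Fin (l + 1) × Fin (Module.finrank k⟮x⟯ K),
      (AdjoinSimple.gen k x) ^ (p.1 : ℕ) • b p.2 ∈ L ((l : ℤ) • poles x + ∑ i, poles (k := k) (b i)) := by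
    intro p P
    rw [IntermediateField.smul_def, SubmonoidClass.coe_pow, AdjoinSimple.coe_gen, smul_eq_mul,
      map_mul, map_pow, Finsupp.add_apply, exp_add]
    refine mul_le_mul' ?_ ((val_le_exp_poles hF _ P).trans (exp_le_exp.mpr ?_))
    · refine (pow_le_pow_left' (val_le_exp_poles hF x P) _).trans ?_
      rw [← exp_nsmul, exp_le_exp, Finsupp.smul_apply, smul_eq_mul, nsmul_eq_mul]
      exact mul_le_mul_of_nonneg_right (by have := p.1.2; push_cast; omega) (poles_nonneg x P)
    · rw [Finsupp.finsetSum_apply]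
      exact Finset.single_le_sum (f := fun i => poles (k := k) (b i) P)
        (fun i _ => poles_nonneg _ P) (Finset.mem_univ p.2)
  let w := fun p => (⟨_, hmem p⟩ : L _)
  have hw : LinearIndependent k w := LinearIndependent.of_comp (Submodule.subtype _) hind
  have := hw.fintype_card_le_finrank
  simpa [ell] using this

theorem deg_poles {x : K} (hx : Transcendental k x) :
    (poles x : Divisor k K).deg = Module.finrank k⟮x⟯ K := by
  refine le_antisymm (deg_poles_le hF hx) ?_
  obtain ⟨C, hC, hl⟩ := exists_ell_lower hF hx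
  by_contra hlt
  set n : ℕ := Module.finrank k⟮x⟯ K
  set B : Divisor k K := poles x
  let l : ℕ := (C.deg + ell (0 : Divisor k K)).toNat
  have h1 := (ell_le_of_le hF (D := 0) (E := (l : ℤ) • B + C)
    (add_nonneg (fun P => by simpa using mul_nonneg (Int.natCast_nonneg l) (poles_nonneg x P)) hC)).2
  have hdeg : ((l : ℤ) • B).deg = l * B.deg := by
    induction l with
    | zero => simp
    | succ l ih => push_cast; rw [add_smul, one_smul, Divisor.deg_add, ih]; ring
  rw [Divisor.deg_zero, sub_zero, Divisor.deg_add, hdeg] at h1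
  have h2 : ((l : ℤ) + 1) * n ≤ ell ((l : ℤ) • B + C) := by exact_mod_cast hl l
  have h3 : (l : ℤ) * B.deg ≤ l * ((n : ℤ) - 1) :=
    mul_le_mul_of_nonneg_left (by omega) (Int.natCast_nonneg l)
  have h4 : C.deg + ell (0 : Divisor k K) ≤ l := Int.self_le_toNat _
  have h5 : (0 : ℤ) ≤ B.deg := Divisor.deg_nonneg (poles_nonneg x)
  have h6 : (1 : ℤ) ≤ n := by omega
  nlinarith

theorem div_inv (x : K) : FunFld.div k x⁻¹ = -FunFld.div k x := by
  ext P; simp [div_apply hF, ord_inv]

theorem poles_inv (x : K) : (poles x⁻¹ : Divisor k K) = zeros x := by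
  ext P; simp [poles, zeros, div_inv hF]

omit hF in
theorem div_eq_zeros_sub_poles (x : K) : FunFld.div k x = zeros x - poles x := by
  ext P
  simp [zeros, poles]

theorem deg_zeros {x : K} (hx : Transcendental k x) :
    (zeros x : Divisor k K).deg = Module.finrank k⟮x⟯ K := by
  rw [← poles_inv hF, deg_poles hF (transcendental_inv hx), adjoin_inv]

theorem deg_div (x : K) : (FunFld.div k x).deg = 0 := by
  by_cases hx : Transcendental k x
  · rw [div_eq_zeros_sub_poles, Divisor.deg_sub, deg_zeros hF hx, deg_poles hF hx, sub_self]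
  · rw [div_eq_zero_of_algebraic hF (not_not.mp hx), Divisor.deg_zero]

theorem exists_le_add_div {D : Divisor k K} (h : 0 < ell D) :
    ∃ z : K, z ≠ 0 ∧ z ∈ L D ∧ 0 ≤ D + FunFld.div k z := by
  obtain ⟨z, hz, hz0⟩ : ∃ z ∈ L D, z ≠ 0 := by
    by_contra! hall
    rw [ell, (Submodule.eq_bot_iff _).mpr hall, finrank_bot] at h
    omega
  refine ⟨z, hz0, hz, fun P => ?_⟩
  have := (mem_L_iff_ord hz0).mp hz P
  simp [div_apply hF]
  omega

theorem deg_nonneg_of_ell_pos {D : Divisor k K} (h : 0 < ell D) : 0 ≤ D.deg := by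
  obtain ⟨z, -, -, hz⟩ := exists_le_add_div hF h
  simpa [Divisor.deg_add, deg_div hF] using Divisor.deg_nonneg hz

theorem ell_eq_zero_of_deg_neg {D : Divisor k K} (h : D.deg < 0) : ell D = 0 := by
  by_contra h0
  have := deg_nonneg_of_ell_pos hF (Nat.pos_of_ne_zero h0)
  omega

theorem exists_bound : ∃ γ : ℤ, ∀ D : Divisor k K, D.deg - ell D ≤ γ := by
  classical
  obtain ⟨x, hx, -⟩ := id hF
  obtain ⟨C, hC, hl⟩ := exists_ell_lower hF hx
  set n : ℕ := Module.finrank k⟮x⟯ K
  have hn : 0 < n := by
    have := hF.finite_adjoin hx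
    exact Module.finrank_pos
  set B : Divisor k K := poles x
  have hB : ∀ l : ℕ, ((l : ℤ) • B).deg = l * n := fun l => by
    rw [← deg_poles hF hx]
    induction l with
    | zero => simp
    | succ l ih => push_cast; rw [add_smul, one_smul, Divisor.deg_add, ih]; ring
  have hlB : ∀ l : ℕ, ((l : ℤ) + 1) * n - C.deg ≤ ell ((l : ℤ) • B) := fun l => by
    have h1 := (ell_le_of_le hF (le_add_of_nonneg_right (a := (l : ℤ) • B) hC)).2
    have h2 : ((l : ℤ) + 1) * n ≤ ell ((l : ℤ) • B + C) := by exact_mod_cast hl l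
    rw [Divisor.deg_add] at h1
    omega
  refine ⟨C.deg - n, fun D => ?_⟩
  let D' : Divisor k K := D.mapRange (max · 0) (max_self 0)
  have hDD : D ≤ D' := fun P => by simp [D']
  have hD0 : 0 ≤ D' := fun P => by simp [D']
  let l : ℕ := (C.deg + D'.deg).toNat
  have hl' : C.deg + D'.deg ≤ l := Int.self_le_toNat _
  have hpos : 0 < ell ((l : ℤ) • B - D') := by
    have h1 := (ell_le_of_le hF (sub_le_self ((l : ℤ) • B) hD0)).2
    rw [Divisor.deg_sub] at h1
    have := hlB l
    have h3 : ((l : ℤ) + 1) * 1 ≤ ((l : ℤ) + 1) * n :=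
      mul_le_mul_of_nonneg_left (by omega) (by omega)
    omega
  obtain ⟨z, hz0, -, hz⟩ := exists_le_add_div hF hpos
  have hle : D ≤ (l : ℤ) • B + FunFld.div k z := hDD.trans (fun P => by
    have := hz P; simp at this ⊢; omega)
  have h1 := (ell_le_of_le hF hle).2
  rw [ell_add_div hF _ hz0, Divisor.deg_add, deg_div hF, add_zero, hB] at h1
  have := hlB l
  nlinarith

theorem bddAbove_genus :
    BddAbove (Set.range fun D : Divisor k K => (D.deg + 1 - (ell D : ℤ)).toNat) := by
  obtain ⟨γ, hγ⟩ := exists_bound hF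
  refine ⟨(γ + 1).toNat, ?_⟩
  rintro _ ⟨D, rfl⟩
  have := hγ D
  exact Int.toNat_le_toNat (by omega)

/-- Riemann's inequality. -/
theorem riemann (D : Divisor k K) : D.deg + 1 - ell D ≤ (genus k K : ℤ) := by
  have : (D.deg + 1 - (ell D : ℤ)).toNat ≤ genus k K := le_csSup (bddAbove_genus hF) ⟨D, rfl⟩
  omega

omit hF

theorem exists_genus_attained (hK : IsFunctionField k K) :
    ∃ D : Divisor k K, D.deg + 1 - ell D = (genus k K : ℤ) := by
  obtain ⟨D, hD⟩ : genus k K ∈ Set.range fun D : Divisor k K => (D.deg + 1 - (ell D : ℤ)).toNat :=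
    Nat.sSup_mem (Set.range_nonempty _) (bddAbove_genus hK.1)
  rcases le_or_gt 0 (D.deg + 1 - (ell D : ℤ)) with h | h
  · exact ⟨D, by simp only at hD; omega⟩
  · refine ⟨0, ?_⟩
    simp only at hD
    rw [Divisor.deg_zero, ell_zero hK]
    omega

theorem exists_riemann_eq (hK : IsFunctionField k K) :
    ∃ N : ℤ, ∀ D : Divisor k K, N ≤ D.deg → (ell D : ℤ) = D.deg + 1 - genus k K := by
  obtain ⟨D₀, hD₀⟩ := exists_genus_attained hK
  refine ⟨D₀.deg + genus k K, fun D hD => ?_⟩
  have h1 := riemann hK.1 (D - D₀)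
  rw [Divisor.deg_sub] at h1
  obtain ⟨z, hz0, -, hz⟩ := exists_le_add_div hK.1 (D := D - D₀) (by omega)
  have hle : D₀ ≤ D + FunFld.div k z := fun P => by have := hz P; simp at this ⊢; omega
  have h2 := (ell_le_of_le hK.1 hle).2
  rw [ell_add_div hK.1 _ hz0, Divisor.deg_add, deg_div hK.1, add_zero] at h2
  have := riemann hK.1 D
  omega

end Groth.Agent.FFLib
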