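import Groth.Agent.FFLib.PlaneGenus
import Mathlib.RingTheory.MvPolynomial.Homogeneous
import Mathlib.Algebra.BigOperators.Field

/-! Nonsingular points of projective curves: separation of points and tangents. -/

namespace Groth.Agent.FFLib

open FunFld IntermediateField WithZero

variable {k K : Type*} [Field k] [Field K] [Algebra k K]

/-- The entry of least order is exact. -/
theorem exists_exact_entry {ι : Type*} {φ : ι → K} {D : Divisor k K}
    (h : IsBpfSeries D (Submodule.span k (Set.range φ))) (P : Place k K) :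
    ∃ j, φ j ≠ 0 ∧ P.ord (φ j) = -D P := by
  obtain ⟨v, hv, hv0, hvP⟩ := h.exact P
  by_contra! hall
  have : Submodule.span k (Set.range φ) ≤ L (D - Finsupp.single P 1) := Submodule.span_le.mpr <| by
    rintro _ ⟨i, rfl⟩
    by_contra hni
    obtain ⟨e1, e2⟩ := (not_mem_L_sub_iff (h.le (Submodule.subset_span ⟨i, rfl⟩))).mp hni
    exact hall i e1 e2
  exact (not_mem_L_sub_iff (h.le hv)).mpr ⟨hv0, hvP⟩ (this hv)

theorem ord_eq_of_min {ι : Type*} {φ : ι → K} {D : Divisor k K}
    (h : IsBpfSeries D (Submodule.span k (Set.range φ))) {P : Place k K} {j : ι} (hj0 : φ j ≠ 0)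
    (hmin : ∀ i, P.1 (φ i) ≤ P.1 (φ j)) : P.ord (φ j) = -D P := by
  obtain ⟨i, hi0, hiP⟩ := exists_exact_entry h P
  have h1 := (mem_L_iff_ord hj0).mp (h.le (Submodule.subset_span ⟨j, rfl⟩)) P
  have h2 := hmin i
  rw [val_eq_exp P hi0, val_eq_exp P hj0, exp_le_exp, hiP] at h2
  omega

/-- Membership in the local ring in homogeneous terms. -/
theorem inLocRing_iff_pow {ι : Type*} {φ : ι → K} {D : Divisor k K}
    (h : IsBpfSeries D (Submodule.span k (Set.range φ))) (P : Place k K) (z : K) :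
    InLocRing φ P z ↔ ∃ (m : ℕ) (b : K), b ∈ Submodule.span k (Set.range φ) ^ m ∧ b ≠ 0 ∧
      P.ord b = -(m * D P) ∧ z * b ∈ Submodule.span k (Set.range φ) ^ m := by
  set V := Submodule.span k (Set.range φ) with hV
  have hφ : ∀ i, φ i ∈ V := fun i => Submodule.subset_span ⟨i, rfl⟩
  have hrange : ∀ a, (Set.range fun i => φ i / a) = (fun z => z / a) '' Set.range φ := fun a => by
    rw [← Set.range_comp]; rfl
  constructor
  · rintro ⟨j, hj0, hmin, u', hu, w, hw, hw1, he⟩
    have hjP := ord_eq_of_min h hj0 hmin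
    rw [hrange] at hu hw
    obtain ⟨m₁, h1⟩ := (mem_adjoin_div_iff (hφ j) hj0 Submodule.subset_span le_rfl).mp hw
    obtain ⟨m₂, h2⟩ := (mem_adjoin_div_iff (hφ j) hj0 Submodule.subset_span le_rfl).mp hu
    have hw0 : w ≠ 0 := fun e => by rw [e, map_zero] at hw1; exact zero_ne_one hw1
    refine ⟨m₁ + m₂, w * φ j ^ (m₁ + m₂), ?_, mul_ne_zero hw0 (pow_ne_zero _ hj0), ?_, ?_⟩
    · rw [show w * φ j ^ (m₁ + m₂) = w * φ j ^ m₁ * φ j ^ m₂ by rw [pow_add, mul_assoc], pow_add]
      exact Submodule.mul_mem_mul h1 (Submodule.pow_mem_pow V (hφ j) m₂)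
    · rw [ord_mul P hw0 (pow_ne_zero _ hj0), ord_pow, hjP,
        ord_of_val_eq P (n := 0) (by rw [hw1, neg_zero, exp_zero])]
      push_cast
      ring
    · rw [← mul_assoc, he, add_comm m₁,
        show u' * φ j ^ (m₂ + m₁) = u' * φ j ^ m₂ * φ j ^ m₁ by rw [pow_add, mul_assoc], pow_add]
      exact Submodule.mul_mem_mul h2 (Submodule.pow_mem_pow V (hφ j) m₁)
  · rintro ⟨m, b, hb, hb0, hbP, hzb⟩
    obtain ⟨j, hj0, hjP⟩ := exists_exact_entry h P
    refine ⟨j, hj0, fun i => ?_, z * b / φ j ^ m, ?_, b / φ j ^ m, ?_, ?_, by rw [mul_div_assoc]⟩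
    · rw [val_eq_exp P hj0, hjP, neg_neg]
      exact h.le (hφ i) P
    · rw [hrange, mem_adjoin_div_iff (hφ j) hj0 Submodule.subset_span le_rfl]
      exact ⟨m, by rwa [div_mul_cancel₀ _ (pow_ne_zero _ hj0)]⟩
    · rw [hrange, mem_adjoin_div_iff (hφ j) hj0 Submodule.subset_span le_rfl]
      exact ⟨m, by rwa [div_mul_cancel₀ _ (pow_ne_zero _ hj0)]⟩
    · rw [map_div₀, map_pow, val_eq_exp P hb0, val_eq_exp P hj0, hbP, hjP, neg_neg, neg_neg,
        ← exp_nsmul, nsmul_eq_mul, div_self exp_ne_zero]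

/-- Evaluation of a form at scaled arguments. -/
theorem aeval_div_of_isHomogeneous {σ : Type*} {g : MvPolynomial σ k} {e : ℕ}
    (hg : g.IsHomogeneous e) (φ : σ → K) (a : K) :
    MvPolynomial.aeval (fun i => φ i / a) g = MvPolynomial.aeval φ g / a ^ e := by
  simp only [MvPolynomial.aeval_def, MvPolynomial.eval₂_eq, Finset.sum_div]
  refine Finset.sum_congr rfl fun d hd => ?_
  simp only [div_pow, Finset.prod_div_distrib, Finset.prod_pow_eq_pow_sum]
  rw [show ∑ i ∈ d.support, d i = e from (hg.degree_eq_sum_deg_support hd).symm, mul_div_assoc]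

variable (hK : IsFunctionField k K)
include hK

/-- A linearly independent tuple spans a base point free series for its divisor. -/
theorem isBpfSeries_span' {ι : Type*} [Fintype ι] [Nonempty ι] {φ : ι → K}
    (h : LinearIndependent k φ) :
    IsBpfSeries (FunFld.mapDiv k φ) (Submodule.span k (Set.range φ)) := by
  refine ⟨Submodule.span_le.mpr ?_, fun Q => ?_⟩
  · rintro _ ⟨i, rfl⟩ Q
    rw [val_le_exp_iff Q (h.ne_zero i), mapDiv_apply hK.1, neg_neg]
    exact Finset.inf'_le _ (Finset.mem_univ i)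
  · obtain ⟨i, -, hi⟩ := Finset.exists_mem_eq_inf' Finset.univ_nonempty (fun i => Q.ord (φ i))
    exact ⟨φ i, Submodule.subset_span ⟨i, rfl⟩, h.ne_zero i, by rw [mapDiv_apply hK.1, hi, neg_neg]⟩

/-- Two members without common base point, the first exact at a given place. -/
theorem exists_pair [Infinite k] {D : Divisor k K} {V : Submodule k K} (h : IsBpfSeries D V)
    (P : Place k K) : ∃ s ∈ V, ∃ t ∈ V, s ≠ 0 ∧ t ≠ 0 ∧ P.ord s = -D P ∧
      ∀ Q : Place k K, Q.ord s = -D Q ∨ Q.ord t = -D Q := by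
  classical
  obtain ⟨s, hs, hs0, hsP⟩ := h.exact P
  let S : Finset (Place k K) := (D + FunFld.div k s).support
  have hmem : ∀ Q, Q ∉ S → Q.ord s = -D Q := fun Q hQ => by
    rw [Finsupp.notMem_support_iff, Finsupp.add_apply, div_apply hK.1] at hQ
    omega
  let p : S → Submodule k V := fun Q => (L (D - Finsupp.single (Q : Place k K) 1)).comap V.subtype
  have hp : ∀ Q, p Q ≠ ⊤ := fun Q htop => by
    obtain ⟨z, hz, hz0, hzQ⟩ := h.exact Q
    have : (⟨z, hz⟩ : V) ∈ p Q := by rw [htop]; trivial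
    exact ((not_mem_L_sub_iff (h.le hz)).mpr ⟨hz0, hzQ⟩) this
  obtain ⟨⟨t', ht'⟩, htS⟩ := Submodule.exists_forall_notMem_of_forall_ne_top p hp
  rcases isEmpty_or_nonempty S with he | ⟨⟨Q₀⟩⟩
  · exact ⟨s, hs, s, hs, hs0, hs0, hsP, fun Q => Or.inl (hmem Q fun h' => he.false ⟨Q, h'⟩)⟩
  · refine ⟨s, hs, t', ht', hs0, ((not_mem_L_sub_iff (h.le ht')).mp (htS Q₀)).1, hsP, fun Q => ?_⟩
    by_cases hQ : Q ∈ S
    · exact Or.inr ((not_mem_L_sub_iff (h.le ht')).mp (htS ⟨Q, hQ⟩)).2
    · exact Or.inl (hmem Q hQ)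

omit hK in
theorem exp_mem_mul_pow {V : Submodule k K} {s : K} (hs : s ∈ V) {b : K} {m : ℕ} (hb : b ∈ V ^ m)
    (e : ℕ) : b * s ^ e ∈ V ^ (m + e) := by
  rw [pow_add]
  exact Submodule.mul_mem_mul hb (Submodule.pow_mem_pow V hs e)

/-- `L(nD)` is generated by `V` and one piece `L(n₀ D)`. -/
theorem L_le_pow_mul {D : Divisor k K} {V : Submodule k K} {s t : K} (hle : V ≤ L D) (hs : s ∈ V)
    (hs0 : s ≠ 0) (ht : t ∈ V) (ht0 : t ≠ 0)
    (hst : ∀ Q : Place k K, Q.ord s = -D Q ∨ Q.ord t = -D Q) (hd : 0 ≤ D.deg) {n₀ : ℕ}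
    (hn₀ : 2 * (genus k K : ℤ) - 2 + D.deg < n₀ * D.deg) (q : ℕ) :
    L ((n₀ + q : ℕ) • D) ≤ V ^ q * L ((n₀ : ℕ) • D) := by
  induction q with
  | zero => rw [add_zero, Submodule.pow_zero, one_mul]
  | succ q ih =>
    intro z hz
    rw [← add_assoc, succ_nsmul] at hz
    obtain ⟨a, ha, b, hb, rfl⟩ := pencil_decomp hK (hle hs) hs0 (hle ht) ht0 hst
      (((n₀ + q) : ℕ) • D) (by
        rw [Divisor.deg_sub, ← natCast_zsmul, deg_zsmul]
        push_cast
        nlinarith) hz hd
    rw [pow_succ', mul_assoc, mul_comm a, mul_comm b]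
    exact Submodule.add_mem _ (Submodule.mul_mem_mul hs (ih ha)) (Submodule.mul_mem_mul ht (ih hb))

/-- Reduction of nonsingularity to the generators `L(n₀ D)`. -/
theorem isNonsingularAt_of_generators [IsAlgClosed k] {ι : Type*} {φ : ι → K} {D : Divisor k K}
    (h : IsBpfSeries D (Submodule.span k (Set.range φ))) (hd : 0 < D.deg) (P : Place k K) {n₀ : ℕ}
    (hn₀ : 2 * (genus k K : ℤ) - 2 + D.deg < n₀ * D.deg) {b : K} {e : ℕ}
    (hb : b ∈ Submodule.span k (Set.range φ) ^ e) (hb0 : b ≠ 0) (hbP : P.ord b = -(e * D P))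
    (hgen : ∀ z ∈ L ((n₀ : ℕ) • D), z * b ∈ Submodule.span k (Set.range φ) ^ (n₀ + e)) :
    IsNonsingularAt φ P := by
  intro z hz
  rw [inLocRing_iff_pow h]
  set V := Submodule.span k (Set.range φ) with hV
  obtain ⟨s, hs, t, ht, hs0, ht0, hsP, hst⟩ := exists_pair hK h P
  have hpoleP : poles z P = 0 := by
    rcases eq_or_ne z 0 with rfl | hz0
    · simp [poles, div_apply hK.1, Place.ord]
    · rw [poles, Finsupp.mapRange_apply, div_apply hK.1]
      have := (val_le_one_iff P hz0).mp hz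
      omega
  have hp0 : (0 : ℤ) ≤ (poles z : Divisor k K).deg := Divisor.deg_nonneg (poles_nonneg z)
  set q : ℕ := 2 * genus k K + (poles z : Divisor k K).deg.toNat + 1 with hq
  have hdeg : ((n₀ + q : ℕ) • D).deg = (n₀ + q : ℕ) * D.deg := by rw [← natCast_zsmul, deg_zsmul]
  have hbig : 2 * (genus k K : ℤ) + (poles z : Divisor k K).deg ≤ (n₀ + q : ℕ) * D.deg := by
    have h0 : 2 * (genus k K : ℤ) + (poles z : Divisor k K).deg ≤ (q : ℕ) := by omega
    have h1 : ((q : ℕ) : ℤ) ≤ ((n₀ + q : ℕ) : ℤ) * D.deg := by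
      push_cast
      nlinarith [Int.natCast_nonneg n₀, Int.natCast_nonneg q]
    linarith
  obtain ⟨w, hw, hw0, hwP⟩ := noBase_of_deg hK (D := (n₀ + q : ℕ) • D - poles z)
    (by rw [Divisor.deg_sub, hdeg]; linarith) P
  rw [Finsupp.sub_apply, Finsupp.smul_apply, hpoleP, sub_zero, nsmul_eq_mul] at hwP
  have hzw : z * w ∈ L ((n₀ + q : ℕ) • D) := fun Q => by
    rw [map_mul, show ((n₀ + q : ℕ) • D) Q =
      poles z Q + ((n₀ + q : ℕ) • D - poles z : Divisor k K) Q by
      rw [Finsupp.sub_apply]; omega, exp_add]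
    exact mul_le_mul' (val_le_exp_poles hK.1 z Q) (hw Q)
  have key : ∀ v ∈ L ((n₀ + q : ℕ) • D), v * b ∈ V ^ (q + (n₀ + e)) := by
    have h2 : V ^ q * L ((n₀ : ℕ) • D) ≤ (V ^ (q + (n₀ + e))).comap (LinearMap.mulRight k b) :=
      Submodule.mul_le.mpr fun a ha c hc => by
        rw [Submodule.mem_comap, LinearMap.mulRight_apply, pow_add, mul_assoc]
        exact Submodule.mul_mem_mul ha (hgen c hc)
    exact fun v hv => h2 (L_le_pow_mul hK h.le hs hs0 ht ht0 hst hd.le hn₀ q hv)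
  refine ⟨q + (n₀ + e), w * b, key w (L_mono (sub_le_self _ (poles_nonneg z)) hw),
    mul_ne_zero hw0 hb0, ?_, ?_⟩
  · rw [ord_mul P hw0 hb0, hwP, hbP]
    push_cast
    ring
  · rw [← mul_assoc]
    exact key _ hzw

/-- Separating points and tangents at `P` gives nonsingularity. -/
theorem isNonsingularAt_of_bpf [IsAlgClosed k] {ι : Type*} {φ : ι → K} {D : Divisor k K}
    (h : IsBpfSeries D (Submodule.span k (Set.range φ))) (hd : 0 < D.deg) (P : Place k K)
    (h' : IsBpfSeries (D - Finsupp.single P 1)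
      (Submodule.span k (Set.range φ) ⊓ L (D - Finsupp.single P 1))) :
    IsNonsingularAt φ P := by
  classical
  set V := Submodule.span k (Set.range φ) with hV
  obtain ⟨s, hs, t, ht, hs0, ht0, hsP, hst⟩ := exists_pair hK h P
  obtain ⟨s₂, hs₂, t₂, ht₂, hs₂0, ht₂0, -, hst₂⟩ := exists_pair hK h' P
  obtain ⟨n₀, hn⟩ : ∃ n₀ : ℕ, 2 * (genus k K : ℤ) + D.deg + 1 ≤ n₀ * D.deg :=
    ⟨(2 * (genus k K : ℤ) + D.deg + 1).toNat, by
      have := Int.self_le_toNat (2 * (genus k K : ℤ) + D.deg + 1); nlinarith⟩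
  let R := Algebra.adjoin k ((fun v => v / s) '' (V : Set K))
  have hRiff : ∀ {r : K}, r ∈ R ↔ ∃ m : ℕ, r * s ^ m ∈ V ^ m := fun {r} =>
    mem_adjoin_div_iff hs hs0 subset_rfl (fun v hv => Submodule.subset_span hv)
  have hVR : ∀ v ∈ V, v / s ∈ R := fun v hv => Algebra.subset_adjoin ⟨v, hv, rfl⟩
  have hvalV : ∀ (m : ℕ), ∀ v ∈ L ((m : ℕ) • D), P.1 (v / s ^ m) ≤ 1 := fun m v hv => by
    rcases eq_or_ne v 0 with rfl | hv0
    · simp
    rw [val_le_one_iff P (div_ne_zero hv0 (pow_ne_zero _ hs0)), div_eq_mul_inv,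
      ord_mul P hv0 (inv_ne_zero (pow_ne_zero _ hs0)), ord_inv, ord_pow, hsP]
    have := (mem_L_iff_ord hv0).mp hv P
    rw [Finsupp.smul_apply, nsmul_eq_mul] at this
    linarith
  have hpow : ∀ m : ℕ, V ^ m ≤ L ((m : ℕ) • D) := by
    intro m
    induction m with
    | zero =>
      rw [Submodule.pow_zero, zero_nsmul, Submodule.one_le]
      intro Q
      simp
    | succ m ih =>
      rw [Submodule.pow_succ, succ_nsmul, Submodule.mul_le]
      exact fun a ha b hb => mul_mem_L (ih ha) (h.le hb)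
  have hRle : ∀ r ∈ R, P.1 r ≤ 1 := fun r hr => by
    obtain ⟨m, hm⟩ := hRiff.mp hr
    have := hvalV m _ (hpow m hm)
    rwa [mul_div_cancel_right₀ _ (pow_ne_zero _ hs0)] at this
  let I : Ideal R :=
    { carrier := {r | P.1 (r : K) < 1}
      add_mem' := fun {a b} ha hb => (P.1.map_add _ _).trans_lt (max_lt ha hb)
      zero_mem' := by simp
      smul_mem' := fun r a ha => by
        show P.1 ((r : K) * (a : K)) < 1
        rw [map_mul]
        exact (mul_le_mul' (hRle r r.2) le_rfl).trans_lt (by rwa [one_mul]) }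
  let M : Submodule R K := Submodule.span R ((fun v => v / s ^ n₀) '' (L ((n₀ : ℕ) • D) : Set K))
  have hMfg : M.FG := by
    have := L_finite hK.1 ((n₀ : ℕ) • D)
    obtain ⟨σ, hσ⟩ := Submodule.fg_iff_finiteDimensional _ |>.mpr this
    refine ⟨σ.image (fun v => v / s ^ n₀), le_antisymm (Submodule.span_le.mpr ?_) (Submodule.span_le.mpr ?_)⟩
    · intro x hx
      obtain ⟨v, hv, rfl⟩ := Finset.mem_image.mp (Finset.mem_coe.mp hx)
      exact Submodule.subset_span ⟨v, by rw [← hσ]; exact Submodule.subset_span hv, rfl⟩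
    · rintro _ ⟨v, hv, rfl⟩
      rw [← hσ] at hv
      refine Submodule.span_le_restrictScalars k R _ ?_
      show v / s ^ n₀ ∈ _
      rw [Finset.coe_image, div_eq_mul_inv]
      have := Submodule.mem_map_of_mem (f := LinearMap.mulRight k (s ^ n₀)⁻¹) hv
      rw [Submodule.map_span] at this
      simp only [LinearMap.mulRight_apply] at this
      have efun : (fun v : K => v / s ^ n₀) = ⇑(LinearMap.mulRight k (s ^ n₀)⁻¹) := by
        funext a
        simp [div_eq_mul_inv]
      rw [efun]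
      exact this
  let q := (Submodule.span R {(1 : K)}).mkQ
  have hsmall : ∀ v ∈ V ⊓ L (D - Finsupp.single P 1), ∃ hr : v / s ∈ R, (⟨v / s, hr⟩ : R) ∈ I := by
    intro v hv
    refine ⟨hVR v hv.1, ?_⟩
    show P.1 (v / s) < 1
    have := ((mem_L_sub_single zero_le_one).mp hv.2).2
    rw [← lt_exp_iff_le_exp_pred] at this
    rw [map_div₀, val_eq_exp P hs0, hsP, neg_neg, div_lt_one₀ (zero_lt_iff.mpr exp_ne_zero)]
    exact this
  have hle : M.map q ≤ I • M.map q := by
    rw [← Submodule.map_smul'']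
    refine Submodule.map_le_iff_le_comap.mpr (Submodule.span_le.mpr ?_)
    rintro _ ⟨x, hx, rfl⟩
    obtain ⟨c, hc⟩ := exists_value hK.1 (deg_eq_one hK.1 P) (hvalV n₀ x hx)
    have hy : (x - algebraMap k K c * s ^ n₀) * s ∈ L ((n₀ : ℕ) • D + (D - Finsupp.single P 1)) := by
      rw [← add_sub_assoc, ← succ_nsmul, mem_L_sub_single zero_le_one]
      have hmem : x - algebraMap k K c * s ^ n₀ ∈ L ((n₀ : ℕ) • D) := by
        refine Submodule.sub_mem _ hx ?_
        rw [← Algebra.smul_def]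
        exact Submodule.smul_mem _ c (hpow n₀ (Submodule.pow_mem_pow V hs n₀))
      refine ⟨by rw [succ_nsmul]; exact mul_mem_L hmem (h.le hs), ?_⟩
      rw [← lt_exp_iff_le_exp_pred, show (x - algebraMap k K c * s ^ n₀) * s =
        (x / s ^ n₀ - algebraMap k K c) * s ^ (n₀ + 1) by field_simp [hs0]; ring]
      rw [map_mul, map_pow, val_eq_exp P hs0, hsP, neg_neg, ← exp_nsmul, Finsupp.smul_apply]
      exact (mul_lt_mul_of_pos_right hc (zero_lt_iff.mpr exp_ne_zero)).trans_eq (one_mul _)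
    obtain ⟨a, ha, b, hb, hab⟩ := pencil_decomp hK hs₂.2 hs₂0 ht₂.2 ht₂0 hst₂ _
      (by rw [Divisor.deg_sub, Divisor.deg_sub, Divisor.deg_single, deg_eq_one hK.1,
            ← natCast_zsmul, deg_zsmul]; push_cast; omega) hy
      (by rw [Divisor.deg_sub, Divisor.deg_single, deg_eq_one hK.1]; omega)
    obtain ⟨hr₁, hi₁⟩ := hsmall s₂ hs₂
    obtain ⟨hr₂, hi₂⟩ := hsmall t₂ ht₂
    refine ⟨s₂ / s * (a / s ^ n₀) + t₂ / s * (b / s ^ n₀), Submodule.add_mem _
      (Submodule.smul_mem_smul hi₁ (Submodule.subset_span ⟨a, ha, rfl⟩))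
      (Submodule.smul_mem_smul hi₂ (Submodule.subset_span ⟨b, hb, rfl⟩)), ?_⟩
    rw [Submodule.mkQ_apply, Submodule.mkQ_apply, Submodule.Quotient.eq]
    have e : s₂ / s * (a / s ^ n₀) + t₂ / s * (b / s ^ n₀) - x / s ^ n₀ = -algebraMap k K c := by
      field_simp [hs0]
      linear_combination -hab
    rw [e]
    exact Submodule.neg_mem _ (Submodule.mem_span_singleton.mpr
      ⟨⟨algebraMap k K c, R.algebraMap_mem c⟩, mul_one _⟩)
  obtain ⟨⟨r, hr⟩, hr1, hr2⟩ :=
    Submodule.exists_sub_one_mem_and_smul_eq_zero_of_fg_of_le_smul I _ (hMfg.map q) hle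
  have hrv : P.1 r = 1 := by
    have h1 : P.1 (r - 1) < 1 := hr1
    have h2 := P.1.map_add_eq_of_lt_left (x := (1 : K)) (y := r - 1) (by rwa [map_one])
    rwa [map_one, add_sub_cancel] at h2
  have hr0 : r ≠ 0 := fun e => by rw [e, map_zero] at hrv; exact zero_ne_one hrv
  have hrN : ∀ x ∈ L ((n₀ : ℕ) • D), r * (x / s ^ n₀) ∈ R := fun x hx => by
    have := hr2 _ (Submodule.mem_map_of_mem (f := q) (Submodule.subset_span ⟨x, hx, rfl⟩))
    rw [← map_smul, Submodule.mkQ_apply, Submodule.Quotient.mk_eq_zero,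
      Submodule.mem_span_singleton] at this
    obtain ⟨⟨r', hr'⟩, he⟩ := this
    have he' : r' * 1 = r * (x / s ^ n₀) := he
    rw [← he', mul_one]
    exact hr'
  obtain ⟨e₀, he₀⟩ := hRiff.mp hr
  have := L_finite hK.1 ((n₀ : ℕ) • D)
  let basis := Module.finBasis k (L ((n₀ : ℕ) • D))
  choose l hl using fun i => hRiff.mp (hrN _ (basis i).2)
  set e := e₀ + Finset.univ.sup l with he
  refine isNonsingularAt_of_generators hK h hd P (n₀ := n₀) (by omega) (b := r * s ^ e) (e := e) ?_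
    (mul_ne_zero hr0 (pow_ne_zero _ hs0)) ?_ ?_
  · rw [he, show r * s ^ (e₀ + Finset.univ.sup l) = r * s ^ e₀ * s ^ Finset.univ.sup l by
      rw [pow_add, mul_assoc]]
    exact exp_mem_mul_pow hs he₀ _
  · rw [ord_mul P hr0 (pow_ne_zero _ hs0), ord_pow, hsP,
      ord_of_val_eq P (n := 0) (by rw [hrv, neg_zero, exp_zero])]
    ring
  · intro z hz
    have hz' : z = ∑ i, basis.repr ⟨z, hz⟩ i • (basis i : K) := by
      conv_lhs => rw [show z = ((⟨z, hz⟩ : L ((n₀ : ℕ) • D)) : K) from rfl, ← basis.sum_repr ⟨z, hz⟩]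
      rw [Submodule.coe_sum]
      rfl
    rw [hz', Finset.sum_mul]
    refine Submodule.sum_mem _ fun i _ => ?_
    rw [smul_mul_assoc]
    refine Submodule.smul_mem _ _ ?_
    have hle' : l i ≤ n₀ + e := by
      have := Finset.le_sup (f := l) (Finset.mem_univ i); omega
    have h1 := exp_mem_mul_pow hs (hl i) (n₀ + e - l i)
    rw [show r * ((basis i : K) / s ^ n₀) * s ^ l i * s ^ (n₀ + e - l i) = (basis i : K) * (r * s ^ e) by
      rw [mul_assoc, ← pow_add, Nat.add_sub_cancel' hle', pow_add]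
      field_simp [hs0], Nat.add_sub_cancel' hle'] at h1
    exact h1

omit hK in
/-- A function of the local ring with a pole at `Q` separates `Q` from `P`. -/
theorem exists_exact_of_pole [IsAlgClosed k] (hK : IsFunctionField k K) {ι : Type*} {φ : ι → K}
    {D : Divisor k K}
    (h : IsBpfSeries D (Submodule.span k (Set.range φ))) {P Q : Place k K} (hQP : Q ≠ P) {z : K}
    (hz : InLocRing φ P z) (hzQ : 1 < Q.1 z) :
    ∃ v ∈ Submodule.span k (Set.range φ) ⊓ L (D - Finsupp.single P 1),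
      v ≠ 0 ∧ Q.ord v = -(D - Finsupp.single P 1 : Divisor k K) Q := by
  classical
  rw [Finsupp.sub_apply, Finsupp.single_apply, if_neg hQP.symm, sub_zero]
  by_contra! hall
  set V := Submodule.span k (Set.range φ) with hV
  obtain ⟨j, hj0, hmin, u, hu, w, hw, hw1, he⟩ := hz
  have hjP := ord_eq_of_min h hj0 hmin
  have hjV : φ j ∈ V := Submodule.subset_span ⟨j, rfl⟩
  have hjQ : Q.ord (φ j) = -D Q := by
    obtain ⟨v, hv, hv0, hvQ⟩ := h.exact Q
    obtain ⟨c, hc⟩ := exists_value hK.1 (deg_eq_one hK.1 P) (x := v / φ j) (by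
      rw [map_div₀, div_le_one₀ (zero_lt_iff.mpr (val_ne_zero P hj0)), val_eq_exp P hj0, hjP, neg_neg]
      exact h.le hv P)
    by_contra hne
    have hlt : φ j ∈ L (D - Finsupp.single Q 1) := by
      by_contra hni
      exact hne ((not_mem_L_sub_iff (h.le hjV)).mp hni).2
    have hmemP : v - c • φ j ∈ V ⊓ L (D - Finsupp.single P 1) := by
      refine ⟨V.sub_mem hv (V.smul_mem c hjV), (mem_L_sub_single zero_le_one).mpr
        ⟨h.le (V.sub_mem hv (V.smul_mem c hjV)), ?_⟩⟩
      rw [← lt_exp_iff_le_exp_pred, show v - c • φ j = (v / φ j - algebraMap k K c) * φ j by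
        rw [Algebra.smul_def, sub_mul, div_mul_cancel₀ _ hj0], map_mul, val_eq_exp P hj0, hjP, neg_neg]
      exact (mul_lt_mul_of_pos_right hc (zero_lt_iff.mpr exp_ne_zero)).trans_eq (one_mul _)
    have hni : v - c • φ j ∉ L (D - Finsupp.single Q 1) := fun hm => by
      have := Submodule.add_mem _ hm (Submodule.smul_mem _ c hlt)
      rw [sub_add_cancel] at this
      exact (not_mem_L_sub_iff (h.le hv)).mpr ⟨hv0, hvQ⟩ this
    obtain ⟨e0, e1⟩ := (not_mem_L_sub_iff (h.le hmemP.1)).mp hni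
    exact hall _ hmemP e0 e1
  let A : Subalgebra k K :=
    { carrier := {r | P.1 r ≤ 1 ∧ ∃ c : k, P.1 (r - algebraMap k K c) < 1 ∧ Q.1 (r - algebraMap k K c) < 1}
      algebraMap_mem' := fun c => ⟨P.2.1 c, c, by simp, by simp⟩
      add_mem' := by
        rintro a b ⟨ha, c, hc, hc'⟩ ⟨hb, d, hd, hd'⟩
        refine ⟨(P.1.map_add a b).trans (max_le ha hb), c + d, ?_, ?_⟩ <;>
        · rw [map_add, add_sub_add_comm]
          exact (Valuation.map_add _ _ _).trans_lt (max_lt ‹_› ‹_›)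
      mul_mem' := by
        rintro a b ⟨ha, c, hc, hc'⟩ ⟨hb, d, hd, hd'⟩
        have hQa : Q.1 a ≤ 1 := by
          simpa using (Q.1.map_add (a - algebraMap k K c) (algebraMap k K c)).trans (max_le hc'.le (Q.2.1 c))
        refine ⟨by rw [map_mul]; exact mul_le_one' ha hb, c * d, ?_, ?_⟩
        all_goals
          rw [map_mul, show a * b - algebraMap k K c * algebraMap k K d =
            a * (b - algebraMap k K d) + algebraMap k K d * (a - algebraMap k K c) by ring]
        · refine (Valuation.map_add _ _ _).trans_lt (max_lt ?_ ?_) <;> rw [map_mul]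
          · exact (mul_le_mul' ha le_rfl).trans_lt (by rwa [one_mul])
          · exact (mul_le_mul' (P.2.1 d) le_rfl).trans_lt (by rwa [one_mul])
        · refine (Valuation.map_add _ _ _).trans_lt (max_lt ?_ ?_) <;> rw [map_mul]
          · exact (mul_le_mul' hQa le_rfl).trans_lt (by rwa [one_mul])
          · exact (mul_le_mul' (Q.2.1 d) le_rfl).trans_lt (by rwa [one_mul]) }
  have hA : ∀ r ∈ Algebra.adjoin k (Set.range fun i => φ i / φ j), r ∈ A := by
    refine fun r hr => (Algebra.adjoin_le (S := A) ?_) hr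
    rintro _ ⟨i, rfl⟩
    have hPi : P.1 (φ i / φ j) ≤ 1 := by
      rw [map_div₀, div_le_one₀ (zero_lt_iff.mpr (val_ne_zero P hj0))]; exact hmin i
    obtain ⟨c, hc⟩ := exists_value hK.1 (deg_eq_one hK.1 P) hPi
    refine ⟨hPi, c, hc, ?_⟩
    have hvV : φ i - c • φ j ∈ V := V.sub_mem (Submodule.subset_span ⟨i, rfl⟩) (V.smul_mem c hjV)
    have e : φ i / φ j - algebraMap k K c = (φ i - c • φ j) / φ j := by
      rw [Algebra.smul_def, sub_div, mul_div_cancel_right₀ _ hj0]
    have hvP : φ i - c • φ j ∈ L (D - Finsupp.single P 1) := (mem_L_sub_single zero_le_one).mpr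
      ⟨h.le hvV, by
        rw [← lt_exp_iff_le_exp_pred]
        rw [e, map_div₀, div_lt_one₀ (zero_lt_iff.mpr (val_ne_zero P hj0)), val_eq_exp P hj0, hjP,
          neg_neg] at hc
        exact hc⟩
    have hvQ : φ i - c • φ j ∈ L (D - Finsupp.single Q 1) := by
      by_contra hni
      obtain ⟨e0, e1⟩ := (not_mem_L_sub_iff (h.le hvV)).mp hni
      exact hall _ ⟨hvV, hvP⟩ e0 e1
    have := ((mem_L_sub_single zero_le_one).mp hvQ).2
    rw [← lt_exp_iff_le_exp_pred] at this
    rw [e, map_div₀, div_lt_one₀ (zero_lt_iff.mpr (val_ne_zero Q hj0)), val_eq_exp Q hj0, hjQ,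
      neg_neg]
    exact this
  obtain ⟨hu1, cu, -, huQ⟩ := hA u hu
  obtain ⟨-, cw, hwP, hwQ⟩ := hA w hw
  have hcw : cw ≠ 0 := fun e0 => by
    rw [e0, map_zero, sub_zero, hw1] at hwP; exact lt_irrefl _ hwP
  have hwQ1 : Q.1 w = 1 := by
    have := Q.1.map_add_eq_of_lt_left (x := algebraMap k K cw) (y := w - algebraMap k K cw)
      (by rwa [val_algebraMap Q hcw])
    rwa [add_sub_cancel, val_algebraMap Q hcw] at this
  have huQ1 : Q.1 u ≤ 1 := by
    simpa using (Q.1.map_add (u - algebraMap k K cu) (algebraMap k K cu)).trans (max_le huQ.le (Q.2.1 cu))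
  rw [← he, map_mul, hwQ1, mul_one] at huQ1
  exact huQ1.not_gt hzQ

omit hK in
/-- A uniformizer in the local ring gives a tangent line. -/
theorem exists_exact_of_uniformizer [IsAlgClosed k] (hK : IsFunctionField k K) {ι : Type*}
    {φ : ι → K} {D : Divisor k K}
    (h : IsBpfSeries D (Submodule.span k (Set.range φ))) {P : Place k K} {t : K}
    (hz : InLocRing φ P t) (ht : P.1 t = exp (-1 : ℤ)) :
    ∃ v ∈ Submodule.span k (Set.range φ) ⊓ L (D - Finsupp.single P 1),
      v ≠ 0 ∧ P.ord v = -(D - Finsupp.single P 1 : Divisor k K) P := by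
  classical
  by_contra! hall
  set V := Submodule.span k (Set.range φ) with hV
  obtain ⟨j, hj0, hmin, u, hu, w, hw, hw1, he⟩ := hz
  have hjP := ord_eq_of_min h hj0 hmin
  have hjV : φ j ∈ V := Submodule.subset_span ⟨j, rfl⟩
  let A : Subalgebra k K :=
    { carrier := {r | P.1 r ≤ 1 ∧ ∃ c : k, P.1 (r - algebraMap k K c) ≤ exp (-2 : ℤ)}
      algebraMap_mem' := fun c => ⟨P.2.1 c, c, by simp⟩
      add_mem' := by
        rintro a b ⟨ha, c, hc⟩ ⟨hb, d, hd⟩
        refine ⟨(P.1.map_add a b).trans (max_le ha hb), c + d, ?_⟩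
        rw [map_add, add_sub_add_comm]
        exact (Valuation.map_add _ _ _).trans (max_le hc hd)
      mul_mem' := by
        rintro a b ⟨ha, c, hc⟩ ⟨hb, d, hd⟩
        refine ⟨by rw [map_mul]; exact mul_le_one' ha hb, c * d, ?_⟩
        rw [map_mul, show a * b - algebraMap k K c * algebraMap k K d =
          a * (b - algebraMap k K d) + algebraMap k K d * (a - algebraMap k K c) by ring]
        refine (Valuation.map_add _ _ _).trans (max_le ?_ ?_) <;> rw [map_mul]
        · exact (mul_le_mul' ha hd).trans_eq (one_mul _)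
        · exact (mul_le_mul' (P.2.1 d) hc).trans_eq (one_mul _) }
  have hA : ∀ r ∈ Algebra.adjoin k (Set.range fun i => φ i / φ j), r ∈ A := by
    refine fun r hr => (Algebra.adjoin_le (S := A) ?_) hr
    rintro _ ⟨i, rfl⟩
    have hPi : P.1 (φ i / φ j) ≤ 1 := by
      rw [map_div₀, div_le_one₀ (zero_lt_iff.mpr (val_ne_zero P hj0))]; exact hmin i
    obtain ⟨c, hc⟩ := exists_value hK.1 (deg_eq_one hK.1 P) hPi
    refine ⟨hPi, c, ?_⟩
    have hvV : φ i - c • φ j ∈ V := V.sub_mem (Submodule.subset_span ⟨i, rfl⟩) (V.smul_mem c hjV)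
    have e : φ i / φ j - algebraMap k K c = (φ i - c • φ j) / φ j := by
      rw [Algebra.smul_def, sub_div, mul_div_cancel_right₀ _ hj0]
    have hvP : φ i - c • φ j ∈ L (D - Finsupp.single P 1) := (mem_L_sub_single zero_le_one).mpr
      ⟨h.le hvV, by
        rw [← lt_exp_iff_le_exp_pred]
        rw [e, map_div₀, div_lt_one₀ (zero_lt_iff.mpr (val_ne_zero P hj0)), val_eq_exp P hj0, hjP,
          neg_neg] at hc
        exact hc⟩
    have hv2 : φ i - c • φ j ∈ L (D - Finsupp.single P 1 - Finsupp.single P 1) := by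
      by_contra hni
      obtain ⟨e0, e1⟩ := (not_mem_L_sub_iff hvP).mp hni
      exact hall _ ⟨hvV, hvP⟩ e0 e1
    have := hv2 P
    rw [e, map_div₀, div_le_iff₀ (zero_lt_iff.mpr (val_ne_zero P hj0)), val_eq_exp P hj0, hjP,
      neg_neg, ← exp_add]
    refine this.trans_eq ?_
    congr 1
    simp
    ring
  obtain ⟨hu1, cu, huP⟩ := hA u hu
  have htu : P.1 u = exp (-1 : ℤ) := by rw [← he, map_mul, ht, hw1, mul_one]
  rcases eq_or_ne cu 0 with rfl | hcu
  · rw [map_zero, sub_zero, htu, exp_le_exp] at huP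
    omega
  · have hlt : exp (-2 : ℤ) < (1 : WithZero (Multiplicative ℤ)) := by
      rw [← exp_zero, exp_lt_exp]; norm_num
    have := P.1.map_add_eq_of_lt_left (x := algebraMap k K cu) (y := u - algebraMap k K cu)
      (by rw [val_algebraMap P hcu]; exact huP.trans_lt hlt)
    rw [add_sub_cancel, val_algebraMap P hcu, htu, ← exp_zero, exp_inj] at this
    omega

omit hK in
/-- Separation at `P` from local-ring data. -/
theorem bpf_of_locRing [IsAlgClosed k] (hK : IsFunctionField k K) {ι : Type*} {φ : ι → K}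
    {D : Divisor k K} (h : IsBpfSeries D (Submodule.span k (Set.range φ))) {P : Place k K}
    (h1 : ∀ Q : Place k K, Q ≠ P → ∃ z, InLocRing φ P z ∧ 1 < Q.1 z)
    (h2 : ∃ t, InLocRing φ P t ∧ P.1 t = exp (-1 : ℤ)) :
    IsBpfSeries (D - Finsupp.single P 1)
      (Submodule.span k (Set.range φ) ⊓ L (D - Finsupp.single P 1)) := by
  refine ⟨inf_le_right, fun Q => ?_⟩
  rcases eq_or_ne Q P with rfl | hQ
  · obtain ⟨t, ht, ht'⟩ := h2
    exact exists_exact_of_uniformizer hK h ht ht'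
  · obtain ⟨z, hz, hz'⟩ := h1 Q hQ
    exact exists_exact_of_pole hK h hQ hz hz'

omit hK in
theorem bpf_of_nonsingular [IsAlgClosed k] (hK : IsFunctionField k K) {ι : Type*} {φ : ι → K}
    {D : Divisor k K} (h : IsBpfSeries D (Submodule.span k (Set.range φ))) {P : Place k K}
    (hns : IsNonsingularAt φ P) :
    IsBpfSeries (D - Finsupp.single P 1)
      (Submodule.span k (Set.range φ) ⊓ L (D - Finsupp.single P 1)) := by
  refine bpf_of_locRing hK h (fun Q hQ => ?_) ?_
  · obtain ⟨z, hz, hz'⟩ := exists_sep_two hQ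
    exact ⟨z, hns z hz.le, hz'⟩
  · obtain ⟨t, -, ht⟩ := exists_unif P
    exact ⟨t, hns t (by rw [ht, ← exp_zero, exp_le_exp]; norm_num), ht⟩

/-- Nonsingularity is separation of points and tangents. -/
theorem isNonsingularAt_iff_bpf [IsAlgClosed k] {ι : Type*} {φ : ι → K} {D : Divisor k K}
    (h : IsBpfSeries D (Submodule.span k (Set.range φ))) (hd : 0 < D.deg) (P : Place k K) :
    IsNonsingularAt φ P ↔ IsBpfSeries (D - Finsupp.single P 1)
      (Submodule.span k (Set.range φ) ⊓ L (D - Finsupp.single P 1)) :=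
  ⟨fun hns => bpf_of_nonsingular hK h hns, isNonsingularAt_of_bpf hK h hd P⟩

/-- The divisor of a nonconstant linearly independent tuple has positive degree. -/
theorem mapDiv_deg_pos [IsAlgClosed k] {n : ℕ} (hn : 1 ≤ n) {φ : Fin (n + 1) → K}
    (hφ : LinearIndependent k φ) : 0 < (FunFld.mapDiv k φ).deg := by
  have hb := isBpfSeries_span' hK hφ
  have hne := hφ.ne_zero (0 : Fin (n + 1))
  let i : Fin (n + 1) := ⟨1, by omega⟩
  have hi := hφ.ne_zero i
  have htr : Transcendental k (φ i / φ 0) := fun halg => by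
    obtain ⟨c, hc⟩ := hK.2 _ halg
    have h2 : φ i = c • φ 0 := by rw [Algebra.smul_def, hc, div_mul_cancel₀ _ hne]
    have hne' : i ≠ 0 := fun e => by simp [i, Fin.ext_iff] at e
    have := hφ.notMem_span_image (s := {(0 : Fin (n + 1))}) (x := i) (by simpa using hne')
    rw [Set.image_singleton] at this
    exact this (Submodule.mem_span_singleton.mpr ⟨c, h2.symm⟩)
  have hle : (poles (φ i / φ 0) : Divisor k K) ≤ FunFld.mapDiv k φ + FunFld.div k (φ 0) := fun Q => by
    have h1 := (mem_L_iff_ord hi).mp (hb.le (Submodule.subset_span ⟨i, rfl⟩)) Q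
    have h0 := (mem_L_iff_ord hne).mp (hb.le (Submodule.subset_span ⟨0, rfl⟩)) Q
    rw [poles, Finsupp.mapRange_apply, div_apply hK.1, Finsupp.add_apply, div_apply hK.1,
      div_eq_mul_inv, ord_mul Q hi (inv_ne_zero hne), ord_inv]
    omega
  have := Divisor.deg_mono hle
  rw [deg_poles hK.1 htr, Divisor.deg_add, deg_div hK.1, add_zero] at this
  have hfd : FiniteDimensional k⟮φ i / φ 0⟯ K := IsFF.finite_adjoin hK.1 htr
  have : 0 < Module.finrank k⟮φ i / φ 0⟯ K := Module.finrank_pos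
  omega

/-- The codimension two criterion. -/
theorem bpf_iff_finrank [IsAlgClosed k] {D : Divisor k K} {V : Submodule k K}
    (h : IsBpfSeries D V) (P : Place k K) :
    IsBpfSeries (D - Finsupp.single P 1) (V ⊓ L (D - Finsupp.single P 1)) ↔
      ∀ Q : Place k K, Module.finrank k ↥(V ⊓ L (D - Finsupp.single P 1 - Finsupp.single Q 1)) + 2 =
        Module.finrank k ↥V := by
  classical
  have hfin : ∀ E, FiniteDimensional k ↥(V ⊓ L E) := fun E =>
    have := L_finite hK.1 E
    Submodule.finiteDimensional_of_le inf_le_right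
  have hVfin : FiniteDimensional k ↥V :=
    have := L_finite hK.1 D
    Submodule.finiteDimensional_of_le h.le
  have hmono : ∀ (E : Divisor k K) (R : Place k K), L (E - Finsupp.single R 1) ≤ L E := fun E R =>
    L_mono (sub_le_self E (Finsupp.single_nonneg.mpr zero_le_one))
  have step1 : Module.finrank k ↥(V ⊓ L (D - Finsupp.single P 1)) + 1 = Module.finrank k ↥V := by
    have h1 := finrank_inf_step hK.1 V D P
    rw [deg_eq_one hK.1, inf_eq_left.mpr h.le] at h1
    obtain ⟨v, hv, hv0, hvP⟩ := h.exact P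
    have h2 : V ⊓ L (D - Finsupp.single P 1) < V := lt_of_le_of_ne inf_le_left fun e =>
      (not_mem_L_sub_iff (h.le hv)).mpr ⟨hv0, hvP⟩ (e.symm.le hv).2
    have := Submodule.finrank_lt_finrank_of_lt h2
    omega
  have step2 := fun Q => finrank_inf_step hK.1 V (D - Finsupp.single P 1 : Divisor k K) Q
  constructor
  · intro h' Q
    have h1 := step2 Q
    rw [deg_eq_one hK.1] at h1
    obtain ⟨v, hv, hv0, hvQ⟩ := h'.exact Q
    have h2 : V ⊓ L (D - Finsupp.single P 1 - Finsupp.single Q 1) < V ⊓ L (D - Finsupp.single P 1) :=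
      lt_of_le_of_ne (inf_le_inf_left _ (hmono _ _)) fun e =>
        (not_mem_L_sub_iff hv.2).mpr ⟨hv0, hvQ⟩ (e.symm.le hv).2
    have := Submodule.finrank_lt_finrank_of_lt h2
    omega
  · intro h'
    refine ⟨inf_le_right, fun Q => ?_⟩
    by_contra! hall
    have heq : V ⊓ L (D - Finsupp.single P 1 - Finsupp.single Q 1) = V ⊓ L (D - Finsupp.single P 1) :=
      le_antisymm (inf_le_inf_left _ (hmono _ _)) fun v hv => ⟨hv.1, by
        by_contra hni
        obtain ⟨e0, e1⟩ := (not_mem_L_sub_iff hv.2).mp hni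
        exact hall v hv e0 e1⟩
    have h2 := h' Q
    rw [heq] at h2
    omega

/-- A birational map is nonsingular almost everywhere. -/
theorem finite_singular [IsAlgClosed k] {n : ℕ} (hn : 1 ≤ n) {φ : Fin (n + 1) → K}
    (hφ : LinearIndependent k φ)
    (hbir : IntermediateField.adjoin k (Set.range fun i => φ i / φ 0) = ⊤) :
    {P : Place k K | ¬ IsNonsingularAt φ P}.Finite := by
  classical
  have h := isBpfSeries_span' hK hφ
  have hd := mapDiv_deg_pos hK hn hφ
  set D := FunFld.mapDiv k φ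
  set V := Submodule.span k (Set.range φ) with hV
  have hs : φ 0 ∈ V := Submodule.subset_span ⟨0, rfl⟩
  have hs0 := hφ.ne_zero (0 : Fin (n + 1))
  set n₀ : ℕ := 2 * genus k K + 2 with hn₀
  have := L_finite hK.1 ((n₀ : ℕ) • D)
  let basis := Module.finBasis k (L ((n₀ : ℕ) • D))
  have hrange : (Set.range fun i => φ i / φ 0) = (fun v => v / φ 0) '' Set.range φ := by
    rw [← Set.range_comp]; rfl
  have hfrac : ∀ i, ∃ (m : ℕ) (a c : K), a ∈ V ^ m ∧ c ∈ V ^ m ∧ c ≠ 0 ∧
      (basis i : K) / φ 0 ^ n₀ = a / c := by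
    intro i
    have hmem : (basis i : K) / φ 0 ^ n₀ ∈ IntermediateField.adjoin k (Set.range fun i => φ i / φ 0) := by
      rw [hbir]; trivial
    obtain ⟨a, ha, c, hc, heq⟩ := IntermediateField.mem_adjoin_iff_div.mp hmem
    rw [hrange] at ha hc
    obtain ⟨m₁, h1⟩ := (mem_adjoin_div_iff hs hs0 Submodule.subset_span le_rfl).mp ha
    obtain ⟨m₂, h2⟩ := (mem_adjoin_div_iff hs hs0 Submodule.subset_span le_rfl).mp hc
    rcases eq_or_ne c 0 with rfl | hc0
    · refine ⟨0, 0, 1, zero_mem _, by rw [Submodule.pow_zero]; exact Submodule.one_le.mp le_rfl,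
        one_ne_zero, ?_⟩
      rw [heq]; simp
    refine ⟨m₁ + m₂, a * φ 0 ^ (m₁ + m₂), c * φ 0 ^ (m₁ + m₂), ?_, ?_,
      mul_ne_zero hc0 (pow_ne_zero _ hs0), by rw [heq, mul_div_mul_right _ _ (pow_ne_zero _ hs0)]⟩
    · rw [show a * φ 0 ^ (m₁ + m₂) = a * φ 0 ^ m₁ * φ 0 ^ m₂ by rw [pow_add, mul_assoc]]
      exact exp_mem_mul_pow hs h1 _
    · rw [add_comm m₁, show c * φ 0 ^ (m₂ + m₁) = c * φ 0 ^ m₂ * φ 0 ^ m₁ by rw [pow_add, mul_assoc]]
      exact exp_mem_mul_pow hs h2 _
  choose m a c ha hc hc0 heq using hfrac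
  set b : K := ∏ i, c i
  set e : ℕ := ∑ i, m i
  have hprod : ∀ S : Finset (Fin (Module.finrank k ↥(L ((n₀ : ℕ) • D)))),
      ∏ i ∈ S, c i ∈ V ^ (∑ i ∈ S, m i) := fun S => by
    induction S using Finset.induction_on with
    | empty => rw [Finset.prod_empty, Finset.sum_empty, Submodule.pow_zero]; exact Submodule.one_le.mp le_rfl
    | insert i S hi ih =>
      rw [Finset.prod_insert hi, Finset.sum_insert hi, pow_add]
      exact Submodule.mul_mem_mul (hc i) ih
  have hb0 : b ≠ 0 := Finset.prod_ne_zero_iff.mpr fun i _ => hc0 i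
  have hbV : b ∈ V ^ e := hprod Finset.univ
  refine Set.Finite.subset (((e : ℕ) • D + FunFld.div k b).support.finite_toSet) fun P hP => ?_
  rw [Finset.mem_coe, Finsupp.mem_support_iff, Finsupp.add_apply, div_apply hK.1, Finsupp.smul_apply,
    nsmul_eq_mul]
  intro hzero
  refine hP (isNonsingularAt_of_generators hK h hd P (n₀ := n₀) (b := b) (e := e) ?_ hbV hb0
    (by omega) ?_)
  · push_cast [hn₀]
    nlinarith
  intro z hz
  have hz' : z = ∑ i, basis.repr ⟨z, hz⟩ i • (basis i : K) := by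
    conv_lhs => rw [show z = ((⟨z, hz⟩ : L ((n₀ : ℕ) • D)) : K) from rfl, ← basis.sum_repr ⟨z, hz⟩]
    rw [Submodule.coe_sum]
    rfl
  rw [hz', Finset.sum_mul]
  refine Submodule.sum_mem _ fun i _ => ?_
  rw [smul_mul_assoc]
  refine Submodule.smul_mem _ _ ?_
  have e1 : (basis i : K) * b = φ 0 ^ n₀ * (a i * ∏ l ∈ Finset.univ.erase i, c l) := by
    have hb' : b = c i * ∏ l ∈ Finset.univ.erase i, c l :=
      (Finset.mul_prod_erase Finset.univ c (Finset.mem_univ i)).symm
    have heq' := heq i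
    rw [div_eq_div_iff (pow_ne_zero _ hs0) (hc0 i)] at heq'
    rw [hb']
    linear_combination (∏ l ∈ Finset.univ.erase i, c l) * heq'
  rw [e1, pow_add]
  refine Submodule.mul_mem_mul (Submodule.pow_mem_pow V hs n₀) ?_
  rw [show e = m i + ∑ l ∈ Finset.univ.erase i, m l from
    (Finset.add_sum_erase Finset.univ m (Finset.mem_univ i)).symm, pow_add]
  exact Submodule.mul_mem_mul (ha i) (hprod _)

/-- The fibres of a projective map are finite. -/
theorem finite_sameImage [IsAlgClosed k] {n : ℕ} (hn : 1 ≤ n) {φ : Fin (n + 1) → K}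
    (hφ : LinearIndependent k φ) (P : Place k K) : {Q | SameImage φ P Q}.Finite := by
  classical
  have h := isBpfSeries_span' hK hφ
  obtain ⟨j₀, hj₀, hj₀P⟩ := exists_exact_entry h P
  let i : Fin (n + 1) := if j₀ = 0 then ⟨1, by omega⟩ else 0
  have hij : i ≠ j₀ := by
    simp only [i]
    split_ifs with e
    · rw [e]; intro e'; simp [Fin.ext_iff] at e'
    · exact fun e' => e e'.symm
  obtain ⟨c, hc⟩ := exists_value hK.1 (deg_eq_one hK.1 P) (x := φ i / φ j₀) (by
    rw [map_div₀, div_le_one₀ (zero_lt_iff.mpr (val_ne_zero P hj₀)), val_eq_exp P hj₀, hj₀P, neg_neg]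
    exact h.le (Submodule.subset_span ⟨i, rfl⟩) P)
  have hv0 : φ i - c • φ j₀ ≠ 0 := fun e => by
    have := hφ.notMem_span_image (s := {j₀}) (x := i) (by simpa using hij)
    rw [Set.image_singleton] at this
    exact this (Submodule.mem_span_singleton.mpr ⟨c, (sub_eq_zero.mp e).symm⟩)
  refine Set.Finite.subset ((FunFld.mapDiv k φ + FunFld.div k (φ i - c • φ j₀)).support.finite_toSet)
    fun Q hQ => ?_
  obtain ⟨j, hj0, hminP, hminQ, hvals⟩ := hQ
  rw [Finset.mem_coe, Finsupp.mem_support_iff, Finsupp.add_apply, div_apply hK.1]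
  intro hzero
  have hjP := ord_eq_of_min h hj0 hminP
  have hjQ := ord_eq_of_min h hj0 hminQ
  obtain ⟨a, ha, ha'⟩ := hvals i
  obtain ⟨b, hb, hb'⟩ := hvals j₀
  have hv : (φ i - c • φ j₀) / φ j = (φ i / φ j - algebraMap k K a) -
      algebraMap k K c * (φ j₀ / φ j - algebraMap k K b) + algebraMap k K (a - c * b) := by
    simp only [Algebra.smul_def, map_sub, map_mul]
    field_simp
    ring
  have hsmallP : P.1 ((φ i - c • φ j₀) / φ j) < 1 := by
    have e : (φ i - c • φ j₀) / φ j = (φ i / φ j₀ - algebraMap k K c) * (φ j₀ / φ j) := by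
      simp only [Algebra.smul_def]
      field_simp
    rw [e, map_mul]
    refine (mul_le_mul' le_rfl ?_).trans_lt (by rw [mul_one]; exact hc)
    rw [map_div₀, div_le_one₀ (zero_lt_iff.mpr (val_ne_zero P hj0))]
    exact hminP j₀
  have hz : ∀ R : Place k K, R.1 (φ i / φ j - algebraMap k K a) < 1 →
      R.1 (φ j₀ / φ j - algebraMap k K b) < 1 →
      R.1 ((φ i / φ j - algebraMap k K a) - algebraMap k K c * (φ j₀ / φ j - algebraMap k K b)) < 1 :=
    fun R h1 h2 => (Valuation.map_sub _ _ _).trans_lt (max_lt h1 (by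
      rw [map_mul]; exact (mul_le_mul' (R.2.1 c) le_rfl).trans_lt (by rwa [one_mul])))
  have hab : a - c * b = 0 := by
    by_contra hne
    have := P.1.map_add_eq_of_lt_right
      (x := (φ i / φ j - algebraMap k K a) - algebraMap k K c * (φ j₀ / φ j - algebraMap k K b))
      (y := algebraMap k K (a - c * b)) (by rw [val_algebraMap P hne]; exact hz P ha hb)
    rw [← hv, val_algebraMap P hne] at this
    exact hsmallP.ne this
  have hsmallQ : Q.1 ((φ i - c • φ j₀) / φ j) < 1 := by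
    rw [hv, hab, map_zero, add_zero]; exact hz Q ha' hb'
  rw [val_lt_one_iff Q (div_ne_zero hv0 hj0), div_eq_mul_inv,
    ord_mul Q hv0 (inv_ne_zero hj0), ord_inv] at hsmallQ
  omega

end Groth.Agent.FFLib
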