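import Groth.Agent.FFLib.Diff.Nonsing
import Groth.Agent.FFLib.Weil.ConstPlaces
import Groth.Agent.FFLib.Plucker
import Mathlib.FieldTheory.PurelyInseparable.Basic

/-! Places above a nonsingular place in a splitting extension of the constants. -/

set_option linter.unusedSectionVars false
set_option linter.style.haveILetI false

-- one path to the module structure of residue fields over the constants
attribute [-instance] IsLocalRing.instModuleResidueFieldOfAlgebra

namespace Groth.Agent.FFLib.SplitPlaces

open FunFld WithZero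
open scoped TensorProduct

universe u v

variable {k k' : Type u} {K K' : Type v} [Field k] [Field k'] [Field K] [Field K']
  [Algebra k k'] [FiniteDimensional k k'] [Algebra k K] [Algebra K K'] [Algebra k' K'] [Algebra k K']
  [IsScalarTower k k' K'] [IsScalarTower k K K']

theorem const_unique (Q : Place k' K') {z : K'} {a b : k'} (ha : Q.1 (z - algebraMap k' K' a) < 1)
    (hb : Q.1 (z - algebraMap k' K' b) < 1) : a = b := by
  by_contra hne
  have h := (Q.1.map_sub _ _).trans_lt (max_lt hb ha)
  rw [sub_sub_sub_cancel_left, ← map_sub, val_algebraMap Q (sub_ne_zero.mpr hne)] at h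
  exact lt_irrefl _ h

/-- A place over the larger constants lies above `P` with index `e`. -/
abbrev OverWith' (Q : Place k' K') (P : Place k K) (e : ℕ) : Prop :=
  ∀ x : K, Q.1 (algebraMap K K' x) = P.1 x ^ e

/-- A place over the larger constants lies above `P`. -/
abbrev Over' (Q : Place k' K') (P : Place k K) : Prop := ∃ e : ℕ, OverWith' Q P e

/-- The residue homomorphism of a rational place above `P`. -/
theorem exists_resMap {P : Place k K} (Q : Place k' K') (hQ : ∀ x : K, P.1 x ≤ 1 → Q.1 (algebraMap K K' x) ≤ 1)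
    (hQlt : ∀ x : K, P.1 x < 1 → Q.1 (algebraMap K K' x) < 1)
    (hconst : ∀ z : K', Q.1 z ≤ 1 → ∃ c : k', Q.1 (z - algebraMap k' K' c) < 1) :
    ∃ ρ : Res P →ₐ[k] k', ∀ x : P.O,
      Q.1 (algebraMap K K' x - algebraMap k' K' (ρ (IsLocalRing.residue P.O x))) < 1 := by
  choose f hf using fun x : P.O => hconst _ (hQ x x.2)
  have uniq : ∀ x a, Q.1 (algebraMap K K' (x : P.O) - algebraMap k' K' a) < 1 → f x = a :=
    fun x a ha => const_unique Q (hf x) ha
  have hle : ∀ c : k', Q.1 (algebraMap k' K' c) ≤ 1 := Q.2.1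
  let f' : P.O →+* k' :=
    { toFun := f
      map_one' := uniq 1 1 (by simp)
      map_zero' := uniq 0 0 (by simp)
      map_add' := fun a b => uniq _ _ (by
        rw [Subring.coe_add, map_add, map_add, add_sub_add_comm]
        exact (Q.1.map_add _ _).trans_lt (max_lt (hf a) (hf b)))
      map_mul' := fun a b => uniq _ _ (by
        rw [MulMemClass.coe_mul, map_mul, map_mul, show algebraMap K K' a * algebraMap K K' b -
          algebraMap k' K' (f a) * algebraMap k' K' (f b) = (algebraMap K K' a - algebraMap k' K' (f a)) * algebraMap K K' b +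
            algebraMap k' K' (f a) * (algebraMap K K' b - algebraMap k' K' (f b)) by ring]
        refine (Q.1.map_add _ _).trans_lt (max_lt ?_ ?_) <;> rw [map_mul]
        · exact lt_of_le_of_lt (mul_le_of_le_one_right' (hQ b b.2)) (hf a)
        · exact lt_of_le_of_lt (mul_le_of_le_one_left' (hle _)) (hf b)) }
  have hker : ∀ x ∈ IsLocalRing.maximalIdeal P.O, f' x = 0 := fun x hx => by
    rw [← IsLocalRing.residue_eq_zero_iff, residue_eq_zero] at hx
    exact uniq x 0 (by rw [map_zero, sub_zero]; exact hQlt _ hx)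
  let g : Res P →+* k' := Ideal.Quotient.lift _ f' hker
  refine ⟨{ g with commutes' := fun c => ?_ }, fun x => ?_⟩
  · show f' (algebraMap k P.O c) = _
    refine uniq _ _ ?_
    rw [coe_algebraMap_O, ← IsScalarTower.algebraMap_apply, ← IsScalarTower.algebraMap_apply, sub_self, map_zero]
    exact zero_lt_one
  · exact hf x

/-- Semilocal integral elements are combinations of `P`-integral elements. -/
theorem coords_le_one (hF : IsFF k K) {n : ℕ} (v : Module.Basis (Fin n) k k') (vK : Module.Basis (Fin n) K K')
    (hvK : ∀ l, vK l = algebraMap k' K' (v l)) {P : Place k K}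
    (hns : integralClosure (P.O.toSubring.map (algebraMap K K')) K' =
        Algebra.adjoin (P.O.toSubring.map (algebraMap K K')) (Set.range (algebraMap k' K')))
    {z : K'} (hz : ∀ R : Place k K', IsOver R P → R.1 z ≤ 1) :
    ∃ x : Fin n → P.O, z = ∑ l, algebraMap K K' (x l) * algebraMap k' K' (v l) := by
  have h := (closure_eq_iff hF v vK hvK P).mp hns z hz
  refine ⟨fun l => ⟨vK.repr z l, h l⟩, ?_⟩
  conv_lhs => rw [← vK.sum_repr z]
  exact Finset.sum_congr rfl fun l _ => by rw [Algebra.smul_def, hvK]

theorem split_places (h : Function.Bijective (Algebra.TensorProduct.productMap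
      (IsScalarTower.toAlgHom k k' K') (IsScalarTower.toAlgHom k K K')))
    (hK : IsFunctionField k K) (P : Place k K)
    (hns : integralClosure (P.O.toSubring.map (algebraMap K K')) K' =
        Algebra.adjoin (P.O.toSubring.map (algebraMap K K')) (Set.range (algebraMap k' K')))
    (hsplit : ∀ Q : Place k' K', Over' Q P → Q.deg = 1) :
    {Q : Place k' K' | Over' Q P}.Finite ∧
    {Q : Place k' K' | Over' Q P}.ncard = Field.finSepDegree k (Res P) ∧
    ∀ Q : Place k' K', Over' Q P → OverWith' Q P (Field.finInsepDegree k (Res P)) := by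
  classical
  have hF := hK.1
  set v := Module.finBasis k k'
  obtain ⟨vK, hvK⟩ := exists_const_basis (K := K) h v
  haveI : FiniteDimensional K K' := Module.Finite.of_basis vK
  have hdimK : Module.finrank K K' = Module.finrank k k' := by
    rw [Module.finrank_eq_card_basis vK, Fintype.card_fin]
  have hF' : IsFF k' K' := isFF_const (IsFF.ext (K' := K') hF)
  haveI : Module.Finite k (Res P) := residue_finite hF P
  haveI : Algebra.IsAlgebraic k (Res P) := Algebra.IsAlgebraic.of_finite k _
  let cE := constEquiv k k' K'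
  have hover : ∀ Q : Place k' K', Over' Q P ↔ IsOver (cE Q) P := fun Q => Iff.rfl
  have hfin : {Q : Place k' K' | Over' Q P}.Finite := by
    refine ((over_finite (K' := K') hF P).image cE.symm).subset fun Q hQ => ⟨cE Q, hQ, cE.symm_apply_apply Q⟩
  have hle : ∀ Q : Place k' K', Over' Q P →
      (∀ x : K, P.1 x ≤ 1 → Q.1 (algebraMap K K' x) ≤ 1) ∧ (∀ x : K, P.1 x < 1 → Q.1 (algebraMap K K' x) < 1) ∧
      ∀ z : K', Q.1 z ≤ 1 → ∃ c : k', Q.1 (z - algebraMap k' K' c) < 1 := by
    intro Q hQ
    obtain ⟨e, he⟩ := id hQ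
    have he1 : 1 ≤ e := over_pos (Q := cE Q) hF he
    exact ⟨fun x hx => by rw [he]; exact pow_le_one' hx e, fun x hx => by rw [he]; exact pow_lt_one' hx (by omega),
      fun z hz => exists_value hF' (hsplit Q hQ) hz⟩
  choose ρ hρ using fun Q : {Q : Place k' K' // Over' Q P} =>
    exists_resMap Q.1 (hle Q.1 Q.2).1 (hle Q.1 Q.2).2.1 (hle Q.1 Q.2).2.2
  -- residues of semilocal integral elements
  have hsem : ∀ z : K', (∀ R : Place k K', IsOver R P → R.1 z ≤ 1) →
      ∃ x : Fin (Module.finrank k k') → P.O, (z = ∑ l, algebraMap K K' (x l) * algebraMap k' K' (v l)) ∧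
        ∀ Q : {Q : Place k' K' // Over' Q P},
          Q.1.1 (z - algebraMap k' K' (∑ l, ρ Q (IsLocalRing.residue P.O (x l)) * v l)) < 1 := by
    intro z hz
    obtain ⟨x, hx⟩ := coords_le_one hF v vK hvK hns hz
    refine ⟨x, hx, fun Q => ?_⟩
    rw [hx, map_sum, ← Finset.sum_sub_distrib]
    refine Valuation.map_sum_lt _ one_ne_zero fun l _ => ?_
    rw [map_mul, ← sub_mul, map_mul]
    exact lt_of_le_of_lt (mul_le_of_le_one_right' (Q.1.2.1 _)) (hρ Q (x l))
  set kb := AlgebraicClosure k'
  let incl : (Res P →ₐ[k] k') → (Res P →ₐ[k] kb) := fun f => (IsScalarTower.toAlgHom k k' kb).comp f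
  have hinj : Function.Injective fun Q : {Q : Place k' K' // Over' Q P} => incl (ρ Q) := by
    intro Q Q' hQQ
    by_contra hne
    have hne' : cE Q.1 ≠ cE Q'.1 := fun h' => hne (Subtype.ext (cE.injective h'))
    set Qs := (over_finite (K' := K') hF P).toFinset
    obtain ⟨z, hz⟩ := exists_approx Qs (fun R => if R = cE Q.1 then 1 else 0) (fun _ => 1)
    have hz' : ∀ R : Place k K', IsOver R P → R.1 z ≤ 1 := fun R hR => by
      have := (le_exp_neg_one_iff R).mp (hz R ((Set.Finite.mem_toFinset _).mpr hR))
      rw [← sub_add_cancel z (if R = cE Q.1 then 1 else 0)]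
      exact (R.1.map_add _ _).trans (max_le this.le (by split_ifs <;> simp))
    obtain ⟨x, -, hx⟩ := hsem z hz'
    have h1 := (le_exp_neg_one_iff (cE Q.1)).mp (hz (cE Q.1) ((Set.Finite.mem_toFinset _).mpr Q.2))
    have h0 := (le_exp_neg_one_iff (cE Q'.1)).mp (hz (cE Q'.1) ((Set.Finite.mem_toFinset _).mpr Q'.2))
    rw [if_pos rfl] at h1
    rw [if_neg (Ne.symm hne'), sub_zero] at h0
    have e1 : (∑ l, ρ Q (IsLocalRing.residue P.O (x l)) * v l) = 1 :=
      const_unique Q.1 (hx Q) (by rw [map_one]; exact h1)
    have e0 : (∑ l, ρ Q' (IsLocalRing.residue P.O (x l)) * v l) = 0 :=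
      const_unique Q'.1 (hx Q') (by rw [map_zero, sub_zero]; exact h0)
    have hρeq : ρ Q = ρ Q' := AlgHom.ext fun r => (algebraMap k' kb).injective (DFunLike.congr_fun hQQ r)
    rw [hρeq, e0] at e1
    exact zero_ne_one e1
  -- every embedding comes from a place
  let valO : P.O →ₐ[k] K' :=
    { (algebraMap K K').comp P.O.subtype with
      commutes' := fun c => by
        show algebraMap K K' (algebraMap k P.O c : K) = _
        rw [coe_algebraMap_O, ← IsScalarTower.algebraMap_apply] }
  let μ : k' ⊗[k] P.O →ₐ[k] K' := Algebra.TensorProduct.productMap (IsScalarTower.toAlgHom k k' K') valO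
  let resO : P.O →ₐ[k] Res P :=
    { IsLocalRing.residue P.O with commutes' := fun c => (residue_algebraMap P c).symm }
  have hμinj : Function.Injective μ := by
    let valK : P.O →ₐ[k] K := { P.O.subtype with commutes' := fun c => coe_algebraMap_O P c }
    have : μ = (Algebra.TensorProduct.productMap (IsScalarTower.toAlgHom k k' K')
        (IsScalarTower.toAlgHom k K K')).comp (Algebra.TensorProduct.map (AlgHom.id k k') valK) :=
      Algebra.TensorProduct.ext' fun a b => by simp [μ, valO, valK]
    rw [this]
    exact h.1.comp (Module.Flat.lTensor_preserves_injective_linearMap (M := k') valK.toLinearMap Subtype.val_injective)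
  have hsurj : Function.Surjective fun Q : {Q : Place k' K' // Over' Q P} => incl (ρ Q) := by
    intro σ
    by_contra! hall
    have hex : ∀ Q : {Q : Place k' K' // Over' Q P}, ∃ x : P.O,
        algebraMap k' kb (ρ Q (IsLocalRing.residue P.O x)) ≠ σ (IsLocalRing.residue P.O x) := fun Q => by
      by_contra! h'
      refine hall Q (AlgHom.ext fun r => ?_)
      obtain ⟨x, rfl⟩ := IsLocalRing.residue_surjective r
      exact h' x
    choose x hx using hex
    haveI : Fintype {Q : Place k' K' // Over' Q P} := hfin.fintype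
    let τ : k' ⊗[k] P.O →ₐ[k] kb :=
      Algebra.TensorProduct.productMap (IsScalarTower.toAlgHom k k' kb) (σ.comp resO)
    set W : k' ⊗[k] P.O := ∏ Q, ((1 : k') ⊗ₜ[k] x Q - (ρ Q (IsLocalRing.residue P.O (x Q))) ⊗ₜ[k] (1 : P.O))
    have hτ : τ W ≠ 0 := by
      rw [map_prod]
      refine Finset.prod_ne_zero_iff.mpr fun Q _ => ?_
      rw [map_sub, Algebra.TensorProduct.productMap_apply_tmul, Algebra.TensorProduct.productMap_apply_tmul,
        map_one, map_one, one_mul, mul_one, sub_ne_zero]
      exact Ne.symm (hx Q)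
    obtain ⟨π, hπ0, hπ⟩ := exists_unif P
    set Qs := (over_finite (K' := K') hF P).toFinset
    set N := Qs.sup fun R => ramIdx R P
    have hfac : ∀ R : Place k K', IsOver R P → R.1 (μ W) < 1 := by
      intro R hR
      set Q : {Q : Place k' K' // Over' Q P} := ⟨cE.symm R, hR⟩
      rw [map_prod, map_prod, ← Finset.mul_prod_erase _ _ (Finset.mem_univ Q)]
      have hle1 : ∀ T, R.1 (μ ((1 : k') ⊗ₜ[k] x T - (ρ T (IsLocalRing.residue P.O (x T))) ⊗ₜ[k] (1 : P.O))) ≤ 1 :=
        fun T => by
        rw [map_sub, Algebra.TensorProduct.productMap_apply_tmul, Algebra.TensorProduct.productMap_apply_tmul,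
          map_one, map_one, one_mul, mul_one]
        refine (R.1.map_sub _ _).trans (max_le ?_ (const_val_le_one R _))
        obtain ⟨e, he⟩ := hR
        show R.1 (algebraMap K K' (x T : K)) ≤ 1
        rw [he]; exact pow_le_one' (x T).2 e
      refine lt_of_le_of_lt (mul_le_of_le_one_right' (Finset.prod_le_one' fun T _ => hle1 T)) ?_
      rw [map_sub, Algebra.TensorProduct.productMap_apply_tmul, Algebra.TensorProduct.productMap_apply_tmul,
        map_one, map_one, one_mul, mul_one]
      exact hρ Q (x Q)
    have hz : ∀ R : Place k K', IsOver R P → R.1 (μ (W ^ N) / algebraMap K K' π) ≤ 1 := by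
      intro R hR
      obtain ⟨e, he⟩ := id hR
      have hN : e ≤ N := by
        have h' := Finset.le_sup (f := fun R => ramIdx R P) ((Set.Finite.mem_toFinset _).mpr hR : R ∈ Qs)
        rwa [ramIdx_eq hF he] at h'
      rw [map_pow, map_div₀, map_pow, he, hπ,
        div_le_one₀ (pow_pos (zero_lt_iff.mpr exp_ne_zero) e)]
      refine (pow_le_pow_left' ((le_exp_neg_one_iff R).mpr (hfac R hR)) N).trans ?_
      exact pow_le_pow_right_of_le_one' (by rw [← exp_zero, exp_le_exp]; omega) hN
    obtain ⟨y, hy⟩ := coords_le_one hF v vK hvK hns hz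
    set W' : k' ⊗[k] P.O := ∑ l, v l ⊗ₜ[k] y l
    have hπO : P.1 π ≤ 1 := by rw [hπ, ← exp_zero, exp_le_exp]; omega
    have hπK : algebraMap K K' π ≠ 0 := by simpa using hπ0
    have heq : W ^ N = ((1 : k') ⊗ₜ[k] (⟨π, hπO⟩ : P.O)) * W' := hμinj (by
      rw [map_mul, show μ W' = μ (W ^ N) / algebraMap K K' π from by
        rw [hy, map_sum]
        exact Finset.sum_congr rfl fun l _ => by
          rw [Algebra.TensorProduct.productMap_apply_tmul, mul_comm]; rfl,
        Algebra.TensorProduct.productMap_apply_tmul, map_one, one_mul]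
      exact (mul_div_cancel₀ _ hπK).symm)
    have h0 := congrArg τ heq
    rw [map_pow, map_mul τ] at h0
    rw [show τ ((1 : k') ⊗ₜ[k] (⟨π, hπO⟩ : P.O)) = 0 from by
      rw [Algebra.TensorProduct.productMap_apply_tmul, map_one, one_mul, AlgHom.comp_apply,
        show resO ⟨π, hπO⟩ = 0 from (residue_eq_zero P _).mpr (by rw [hπ, ← exp_zero, exp_lt_exp]; omega), map_zero],
      zero_mul] at h0
    exact pow_ne_zero N hτ h0
  have hcount : {Q : Place k' K' | Over' Q P}.ncard = Field.finSepDegree k (Res P) := by
    rw [Field.finSepDegree_eq_of_isAlgClosed k (Res P) kb, ← Nat.card_coe_set_eq]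
    exact Nat.card_eq_of_bijective _ ⟨hinj, hsurj⟩
  refine ⟨hfin, hcount, ?_⟩
  -- ramification
  set S := separableClosure k (Res P)
  set d := Field.finInsepDegree k (Res P)
  haveI : Module.Finite S (Res P) := Module.Finite.of_restrictScalars_finite k S (Res P)
  let r := Module.finBasis S (Res P)
  have hbound : ∀ (Q : Place k' K') (e : ℕ), OverWith' Q P e → e ≤ d := by
    intro Q e he
    obtain ⟨hQ1, hQ2, hQc⟩ := hle Q ⟨e, he⟩
    have he1 : 1 ≤ e := over_pos (Q := cE Q) hF he
    set ρQ := ρ ⟨Q, ⟨e, he⟩⟩
    -- separable residues lift to constants modulo `t ^ e`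
    have hsep : ∀ (s : Res P), s ∈ S → ∀ x : P.O, IsLocalRing.residue P.O x = s →
        Q.1 (algebraMap K K' x - algebraMap k' K' (ρQ s)) ≤ exp (-(e : ℤ)) := by
      intro s hs x hx
      have hsep' : IsSeparable k s := mem_separableClosure_iff.mp hs
      set f := minpoly k s
      set fk := f.map (algebraMap k k')
      have hfs : fk.Separable := Polynomial.Separable.map hsep'
      have hroot : fk.eval (ρQ s) = 0 := by
        rw [Polynomial.eval_map_algebraMap, Polynomial.aeval_algHom_apply, minpoly.aeval, map_zero]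
      obtain ⟨hq, hhq⟩ := Polynomial.dvd_iff_isRoot.mpr hroot
      have hne : hq.eval (ρQ s) ≠ 0 := by
        intro h0
        obtain ⟨g, hg⟩ := Polynomial.dvd_iff_isRoot.mpr h0
        have hsq := hfs.squarefree (Polynomial.X - Polynomial.C (ρQ s)) ⟨g, by rw [hhq, hg, mul_assoc]⟩
        exact Polynomial.not_isUnit_X_sub_C _ hsq
      have hd : Q.1 (algebraMap K K' x - algebraMap k' K' (ρQ s)) < 1 := hx ▸ hρ ⟨Q, ⟨e, he⟩⟩ x
      set X' := algebraMap K K' (x : K)
      set c := algebraMap k' K' (ρQ s)
      have hh : Q.1 (Polynomial.aeval X' hq) = 1 := by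
        have hdiff : Q.1 (Polynomial.aeval X' hq - algebraMap k' K' (hq.eval (ρQ s))) < 1 := by
          rw [show algebraMap k' K' (hq.eval (ρQ s)) = Polynomial.aeval c hq from by
            rw [Polynomial.aeval_algebraMap_apply, Polynomial.coe_aeval_eq_eval]]
          obtain ⟨G, hG⟩ : (Polynomial.X - Polynomial.C c) ∣
              (hq.map (algebraMap k' K') - Polynomial.C (Polynomial.aeval c hq)) := by
            refine Polynomial.dvd_iff_isRoot.mpr ?_
            simp [Polynomial.IsRoot, Polynomial.eval_map_algebraMap]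
          have hXc : Q.1 c ≤ 1 := Q.2.1 _
          have hX1 : Q.1 X' ≤ 1 := hQ1 _ x.2
          rw [Polynomial.aeval_eq_sum_range, Polynomial.aeval_eq_sum_range, ← Finset.sum_sub_distrib]
          refine Valuation.map_sum_lt _ one_ne_zero fun i _ => ?_
          rw [← smul_sub, Algebra.smul_def, map_mul]
          refine lt_of_le_of_lt (mul_le_of_le_one_left' (Q.2.1 _)) ?_
          rw [← geom_sum₂_mul X' c i, map_mul]
          exact lt_of_le_of_lt (mul_le_of_le_one_left' (Valuation.map_sum_le _ fun j _ => by
            rw [map_mul, map_pow, map_pow]; exact mul_le_one' (pow_le_one' hX1 _) (pow_le_one' hXc _))) hd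
        exact (Valuation.map_eq_of_sub_lt _ (by rwa [val_algebraMap Q hne])).trans (val_algebraMap Q hne)
      have hPf : P.1 (Polynomial.aeval (x : K) f) < 1 := by
        have h0 : IsLocalRing.residue P.O (Polynomial.aeval x f) = 0 := by
          rw [Polynomial.aeval_def, Polynomial.hom_eval₂, hx]
          exact minpoly.aeval k s
        rw [residue_eq_zero] at h0
        haveI : IsScalarTower k P.O K := IsScalarTower.of_algebraMap_eq fun _ => rfl
        rwa [show ((Polynomial.aeval x f : P.O) : K) = Polynomial.aeval (x : K) f from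
          (Polynomial.aeval_algebraMap_apply K x f).symm] at h0
      have hQf : Q.1 (Polynomial.aeval X' f) ≤ exp (-(e : ℤ)) := by
        rw [Polynomial.aeval_algebraMap_apply, he, show -(e : ℤ) = e • (-1 : ℤ) by simp, exp_nsmul]
        exact pow_le_pow_left' ((le_exp_neg_one_iff P).mpr hPf) e
      rw [← Polynomial.aeval_map_algebraMap k', show f.map (algebraMap k k') = fk from rfl, hhq, map_mul,
        map_sub, Polynomial.aeval_X, Polynomial.aeval_C, map_mul, hh, mul_one] at hQf
      exact hQf
    choose o ho using fun i => IsLocalRing.residue_surjective (r i)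
    set o' : Fin (Module.finrank S (Res P)) → K' := fun i => algebraMap K K' (o i : K)
    let Span : K' → Prop := fun z => ∃ a : Fin (Module.finrank S (Res P)) → k',
      Q.1 (z - ∑ i, algebraMap k' K' (a i) * o' i) ≤ exp (-(e : ℤ))
    have hbase : ∀ x : P.O, Span (algebraMap K K' x) := by
      intro x
      set s := r.repr (IsLocalRing.residue P.O x)
      choose os hos using fun i => IsLocalRing.residue_surjective (s i : Res P)
      refine ⟨fun i => ρQ (s i : Res P), ?_⟩
      have hrest : P.1 ((x : K) - ∑ i, (os i : K) * (o i : K)) < 1 := by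
        have h0 : IsLocalRing.residue P.O (x - ∑ i, os i * o i) = 0 := by
          rw [map_sub, map_sum, sub_eq_zero]
          conv_lhs => rw [← r.sum_repr (IsLocalRing.residue P.O x)]
          exact Finset.sum_congr rfl fun i _ => by rw [map_mul, hos, ho]; rfl
        rw [residue_eq_zero] at h0
        simpa using h0
      have e1 : algebraMap K K' x - ∑ i, algebraMap k' K' (ρQ (s i : Res P)) * o' i =
          algebraMap K K' ((x : K) - ∑ i, (os i : K) * (o i : K)) +
          ∑ i, (algebraMap K K' (os i : K) - algebraMap k' K' (ρQ (s i : Res P))) * o' i := by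
        simp only [map_sub, map_sum, map_mul, o', sub_mul, Finset.sum_sub_distrib]; ring
      rw [e1]
      refine (Q.1.map_add _ _).trans (max_le ?_ (Valuation.map_sum_le _ fun i _ => ?_))
      · rw [he, show -(e : ℤ) = e • (-1 : ℤ) by simp, exp_nsmul]
        exact pow_le_pow_left' ((le_exp_neg_one_iff P).mpr hrest) e
      · rw [map_mul]
        exact (mul_le_of_le_one_right' (hQ1 _ (o i).2)).trans (hsep _ (s i).2 (os i) (hos i))
    have hall : ∀ z : K', Q.1 z ≤ 1 → Span z := by
      intro z hz
      set Qs := (over_finite (K' := K') hF P).toFinset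
      obtain ⟨u, hu⟩ := exists_approx Qs (fun R => if R = cE Q then z else 0)
        (fun R => if R = cE Q then (e : ℤ) else 0)
      have hu' : ∀ R : Place k K', IsOver R P → R.1 u ≤ 1 := fun R hR => by
        have h' := hu R ((Set.Finite.mem_toFinset _).mpr hR)
        rcases eq_or_ne R (cE Q) with rfl | hne
        · rw [if_pos rfl, if_pos rfl] at h'
          rw [← sub_add_cancel u z]
          exact ((cE Q).1.map_add _ _).trans (max_le (h'.trans (by rw [← exp_zero, exp_le_exp]; omega)) hz)
        · rw [if_neg hne, if_neg hne, sub_zero] at h'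
          simpa using h'
      obtain ⟨x, hx⟩ := coords_le_one hF v vK hvK hns hu'
      choose a ha using fun l => hbase (x l)
      refine ⟨fun i => ∑ l, v l * a l i, ?_⟩
      have h1 : Q.1 (u - z) ≤ exp (-(e : ℤ)) := by
        have h' := hu (cE Q) ((Set.Finite.mem_toFinset _).mpr ⟨e, he⟩)
        rw [if_pos rfl, if_pos rfl] at h'
        exact h'
      have h2 : Q.1 (u - ∑ i, algebraMap k' K' (∑ l, v l * a l i) * o' i) ≤ exp (-(e : ℤ)) := by
        have e2 : u - ∑ i, algebraMap k' K' (∑ l, v l * a l i) * o' i =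
            ∑ l, algebraMap k' K' (v l) * (algebraMap K K' (x l) - ∑ i, algebraMap k' K' (a l i) * o' i) := by
          simp only [hx, map_sum, map_mul, mul_sub, Finset.sum_sub_distrib, Finset.mul_sum, Finset.sum_mul]
          rw [Finset.sum_comm (γ := Fin (Module.finrank k k'))]
          congr 1
          · exact Finset.sum_congr rfl fun _ _ => mul_comm _ _
          · exact Finset.sum_congr rfl fun _ _ => Finset.sum_congr rfl fun _ _ => mul_assoc _ _ _
        rw [e2]
        refine Valuation.map_sum_le _ fun l _ => ?_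
        rw [map_mul]
        exact (mul_le_of_le_one_left' (Q.2.1 _)).trans (ha l)
      rw [show z - ∑ i, algebraMap k' K' (∑ l, v l * a l i) * o' i =
        (u - ∑ i, algebraMap k' K' (∑ l, v l * a l i) * o' i) - (u - z) by ring]
      exact (Q.1.map_sub _ _).trans (max_le h2 h1)
    by_contra hlt
    have hd : d = Module.finrank S (Res P) := rfl
    have ht := fun j : Fin e => exists_val_eq_exp Q (-(j : ℤ))
    choose t ht0 ht using ht
    choose a ha using fun j : Fin e => hall (t j) (by rw [ht, ← exp_zero, exp_le_exp]; omega)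
    have hnli : ¬ LinearIndependent k' a := fun hli => by
      have := hli.fintype_card_le_finrank
      rw [Fintype.card_fin, Module.finrank_fin_fun] at this
      omega
    obtain ⟨b, hb, j₀, hj₀⟩ := Fintype.not_linearIndependent_iff.mp hnli
    have hsmall : Q.1 (∑ j, algebraMap k' K' (b j) * t j) ≤ exp (-(e : ℤ)) := by
      have e3 : ∑ j, algebraMap k' K' (b j) * t j =
          ∑ j, algebraMap k' K' (b j) * (t j - ∑ i, algebraMap k' K' (a j i) * o' i) := by
        have hz : ∀ i, ∑ j, algebraMap k' K' (b j) * algebraMap k' K' (a j i) = 0 := fun i => by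
          have := congrFun hb i
          simp only [Finset.sum_apply, Pi.smul_apply, smul_eq_mul, Pi.zero_apply] at this
          rw [← map_zero (algebraMap k' K'), ← this, map_sum]
          exact Finset.sum_congr rfl fun j _ => (map_mul _ _ _).symm
        simp only [mul_sub, Finset.sum_sub_distrib, Finset.mul_sum, ← mul_assoc]
        rw [Finset.sum_comm (γ := Fin e)]
        simp only [← Finset.sum_mul, hz, zero_mul, Finset.sum_const_zero, sub_zero]
      rw [e3]
      refine Valuation.map_sum_le _ fun j _ => ?_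
      rw [map_mul]
      exact (mul_le_of_le_one_left' (Q.2.1 _)).trans (ha j)
    let J := Finset.univ.filter fun j => b j ≠ 0
    obtain ⟨j₁, hj₁, hmin⟩ := J.exists_min_image id ⟨j₀, by simp [J, hj₀]⟩
    have hb1 : b j₁ ≠ 0 := (Finset.mem_filter.mp hj₁).2
    have hlead : Q.1 (∑ j, algebraMap k' K' (b j) * t j) = exp (-((j₁ : ℕ) : ℤ)) := by
      rw [← Finset.add_sum_erase _ _ (Finset.mem_univ j₁), Valuation.map_add_eq_of_lt_left]
      · rw [map_mul, val_algebraMap Q hb1, one_mul, ht]
      · rw [map_mul Q.1 (algebraMap k' K' (b j₁)), val_algebraMap Q hb1, one_mul, ht]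
        refine Valuation.map_sum_lt _ exp_ne_zero fun j hj => ?_
        rcases eq_or_ne (b j) 0 with h0 | h0
        · simp [h0]
        · have hle' : j₁ ≤ j := hmin j (by simp [J, h0])
          have hne : j ≠ j₁ := (Finset.mem_erase.mp hj).1
          rw [map_mul, val_algebraMap Q h0, one_mul, ht, exp_lt_exp]
          have : (j₁ : ℕ) < j := lt_of_le_of_ne hle' (Fin.val_ne_iff.mpr hne.symm)
          omega
    rw [hlead, exp_le_exp] at hsmall
    have := j₁.2
    omega
  intro Q hQ
  obtain ⟨e, he⟩ := hQ
  suffices e = d from this ▸ he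
  refine le_antisymm (hbound Q e he) (not_lt.mp fun hlt => ?_)
  set Qs := (over_finite (K' := K') hF P).toFinset
  have hQs : ∀ R, R ∈ Qs ↔ IsOver R P := fun R => Set.Finite.mem_toFinset _
  have hsum := sum_ram_deg hF P Qs hQs
  have hdeg : ∀ R ∈ Qs, R.deg = Module.finrank k k' := fun R hR => by
    rw [constEquiv_symm_deg (k' := k') R, show ((constEquiv k k' K').symm R).deg = 1 from hsplit (cE.symm R) ((hQs R).mp hR), mul_one]
  rw [Finset.sum_congr rfl (fun R hR => by rw [hdeg R hR]), ← Finset.sum_mul, hdimK, mul_comm (Module.finrank k k')] at hsum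
  have hkk : 0 < Module.finrank k k' := Module.finrank_pos
  have hsum' := Nat.eq_of_mul_eq_mul_right hkk hsum
  have hcard : Qs.card = Field.finSepDegree k (Res P) := by
    rw [← hcount, ← Set.ncard_coe_finset]
    refine Set.ncard_congr (fun R _ => cE.symm R) (fun R hR => (hQs R).mp hR) (fun a b _ _ h => cE.symm.injective h)
      (fun T hT => ⟨cE T, (hQs _).mpr hT, cE.symm_apply_apply T⟩)
  have hstrict : ∑ R ∈ Qs, ramIdx R P < ∑ _R ∈ Qs, d := by
    refine Finset.sum_lt_sum (fun R hR => ?_) ⟨cE Q, (hQs _).mpr ⟨e, he⟩, ?_⟩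
    · obtain ⟨e', he'⟩ := (hQs R).mp hR
      rw [ramIdx_eq hF he']
      exact hbound (cE.symm R) e' he'
    · rw [ramIdx_eq hF (Q := cE Q) (e := e) he]
      exact hlt
  rw [hsum', Finset.sum_const, smul_eq_mul, hcard, Field.finSepDegree_mul_finInsepDegree] at hstrict
  exact lt_irrefl _ hstrict

end Groth.Agent.FFLib.SplitPlaces
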