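import Groth.Agent.FFLib.DescentModel
import Groth.Agent.FFLib.Rational
import Mathlib.RingTheory.AdjoinRoot
import Mathlib.FieldTheory.IsAlgClosed.Basic

/-! Splitting fields of places and nonsingular levels. -/

set_option linter.unusedSectionVars false
set_option linter.style.haveILetI false

-- one path to the module structure of residue fields over the constants
attribute [-instance] IsLocalRing.instModuleResidueFieldOfAlgebra

namespace Groth.Agent.FFLib.Descent

open FunFld WithZero
open scoped TensorProduct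

universe u v w

section General

variable {k k'' : Type*} [Field k] [Field k''] [Algebra k k'']

theorem exists_const_of_split {L : Type*} [Field L] [Algebra k'' L] [Algebra k L] [IsScalarTower k k'' L]
    (Q : Place k'' L) {y : L} {G : Polynomial k} (hG : G.Monic)
    (hsp : (G.map (algebraMap k k'')).Splits) (hy : Q.1 (Polynomial.aeval y G) < 1) :
    ∃ c : k'', Q.1 (y - algebraMap k'' L c) < 1 := by
  rw [← Polynomial.aeval_map_algebraMap k'', hsp.eq_prod_roots_of_monic (hG.map _), map_multiset_prod,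
    Multiset.map_map] at hy
  generalize (G.map (algebraMap k k'')).roots = S at hy
  induction S using Multiset.induction with
  | empty => simp at hy
  | cons a s ih =>
    rw [Multiset.map_cons, Multiset.prod_cons, map_mul] at hy
    by_cases ha : Q.1 (y - algebraMap k'' L a) < 1
    · exact ⟨a, ha⟩
    · refine ih (lt_of_le_of_lt (le_mul_of_one_le_left' ?_) hy)
      simpa using not_lt.mp ha

end General

variable {k : Type u} {K : Type v} [Field k] [Field K] [Algebra k K] {kb : Type u} [Field kb] [Algebra k kb]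

variable (kb) in
/-- An equation over `k`, modulo the maximal ideal. -/
def SplitsIn (P : Place k K) (F : IntermediateField k kb) (z : kb ⊗[k] K) : Prop :=
  ∃ G : Polynomial k, G.Monic ∧ (G.map (algebraMap k F)).Splits ∧
    ∃ D : Polynomial P.O, (∀ l, P.1 (D.coeff l : K) < 1) ∧ Polynomial.aeval z G = D.eval₂ (rightO kb P) z

variable [IsAlgClosure k kb]

theorem exists_finite_splitting (G : Polynomial k) :
    ∃ F : IntermediateField k kb, FiniteDimensional k F ∧ ∀ F' : IntermediateField k kb, F ≤ F' →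
      (G.map (algebraMap k F')).Splits := by
  classical
  haveI : IsAlgClosed kb := IsAlgClosure.isAlgClosed k
  haveI : Algebra.IsAlgebraic k kb := IsAlgClosure.isAlgebraic
  haveI : Finite (G.rootSet kb) := (Polynomial.rootSet_finite G kb).to_subtype
  refine ⟨IntermediateField.adjoin k (G.rootSet kb),
    IntermediateField.finiteDimensional_adjoin fun x _ => Algebra.IsIntegral.isIntegral x, fun F' hF' => ?_⟩
  exact IntermediateField.splits_of_splits (IsAlgClosed.splits _) fun x hx =>
    hF' (IntermediateField.subset_adjoin k _ hx)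

theorem exists_residue_equation (hF : IsFF k K) (P : Place k K) {z : kb ⊗[k] K} (hz : IsInt kb P z) :
    ∃ G : Polynomial k, G.Monic ∧
      ∃ D : Polynomial P.O, (∀ l, P.1 (D.coeff l : K) < 1) ∧ Polynomial.aeval z G = D.eval₂ (rightO kb P) z := by
  obtain ⟨p, hp, hpz⟩ := hz
  set pb := p.map (IsLocalRing.residue P.O)
  have hpb : pb.Monic := hp.map _
  haveI : IsScalarTower k (Res P) (AdjoinRoot pb) := IsScalarTower.of_algebraMap_eq fun _ => rfl
  haveI : Module.Finite k (Res P) := residue_finite hF P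
  haveI : Module.Finite (Res P) (AdjoinRoot pb) := hpb.finite_adjoinRoot
  haveI : Module.Finite k (AdjoinRoot pb) := Module.Finite.trans (Res P) (AdjoinRoot pb)
  have hint : IsIntegral k (AdjoinRoot.root pb) := IsIntegral.of_finite k _
  set G := minpoly k (AdjoinRoot.root pb)
  have hdvd : pb ∣ G.map (algebraMap k (Res P)) := by
    rw [← AdjoinRoot.mk_eq_zero, ← AdjoinRoot.aeval_eq, Polynomial.aeval_map_algebraMap, minpoly.aeval]
  obtain ⟨q, hq⟩ := hdvd
  obtain ⟨q', rfl⟩ := Polynomial.map_surjective _ IsLocalRing.residue_surjective q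
  refine ⟨G, minpoly.monic hint, G.map (algebraMap k P.O) - p * q', fun l => ?_, ?_⟩
  · rw [← residue_eq_zero, ← Polynomial.coeff_map, Polynomial.map_sub, Polynomial.map_mul, Polynomial.map_map,
      show (IsLocalRing.residue P.O).comp (algebraMap k P.O) = algebraMap k (Res P) from
        RingHom.ext fun c => (residue_algebraMap P c).symm, hq, sub_self, Polynomial.coeff_zero]
  · rw [Polynomial.eval₂_sub, Polynomial.eval₂_mul, hpz, zero_mul, sub_zero, Polynomial.eval₂_map,
      Polynomial.aeval_def]
    congr 1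
    exact RingHom.ext fun c => (AlgHom.commutes (Algebra.TensorProduct.includeRight : K →ₐ[k] kb ⊗[k] K) c).symm

theorem exists_residue_level (hF : IsFF k K) (P : Place k K) :
    ∃ F : IntermediateField k kb, FiniteDimensional k F ∧ ∀ F' : IntermediateField k kb, F ≤ F' →
      ∀ x : K, P.1 x ≤ 1 → ∃ G : Polynomial k, G.Monic ∧ (G.map (algebraMap k F')).Splits ∧
        P.1 (Polynomial.aeval x G) < 1 := by
  classical
  haveI : IsAlgClosed kb := IsAlgClosure.isAlgClosed k
  haveI : Module.Finite k (Res P) := residue_finite hF P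
  haveI : Algebra.IsAlgebraic k (Res P) :=
    @Algebra.IsAlgebraic.of_finite k (Res P) _ _ _ _ (residue_finite hF P)
  haveI : Finite (Res P →ₐ[k] kb) := @Finite.of_fintype _ (minpoly.AlgHom.fintype k (Res P) kb)
  refine ⟨⨆ σ : Res P →ₐ[k] kb, σ.fieldRange, ?_, fun F' hF' x hx => ?_⟩
  · haveI : ∀ σ : Res P →ₐ[k] kb, FiniteDimensional k σ.fieldRange := fun σ =>
      Module.Finite.equiv (AlgEquiv.ofInjective σ σ.injective).toLinearEquiv
    exact IntermediateField.finiteDimensional_iSup_of_finite
  set r := IsLocalRing.residue P.O ⟨x, hx⟩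
  have hr : IsIntegral k r := Algebra.IsIntegral.isIntegral r
  refine ⟨minpoly k r, minpoly.monic hr, IntermediateField.splits_of_splits (IsAlgClosed.splits _) fun c hc => ?_, ?_⟩
  · rw [← Algebra.IsAlgebraic.range_eval_eq_rootSet_minpoly] at hc
    obtain ⟨σ, rfl⟩ := hc
    exact hF' (le_iSup (fun σ : Res P →ₐ[k] kb => σ.fieldRange) σ ⟨r, rfl⟩)
  · have h0 : IsLocalRing.residue P.O (Polynomial.aeval (⟨x, hx⟩ : P.O) (minpoly k r)) = 0 := by
      rw [Polynomial.aeval_def, Polynomial.hom_eval₂]
      exact minpoly.aeval k r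
    rw [residue_eq_zero] at h0
    haveI : IsScalarTower k P.O K := IsScalarTower.of_algebraMap_eq fun _ => rfl
    rwa [show ((Polynomial.aeval (⟨x, hx⟩ : P.O) (minpoly k r) : P.O) : K) = Polynomial.aeval x (minpoly k r) from
      (Polynomial.aeval_algebraMap_apply K (⟨x, hx⟩ : P.O) _).symm] at h0

/-- A finite level at which a place splits. -/
theorem exists_split_level (hK : IsFunctionField k K) (hg : IsGeometric k K) (P : Place k K) :
    ∃ F : IntermediateField k kb, FiniteDimensional k F ∧ ∃ (n : ℕ) (g : Fin n → kb ⊗[k] K),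
      (∀ i, IsInt kb P (g i) ∧ g i ∈ lev F) ∧
      (∀ z, IsInt kb P z → z ∈ Submodule.span kb (Set.range g) ⊔
          Submodule.span kb ((fun x => (1 : kb) ⊗ₜ[k] x) '' {x : K | P.1 x ≤ 1})) ∧
      ∀ F' : IntermediateField k kb, F ≤ F' → (∀ i, SplitsIn kb P F' (g i)) ∧
        ∀ x : K, P.1 x ≤ 1 → ∃ G : Polynomial k, G.Monic ∧ (G.map (algebraMap k F')).Splits ∧
          P.1 (Polynomial.aeval x G) < 1 := by
  classical
  obtain ⟨F₁, hF₁, -, n, g, hgl, hspan⟩ := exists_descent (kb := kb) hK hg P
  obtain ⟨F₂, hF₂, hres⟩ := exists_residue_level (kb := kb) hK.1 P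
  choose G hGm D hD hGD using fun i => exists_residue_equation hK.1 P (hgl i).1
  choose F₃ hF₃ hsplit using fun i => exists_finite_splitting (kb := kb) (G i)
  haveI := hF₁
  haveI := hF₂
  haveI : ∀ i, FiniteDimensional k (F₃ i) := hF₃
  refine ⟨F₁ ⊔ F₂ ⊔ ⨆ i, F₃ i, inferInstance, n, g,
    fun i => ⟨(hgl i).1, lev_mono (le_sup_left.trans le_sup_left) (hgl i).2⟩, hspan, fun F' hF' => ⟨fun i => ?_, ?_⟩⟩
  · exact ⟨G i, hGm i, hsplit i F' (((le_iSup F₃ i).trans le_sup_right).trans hF'), D i, hD i, hGD i⟩
  · exact hres F' ((le_sup_right.trans le_sup_left).trans hF')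

/-- Pull a residue equation back to a valuation above `P`. -/
theorem val_aeval_lt_one {P : Place k K} {L : Type*} [Field L] [Algebra K L] [Algebra k L] [IsScalarTower k K L]
    (Q : Valuation L (WithZero (Multiplicative ℤ))) (hQ : ∀ x : K, P.1 x < 1 → Q (algebraMap K L x) < 1)
    {y : L} (hy : Q y ≤ 1) {G : Polynomial k} {D : Polynomial P.O} (hD : ∀ l, P.1 (D.coeff l : K) < 1)
    (h : Polynomial.aeval y G = D.eval₂ ((algebraMap K L).comp P.O.subtype) y) : Q (Polynomial.aeval y G) < 1 := by
  rw [h, Polynomial.eval₂_eq_sum_range]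
  refine Q.map_sum_lt one_ne_zero fun l _ => ?_
  rw [map_mul, map_pow]
  exact lt_of_le_of_lt (mul_le_of_le_one_right' (pow_le_one' hy l)) (hQ _ (hD l))

variable (kb) in
theorem eq_toT_of_equation {k' : Type u} {K' : Type w} [Field k'] [Field K'] [Algebra k k'] [Algebra K K']
    [Algebra k' K'] [Algebra k K'] [IsScalarTower k k' K'] [IsScalarTower k K K']
    (h : Function.Bijective (Algebra.TensorProduct.productMap
      (IsScalarTower.toAlgHom k k' K') (IsScalarTower.toAlgHom k K K')))
    [Algebra k' kb] [IsScalarTower k k' kb] {P : Place k K} {y : K'} {G : Polynomial k} {D : Polynomial P.O}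
    (he : Polynomial.aeval (toT kb h y) G = D.eval₂ (rightO kb P) (toT kb h y)) :
    Polynomial.aeval y G = D.eval₂ ((algebraMap K K').comp P.O.subtype) y := by
  refine toT_injective kb h ?_
  rw [← Polynomial.aeval_algHom_apply, he, show toT kb h (D.eval₂ _ y) = (toT kb h).toRingHom (D.eval₂ _ y) from rfl,
    Polynomial.hom_eval₂]
  congr 1
  exact RingHom.ext fun a => (toT_algebraMap kb h (a : K)).symm

/-- Semilocal multiplier at a place. -/
theorem exists_semilocal_factor {K' : Type w} [Field K'] [Algebra K K'] [Algebra k K'] [IsScalarTower k K K']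
    [FiniteDimensional K K'] (hF : IsFF k K) {P : Place k K} {Q : Place k K'} (hQ : IsOver Q P) (z : K')
    (hz : Q.1 z ≤ 1) :
    ∃ s : K', Q.1 s = 1 ∧ (∀ R : Place k K', IsOver R P → R.1 s ≤ 1) ∧
      ∀ R : Place k K', IsOver R P → R.1 (z * s) ≤ 1 := by
  classical
  set Qs := (over_finite (K' := K') hF P).toFinset
  have hQs : ∀ R, R ∈ Qs ↔ IsOver R P := fun R => Set.Finite.mem_toFinset _
  obtain ⟨s, hs⟩ := exists_approx Qs (fun R => if R = Q then 1 else 0) (fun R => if R = Q then 1 else max 0 (-R.ord z))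
  have hsQ : Q.1 s = 1 := by
    have h1 := hs Q ((hQs Q).mpr hQ)
    simp only [↓reduceIte] at h1
    refine (Valuation.map_eq_of_sub_lt _ ?_).trans (map_one Q.1)
    rw [map_one]
    exact h1.trans_lt (by rw [← exp_zero, exp_lt_exp]; omega)
  refine ⟨s, hsQ, fun R hR => ?_, fun R hR => ?_⟩
  all_goals
    by_cases hRQ : R = Q
    · subst hRQ
      first
        | exact hsQ.le
        | rw [map_mul, hsQ, mul_one]; exact hz
    have h1 := hs R ((hQs R).mpr hR)
    simp only [if_neg hRQ, sub_zero] at h1
  · exact h1.trans (by rw [← exp_zero, exp_le_exp]; omega)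
  · rcases eq_or_ne z 0 with rfl | hz0
    · simp
    rw [map_mul, val_eq_exp R hz0]
    refine (mul_le_mul' le_rfl h1).trans ?_
    rw [← exp_add, ← exp_zero, exp_le_exp]; omega

variable (kb) in
/-- Degree one above a split place. -/
theorem deg_one_of_split {k'' : Type u} {K'' : Type w} [Field k''] [Field K''] [Algebra k k''] [FiniteDimensional k k'']
    [Algebra K K''] [Algebra k'' K''] [Algebra k K''] [IsScalarTower k k'' K''] [IsScalarTower k K K'']
    (h : Function.Bijective (Algebra.TensorProduct.productMap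
      (IsScalarTower.toAlgHom k k'' K'') (IsScalarTower.toAlgHom k K K'')))
    (hF : IsFF k K) (P : Place k K) [Algebra k'' kb] [IsScalarTower k k'' kb]
    {F : IntermediateField k kb} (hFk : ∀ a ∈ F, a ∈ Set.range (algebraMap k'' kb))
    {n : ℕ} {g : Fin n → kb ⊗[k] K} (hgl : ∀ i, IsInt kb P (g i) ∧ g i ∈ lev F)
    (hspan : ∀ z, IsInt kb P z → z ∈ Submodule.span kb (Set.range g) ⊔
      Submodule.span kb ((fun x => (1 : kb) ⊗ₜ[k] x) '' {x : K | P.1 x ≤ 1}))
    (hsg : ∀ i, ∃ G : Polynomial k, G.Monic ∧ (G.map (algebraMap k k'')).Splits ∧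
      ∃ D : Polynomial P.O, (∀ l, P.1 (D.coeff l : K) < 1) ∧ Polynomial.aeval (g i) G = D.eval₂ (rightO kb P) (g i))
    (hsx : ∀ x : K, P.1 x ≤ 1 → ∃ G : Polynomial k, G.Monic ∧ (G.map (algebraMap k k'')).Splits ∧
      P.1 (Polynomial.aeval x G) < 1)
    (Q : Place k'' K'') (hQ : ∀ x : K, Q.1 (algebraMap K K'' x) ≤ 1 ↔ P.1 x ≤ 1) :
    (∀ z : K'', Q.1 z ≤ 1 → ∃ c : k'', Q.1 (z - algebraMap k'' K'' c) < 1) ∧ Q.deg = 1 := by
  classical
  obtain ⟨vK, -⟩ := exists_const_basis (K := K) h (Module.finBasis k k'')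
  haveI : FiniteDimensional K K'' := Module.Finite.of_basis vK
  set Qk := constEquiv k k'' K'' Q
  obtain ⟨P', e, he1, he⟩ := exists_over (K' := K'') hF Qk
  have hPP : P' = P := place_eq_of_iff fun x => by
    rw [← hQ x, show Q.1 (algebraMap K K'' x) = P'.1 x ^ e from he x, pow_le_one_iff (by omega)]
  subst hPP
  have hover : IsOver Qk P' := ⟨e, he⟩
  have hlt : ∀ x : K, P'.1 x < 1 → Q.1 (algebraMap K K'' x) < 1 := fun x hx => by
    rw [show Q.1 (algebraMap K K'' x) = P'.1 x ^ e from he x]; exact pow_lt_one' hx (by omega)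
  obtain ⟨y, hy, hyspan⟩ := mem_span_of_descent kb h hF P' hFk hgl hspan
  have hgood : ∀ z : K'', (∀ R : Place k K'', IsOver R P' → R.1 z ≤ 1) →
      ∃ c : k'', Q.1 (z - algebraMap k'' K'' c) < 1 := by
    intro z hz
    have hmem := hyspan z hz
    induction hmem using Submodule.span_induction with
    | mem a ha =>
      rcases ha with ⟨i, rfl⟩ | ⟨x, hx, rfl⟩
      · obtain ⟨G, hG, hsp, D, hD, hGD⟩ := hsg i
        refine exists_const_of_split Q hG hsp ?_
        refine val_aeval_lt_one Q.1 hlt ((hy i).2 Qk hover) hD (eq_toT_of_equation kb h ?_)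
        rw [(hy i).1]; exact hGD
      · obtain ⟨G, hG, hsp, hGx⟩ := hsx x hx
        refine exists_const_of_split Q hG hsp ?_
        rw [Polynomial.aeval_algebraMap_apply]
        exact hlt _ hGx
    | zero => exact ⟨0, by simp⟩
    | add a b ha' hb' ha hb =>
      have hle : ∀ a ∈ Submodule.span k'' (Set.range y ∪ algebraMap K K'' '' {x : K | P'.1 x ≤ 1}),
          ∀ R : Place k K'', IsOver R P' → R.1 a ≤ 1 := fun a ha R hR => by
        induction ha using Submodule.span_induction with
        | mem w hw =>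
          rcases hw with ⟨i, rfl⟩ | ⟨x, hx, rfl⟩
          · exact (hy i).2 R hR
          · obtain ⟨e', he'⟩ := hR
            rw [he']; exact pow_le_one' hx e'
        | zero => simp
        | add u v _ _ hu hv => exact (R.1.map_add _ _).trans (max_le hu hv)
        | smul c u _ hu => rw [Algebra.smul_def, map_mul]; exact mul_le_one' (const_val_le_one R c) hu
      obtain ⟨c, hc⟩ := ha (hle a ha')
      obtain ⟨d, hd⟩ := hb (hle b hb')
      exact ⟨c + d, by rw [map_add, add_sub_add_comm]; exact (Q.1.map_add _ _).trans_lt (max_lt hc hd)⟩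
    | smul c a ha' ha =>
      rcases eq_or_ne c 0 with rfl | hc0
      · exact ⟨0, by simp⟩
      obtain ⟨d, hd⟩ := ha fun R hR => by
        have h1 := hz R hR
        have hc : R.1 (algebraMap k'' K'' c⁻¹) ≤ 1 := const_val_le_one R _
        have h2 : R.1 (algebraMap k'' K'' c⁻¹ * (c • a)) ≤ 1 := by rw [map_mul]; exact mul_le_one' hc h1
        rwa [Algebra.smul_def, ← mul_assoc, ← map_mul, inv_mul_cancel₀ hc0, map_one, one_mul] at h2
      refine ⟨c * d, ?_⟩
      rw [Algebra.smul_def, map_mul, ← mul_sub, map_mul]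
      exact lt_of_le_of_lt (mul_le_of_le_one_left' (Q.2.1 c)) hd
  have hall : ∀ z : K'', Q.1 z ≤ 1 → ∃ c : k'', Q.1 (z - algebraMap k'' K'' c) < 1 := by
    intro z hz
    obtain ⟨s, hs1, hsle, hzs⟩ := exists_semilocal_factor hF hover z hz
    obtain ⟨c, hc⟩ := hgood (z * s) hzs
    obtain ⟨d, hd⟩ := hgood s hsle
    replace hs1 : Q.1 s = 1 := hs1
    have hd0 : d ≠ 0 := fun h0 => by rw [h0, map_zero, sub_zero, hs1] at hd; exact lt_irrefl _ hd
    refine ⟨c / d, ?_⟩
    have e1 : (z - algebraMap k'' K'' (c / d)) * s = (z * s - algebraMap k'' K'' c) -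
        algebraMap k'' K'' (c / d) * (s - algebraMap k'' K'' d) := by
      rw [mul_sub, ← map_mul, div_mul_cancel₀ c hd0]; ring
    have h2 : Q.1 ((z - algebraMap k'' K'' (c / d)) * s) < 1 := by
      rw [e1]
      refine (Q.1.map_sub _ _).trans_lt (max_lt hc ?_)
      rw [map_mul]
      exact lt_of_le_of_lt (mul_le_of_le_one_left' (Q.2.1 _)) hd
    rwa [map_mul, hs1, mul_one] at h2
  refine ⟨hall, (LinearEquiv.finrank_eq (LinearEquiv.ofBijective (Algebra.linearMap k'' (Res Q))
    ⟨(algebraMap k'' (Res Q)).injective, fun r => ?_⟩)).symm.trans (Module.finrank_self k'')⟩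
  obtain ⟨z, rfl⟩ := IsLocalRing.residue_surjective r
  obtain ⟨c, hc⟩ := hall (z : K'') z.2
  refine ⟨c, ?_⟩
  rw [Algebra.linearMap_apply, residue_algebraMap, eq_comm, ← sub_eq_zero, ← map_sub, residue_eq_zero]
  exact hc

variable (kb) in
/-- Above a descent level every place is nonsingular. -/
theorem closure_eq_of_descent {k' k'' : Type u} {K' : Type v} {K'' : Type v} [Field k'] [Field k''] [Field K'] [Field K'']
    [Algebra k k'] [FiniteDimensional k k'] [Algebra k k''] [FiniteDimensional k k''] [Algebra k' k'']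
    [IsScalarTower k k' k''] [Algebra K K'] [Algebra k' K'] [Algebra k K'] [IsScalarTower k k' K'] [IsScalarTower k K K']
    [Algebra K' K''] [Algebra k'' K''] [Algebra k' K''] [Algebra k K''] [Algebra K K'']
    [IsScalarTower k' k'' K''] [IsScalarTower k' K' K''] [IsScalarTower K K' K''] [IsScalarTower k K K'']
    [IsScalarTower k k'' K''] [Algebra k' kb] [Algebra k'' kb] [IsScalarTower k k' kb] [IsScalarTower k k'' kb]
    [IsScalarTower k' k'' kb]
    (h : Function.Bijective (Algebra.TensorProduct.productMap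
      (IsScalarTower.toAlgHom k k' K') (IsScalarTower.toAlgHom k K K')))
    (h' : Function.Bijective (Algebra.TensorProduct.productMap
      (IsScalarTower.toAlgHom k k'' K'') (IsScalarTower.toAlgHom k K K'')))
    (hF : IsFF k K) {F : IntermediateField k kb} (hFk : ∀ a ∈ F, a ∈ Set.range (algebraMap k' kb))
    (hdes : ∀ P : Place k K, ∃ (n : ℕ) (g : Fin n → kb ⊗[k] K), (∀ i, IsInt kb P (g i) ∧ g i ∈ lev F) ∧
        ∀ z, IsInt kb P z → z ∈ Submodule.span kb (Set.range g) ⊔
          Submodule.span kb ((fun x => (1 : kb) ⊗ₜ[k] x) '' {x : K | P.1 x ≤ 1}))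
    (Q : Place k' K') :
    integralClosure (Q.O.toSubring.map (algebraMap K' K'')) K'' =
      Algebra.adjoin (Q.O.toSubring.map (algebraMap K' K'')) (Set.range (algebraMap k'' K'')) := by
  classical
  obtain ⟨vK', -⟩ := exists_const_basis (K := K) h (Module.finBasis k k')
  haveI : FiniteDimensional K K' := Module.Finite.of_basis vK'
  obtain ⟨vK'', -⟩ := exists_const_basis (K := K) h' (Module.finBasis k k'')
  haveI : FiniteDimensional K K'' := Module.Finite.of_basis vK''
  haveI : FiniteDimensional K' K'' := Module.Finite.of_restrictScalars_finite K K' K''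
  haveI : FiniteDimensional k' k'' := Module.Finite.of_restrictScalars_finite k k' k''
  set Qk := constEquiv k k' K' Q
  obtain ⟨P, e, he1, he⟩ := exists_over (K' := K') hF Qk
  have hF' : IsFF k' K' := isFF_const (IsFF.ext (K' := K') hF)
  haveI : IsScalarTower k k' K'' := IsScalarTower.of_algebraMap_eq fun c => by
    rw [IsScalarTower.algebraMap_apply k k'' K'', IsScalarTower.algebraMap_apply k k' k'',
      ← IsScalarTower.algebraMap_apply k' k'' K'']
  haveI : IsScalarTower k K' K'' := IsScalarTower.of_algebraMap_eq fun c => by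
    rw [IsScalarTower.algebraMap_apply k K K'', IsScalarTower.algebraMap_apply K K' K'',
      ← IsScalarTower.algebraMap_apply k K K']
  obtain ⟨n, g, hgl, hspan⟩ := hdes P
  have hFk'' : ∀ a ∈ F, a ∈ Set.range (algebraMap k'' kb) := fun a ha => by
    obtain ⟨b, rfl⟩ := hFk a ha
    exact ⟨algebraMap k' k'' b, (IsScalarTower.algebraMap_apply k' k'' kb b).symm⟩
  obtain ⟨y', hy', -⟩ := mem_span_of_descent kb h hF P hFk hgl hspan
  obtain ⟨y, hy, hyspan⟩ := mem_span_of_descent kb h' hF P hFk'' hgl hspan
  have hcompat : ∀ z : K', toT kb h' (algebraMap K' K'' z) = toT kb h z := fun z => by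
    obtain ⟨w, rfl⟩ := (model h).surjective z
    induction w with
    | zero => simp
    | tmul a x =>
      have e0 : model h (a ⊗ₜ[k] x) = algebraMap k' K' a * algebraMap K K' x :=
        Algebra.TensorProduct.productMap_apply_tmul _ _ _ _
      rw [e0, toT_model, map_mul, ← IsScalarTower.algebraMap_apply k' K' K'',
        IsScalarTower.algebraMap_apply k' k'' K'', ← IsScalarTower.algebraMap_apply K K' K'', toT_model,
        ← IsScalarTower.algebraMap_apply k' k'' kb]
    | add a b ha hb => rw [map_add, map_add, map_add, map_add, ha, hb]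
  have hyy : ∀ i, y i = algebraMap K' K'' (y' i) := fun i => toT_injective kb h' (by rw [hcompat, (hy i).1, (hy' i).1])
  refine le_antisymm (fun z hz => ?_) (Algebra.adjoin_le ?_)
  · set B := Algebra.adjoin (Q.O.toSubring.map (algebraMap K' K'')) (Set.range (algebraMap k'' K''))
    have hQO : ∀ a : K', Q.1 a ≤ 1 → algebraMap K' K'' a ∈ B := fun a ha =>
      Subalgebra.algebraMap_mem B (⟨algebraMap K' K'' a, ⟨a, ha, rfl⟩⟩ : Q.O.toSubring.map (algebraMap K' K''))
    set S := (over_finite (K' := K') hF P).toFinset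
    have hS : ∀ R, R ∈ S ↔ IsOver R P := fun R => Set.Finite.mem_toFinset _
    obtain ⟨s, hs⟩ := exists_approx S (fun R => if R = Qk then 1 else 0) (fun _ => 1)
    have hsQ : Q.1 s = 1 := by
      have h' := (le_exp_neg_one_iff Qk).mp (hs Qk ((hS Qk).mpr ⟨e, he⟩))
      rw [if_pos rfl] at h'
      show Qk.1 s = 1
      rw [← sub_add_cancel s 1, Valuation.map_add_eq_of_lt_right _ (by rwa [map_one]), map_one]
    set T := (over_finite (K' := K'') hF P).toFinset
    set N := T.sup fun R => (-R.ord z).toNat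
    have hint : ∀ R : Place k K'', IsOver R P → R.1 (z * algebraMap K' K'' s ^ N) ≤ 1 := by
      intro R hR
      obtain ⟨R', e', he'1, he'⟩ := exists_over (K' := K'') (IsFF.ext (K' := K') hF) R
      obtain ⟨P', e'', -, he''⟩ := exists_over (K' := K') hF R'
      have hR'P : IsOver R' P := by
        obtain ⟨eR, heR⟩ := hR
        have h1 : IsOverWith R P' (e'' * e') := fun x => by
          rw [IsScalarTower.algebraMap_apply K K' K'', he', he'', ← pow_mul]
        exact (over_unique hF h1 heR).1 ▸ ⟨e'', he''⟩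
      rw [map_mul, map_pow, he']
      by_cases hRQ : R' = Qk
      · rw [hRQ, show Qk.1 s = 1 from hsQ, one_pow, one_pow, mul_one]
        let Rk : Place k' K'' := (constEquiv k k' K'').symm R
        have hover : IsOver Rk Q := ⟨e', fun a => by
          show R.1 (algebraMap K' K'' a) = Qk.1 a ^ e'
          rw [← hRQ]; exact he' a⟩
        exact le_one_of_mem_integralClosure_map (P := Q) hz hover
      rcases eq_or_ne z 0 with e0 | e0
      · simp [e0]
      have hsR : R'.1 s ≤ exp (-1 : ℤ) := by
        have h' := hs R' ((hS R').mpr hR'P)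
        rwa [if_neg hRQ, sub_zero] at h'
      refine (mul_le_mul' (le_of_eq (val_eq_exp R e0)) (pow_le_pow_left' (pow_le_pow_left' hsR e') N)).trans ?_
      rw [← exp_nsmul, ← exp_nsmul, ← exp_add, ← exp_zero, exp_le_exp, nsmul_eq_mul, nsmul_eq_mul]
      have h1 : (-R.ord z).toNat ≤ N := Finset.le_sup (f := fun R : Place k K'' => (-R.ord z).toNat)
        ((Set.Finite.mem_toFinset _).mpr hR)
      have h2 : (N : ℤ) * 1 ≤ (N : ℤ) * e' := mul_le_mul_of_nonneg_left (by exact_mod_cast he'1) (by positivity)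
      have h3 := Int.self_le_toNat (-(R.ord z))
      have h4 : (((-(R.ord z)).toNat : ℕ) : ℤ) ≤ (N : ℤ) := by exact_mod_cast h1
      linarith
    have hmem : z * algebraMap K' K'' s ^ N ∈ B := by
      have h1 := hyspan _ hint
      generalize z * algebraMap K' K'' s ^ N = w at h1 ⊢
      induction h1 using Submodule.span_induction with
      | mem a ha =>
        rcases ha with ⟨i, rfl⟩ | ⟨x, hx, rfl⟩
        · rw [hyy i]; exact hQO _ ((hy' i).2 Qk ⟨e, he⟩)
        · rw [IsScalarTower.algebraMap_apply K K' K'']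
          refine hQO _ ?_
          rw [show Q.1 (algebraMap K K' x) = P.1 x ^ e from he x]
          exact pow_le_one' hx e
      | zero => exact zero_mem B
      | add a b _ _ ha hb => exact add_mem ha hb
      | smul c a _ ha => rw [Algebra.smul_def]; exact Subalgebra.mul_mem B (Algebra.subset_adjoin ⟨c, rfl⟩) ha
    have hs0 : algebraMap K' K'' s ^ N ≠ 0 :=
      pow_ne_zero _ ((_root_.map_ne_zero _).mpr fun e0 => by rw [e0, map_zero] at hsQ; exact zero_ne_one hsQ)
    rw [← mul_inv_cancel_right₀ hs0 z]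
    refine Subalgebra.mul_mem B hmem ?_
    rw [← map_pow, ← map_inv₀]
    exact hQO _ (by rw [map_inv₀, map_pow, hsQ, one_pow, inv_one])
  · rintro _ ⟨c, rfl⟩
    exact mem_integralClosure_map hF' fun R _ => const_val_le_one (k := k') R c

end Groth.Agent.FFLib.Descent
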