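import Groth.Agent.FFLib.Small
import Mathlib.Algebra.BigOperators.Intervals

/-! Vanishing orders and weights of linear series. -/

namespace Groth.Agent.FFLib

open FunFld WithZero

variable {k K : Type*} [Field k] [Field K] [Algebra k K]

/-- A linear series of degree `d` and dimension `r` over an algebraically closed field. -/
structure IsSeries (D : Divisor k K) (V : Submodule k K) (d r : ℕ) : Prop where
  hK : IsFunctionField k K
  deg_one : ∀ P : Place k K, P.deg = 1
  hD : D.deg = d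
  le : V ≤ L D
  dim : Module.finrank k V = r + 1

/-- Dimension of the members vanishing to order `≥ n` at `P`. -/
noncomputable def vdim (D : Divisor k K) (V : Submodule k K) (P : Place k K) (n : ℕ) : ℕ :=
  Module.finrank k ↥(V ⊓ L (D - Finsupp.single P (n : ℤ)))

/-- The sum of the vanishing orders at `P`. -/
noncomputable def vsum (D : Divisor k K) (V : Submodule k K) (d : ℕ) (P : Place k K) : ℕ :=
  ∑ n ∈ Finset.range d, vdim D V P (n + 1)

theorem vsum_eq (D : Divisor k K) (V : Submodule k K) (d : ℕ) (P : Place k K) :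
    (∑ n ∈ Finset.range d, Module.finrank k ↥(V ⊓ L (D - Finsupp.single P ((n : ℤ) + 1)))) =
      vsum D V d P :=
  Finset.sum_congr rfl fun n _ => by rw [vdim]; push_cast; rfl

namespace IsSeries

variable {D : Divisor k K} {V : Submodule k K} {d r : ℕ} (h : IsSeries D V d r)
include h

theorem finite : FiniteDimensional k V :=
  have := L_finite h.hK.1 D
  Submodule.finiteDimensional_of_le h.le

theorem finite_inf (W : Submodule k K) : FiniteDimensional k ↥(V ⊓ W) :=
  have := h.finite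
  Submodule.finiteDimensional_of_le inf_le_left

theorem vdim_zero (P : Place k K) : vdim D V P 0 = r + 1 := by
  rw [vdim, Nat.cast_zero, Finsupp.single_zero, sub_zero, inf_eq_left.mpr h.le, h.dim]

theorem vdim_anti (P : Place k K) {m n : ℕ} (hmn : m ≤ n) : vdim D V P n ≤ vdim D V P m :=
  have := h.finite_inf (L (D - Finsupp.single P (m : ℤ)))
  Submodule.finrank_mono (inf_le_inf_left _ (L_mono (sub_le_sub_left
    (Finsupp.single_le_single.mpr (by omega)) _)))

theorem vdim_le (P : Place k K) (n : ℕ) : vdim D V P n ≤ r + 1 :=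
  (h.vdim_anti P (Nat.zero_le n)).trans_eq (h.vdim_zero P)

theorem vdim_step (P : Place k K) (n : ℕ) : vdim D V P n ≤ vdim D V P (n + 1) + 1 := by
  have := finrank_inf_step h.hK.1 V (D - Finsupp.single P (n : ℤ)) P
  rw [h.deg_one, sub_sub, ← Finsupp.single_add] at this
  rw [vdim, vdim]
  push_cast
  exact this

theorem vdim_steps (P : Place k K) (n j : ℕ) : vdim D V P n ≤ vdim D V P (n + j) + j := by
  induction j with
  | zero => simp
  | succ j ih => have := h.vdim_step P (n + j); rw [show vdim D V P (n + (j + 1)) = vdim D V P (n + j + 1) from rfl]; omega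

theorem le_vdim (P : Place k K) (n : ℕ) : r + 1 ≤ vdim D V P n + n := by
  have := h.vdim_steps P 0 n
  rwa [h.vdim_zero, zero_add] at this

theorem ell_eq_zero_of_lt {n : ℕ} (P : Place k K) (hn : d < n) :
    ell (D - Finsupp.single P (n : ℤ)) = 0 :=
  ell_eq_zero_of_deg_neg h.hK.1 (by rw [Divisor.deg_sub, Divisor.deg_single, h.deg_one, h.hD]; omega)

theorem vdim_eq_zero {n : ℕ} (P : Place k K) (hn : d < n) : vdim D V P n = 0 := by
  have := L_finite h.hK.1 (D - Finsupp.single P (n : ℤ))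
  have h1 := Submodule.finrank_mono (inf_le_right : V ⊓ L (D - Finsupp.single P (n : ℤ)) ≤ _)
  have h2 := h.ell_eq_zero_of_lt P hn
  rw [ell] at h2
  rw [vdim]
  omega

theorem r_le : r ≤ d := by
  obtain ⟨P⟩ := exists_place h.hK.1
  have := h.le_vdim P (d + 1)
  rw [h.vdim_eq_zero P (Nat.lt_succ_self d)] at this
  omega

omit h in
/-- Members vanishing to complementary orders at two places. -/
theorem inter_eq (P Q : Place k K) (hPQ : P ≠ Q) (m n : ℕ) :
    (V ⊓ L (D - Finsupp.single P (m : ℤ))) ⊓ (V ⊓ L (D - Finsupp.single Q (n : ℤ))) =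
      V ⊓ L (D - Finsupp.single P (m : ℤ) - Finsupp.single Q (n : ℤ)) := by
  ext x
  simp only [Submodule.mem_inf]
  refine ⟨fun ⟨⟨hV, h1⟩, _, h2⟩ => ⟨hV, (mem_L_sub_single (by omega)).mpr ⟨h1, ?_⟩⟩, fun ⟨hV, hx⟩ => ?_⟩
  · simpa [hPQ] using ((mem_L_sub_single (by omega)).mp h2).2
  · obtain ⟨h1, h2⟩ := (mem_L_sub_single (by omega)).mp hx
    refine ⟨⟨hV, h1⟩, hV, (mem_L_sub_single (by omega)).mpr
      ⟨L_mono (sub_le_self D (Finsupp.single_nonneg.mpr (by omega))) h1, ?_⟩⟩
    simpa [hPQ] using h2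

theorem vdim_add_le' (P Q : Place k K) (hPQ : P ≠ Q) (m n : ℕ) :
    vdim D V P m + vdim D V Q n ≤
      r + 1 + Module.finrank k ↥(V ⊓ L (D - Finsupp.single P (m : ℤ) - Finsupp.single Q (n : ℤ))) := by
  have := h.finite
  have := h.finite_inf (L (D - Finsupp.single P (m : ℤ)))
  have := h.finite_inf (L (D - Finsupp.single Q (n : ℤ)))
  have e := Submodule.finrank_sup_add_finrank_inf_eq (V ⊓ L (D - Finsupp.single P (m : ℤ)))
    (V ⊓ L (D - Finsupp.single Q (n : ℤ)))
  rw [inter_eq P Q hPQ] at e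
  have := Submodule.finrank_mono (sup_le inf_le_left inf_le_left :
    (V ⊓ L (D - Finsupp.single P (m : ℤ))) ⊔ (V ⊓ L (D - Finsupp.single Q (n : ℤ))) ≤ V)
  have h2 := h.dim
  rw [vdim, vdim]
  omega

theorem vdim_add_le (P Q : Place k K) (hPQ : P ≠ Q) {m n : ℕ} (hmn : d < m + n) :
    vdim D V P m + vdim D V Q n ≤ r + 1 := by
  have h1 := h.vdim_add_le' P Q hPQ m n
  have := L_finite h.hK.1 (D - Finsupp.single P (m : ℤ) - Finsupp.single Q (n : ℤ))
  have h2 := Submodule.finrank_mono (inf_le_right :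
    V ⊓ L (D - Finsupp.single P (m : ℤ) - Finsupp.single Q (n : ℤ)) ≤ _)
  have h3 := ell_eq_zero_of_deg_neg h.hK.1 (D := D - Finsupp.single P (m : ℤ) - Finsupp.single Q (n : ℤ))
    (by rw [Divisor.deg_sub, Divisor.deg_sub, Divisor.deg_single, Divisor.deg_single, h.deg_one,
      h.deg_one, h.hD]; omega)
  rw [ell] at h3
  omega

theorem vsum_add_le (P Q : Place k K) (hPQ : P ≠ Q) :
    vsum D V d P + vsum D V d Q ≤ (r + 1) * d := by
  rw [vsum, vsum, ← Finset.sum_range_reflect (fun n => vdim D V Q (n + 1)) d, ← Finset.sum_add_distrib]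
  refine (Finset.sum_le_card_nsmul _ _ (r + 1) fun n hn => h.vdim_add_le P Q hPQ ?_).trans
    (by simp [mul_comm])
  have := Finset.mem_range.mp hn
  omega

end IsSeries

/-- Compatible aspects at a node. -/
theorem vsum_node {K₂ : Type*} [Field K₂] [Algebra k K₂] {D : Divisor k K} {V : Submodule k K}
    {D₂ : Divisor k K₂} {V₂ : Submodule k K₂} {d r : ℕ} {P : Place k K} {Q : Place k K₂}
    (hc : ∀ m : ℕ, m ≤ d + 1 →
      Module.finrank k ↥(V ⊓ L (D - Finsupp.single P (m : ℤ))) +
        Module.finrank k ↥(V₂ ⊓ L (D₂ - Finsupp.single Q ((d : ℤ) + 1 - m))) = r + 1) :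
    vsum D V d P + vsum D₂ V₂ d Q = (r + 1) * d := by
  rw [vsum, vsum, ← Finset.sum_range_reflect (fun n => vdim D₂ V₂ Q (n + 1)) d, ← Finset.sum_add_distrib]
  rw [Finset.sum_congr rfl fun n hn => ?_, Finset.sum_const, Finset.card_range, smul_eq_mul, mul_comm]
  have hn' := Finset.mem_range.mp hn
  have := hc (n + 1) (by omega)
  rw [show (d : ℤ) + 1 - ((n + 1 : ℕ) : ℤ) = ((d - 1 - n + 1 : ℕ) : ℤ) by omega] at this
  exact this

theorem vdim_node {K₂ : Type*} [Field K₂] [Algebra k K₂] {D : Divisor k K} {V : Submodule k K}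
    {D₂ : Divisor k K₂} {V₂ : Submodule k K₂} {d r : ℕ} {P : Place k K} {Q : Place k K₂}
    (hc : ∀ m : ℕ, m ≤ d + 1 →
      Module.finrank k ↥(V ⊓ L (D - Finsupp.single P (m : ℤ))) +
        Module.finrank k ↥(V₂ ⊓ L (D₂ - Finsupp.single Q ((d : ℤ) + 1 - m))) = r + 1)
    {m n : ℕ} (hmn : m + n = d + 1) : vdim D V P m + vdim D₂ V₂ Q n = r + 1 := by
  have := hc m (by omega)
  rw [show (d : ℤ) + 1 - (m : ℤ) = (n : ℤ) by omega] at this
  exact this

/-- `r (r + 1) / 2`. -/
def tri (r : ℕ) : ℕ := r * (r + 1) / 2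

theorem two_mul_tri (r : ℕ) : r * (r + 1) = 2 * tri r :=
  (Nat.mul_div_cancel' (Nat.even_mul_succ_self r).two_dvd).symm

theorem sum_tsub_eq_tri (r : ℕ) : ∀ d : ℕ, r ≤ d → ∑ n ∈ Finset.range d, (r - n) = tri r := by
  intro d hd
  induction d, hd using Nat.le_induction with
  | base =>
    rw [← Finset.sum_range_reflect]
    have h := Finset.sum_range_id_mul_two (r + 1)
    rw [Finset.sum_range_succ'] at h
    simp only [Nat.add_sub_cancel, add_zero] at h
    rw [Finset.sum_congr rfl fun j hj => show r - (r - 1 - j) = j + 1 by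
      have := Finset.mem_range.mp hj; omega]
    have := two_mul_tri r
    have e : (r + 1) * r = r * (r + 1) := mul_comm _ _
    omega
  | succ d hd ih => rw [Finset.sum_range_succ, ih]; omega

namespace IsSeries

variable {D : Divisor k K} {V : Submodule k K} {d r : ℕ} (h : IsSeries D V d r)
include h

theorem tri_le_vsum (P : Place k K) : tri r ≤ vsum D V d P := by
  rw [← sum_tsub_eq_tri r d h.r_le]
  refine Finset.sum_le_sum fun n _ => ?_
  have := h.le_vdim P (n + 1)
  omega

theorem cusp_le_vsum (Q : Place k K) (hcusp : r ≤ vdim D V Q 2) : tri r + r ≤ vsum D V d Q := by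
  rcases Nat.eq_zero_or_pos r with rfl | hr
  · simpa using h.tri_le_vsum Q
  have hrd : r + 1 ≤ d := by
    have h1 := h.vdim_eq_zero Q (Nat.lt_succ_self d)
    have h2 := h.vdim_steps Q 2 (d - 1)
    have h3 := h.r_le
    rw [show 2 + (d - 1) = d + 1 by omega, h1] at h2
    omega
  obtain ⟨j, rfl⟩ : ∃ j, d = j + 1 := ⟨d - 1, by omega⟩
  rw [vsum, Finset.sum_range_succ']
  have h0 : r ≤ vdim D V Q (0 + 1) := hcusp.trans (h.vdim_anti Q (by omega))
  have h1 : ∀ n, (r - n) ≤ vdim D V Q (n + 1 + 1) := fun n => by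
    have := h.vdim_steps Q 2 n
    rw [show 2 + n = n + 1 + 1 by omega] at this
    omega
  have h2 := Finset.sum_le_sum (s := Finset.range j) fun n _ => h1 n
  rw [sum_tsub_eq_tri r j (by omega)] at h2
  omega

/-- In positive genus a place has no vanishing orders `d - 1` and `d` at once. -/
theorem vdim_pred_le (hg : 0 < genus k K) (P : Place k K) (hd : 1 ≤ d) :
    vdim D V P (d - 1) ≤ 1 := by
  have := L_finite h.hK.1 (D - Finsupp.single P ((d - 1 : ℕ) : ℤ))
  refine (Submodule.finrank_mono (inf_le_right : V ⊓ L (D - Finsupp.single P ((d - 1 : ℕ) : ℤ)) ≤ _)).trans ?_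
  by_contra hlt
  have hlt' : 1 < ell (D - Finsupp.single P ((d - 1 : ℕ) : ℤ)) := not_le.mp hlt
  have hdeg : (D - Finsupp.single P ((d - 1 : ℕ) : ℤ)).deg = 1 := by
    rw [Divisor.deg_sub, Divisor.deg_single, h.deg_one, h.hD]; omega
  obtain ⟨R, z, hR, hz0, hz⟩ := exists_single_of_deg_one h.hK.1 hdeg (by omega)
  have := ell_single_one h.hK hg hR
  rw [← hz, ell_add_div h.hK.1 _ hz0] at this
  omega

theorem vsum_le_of_pos (hg : 0 < genus k K) (P : Place k K) :
    vsum D V d P + tri r + r ≤ (r + 1) * d := by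
  rcases Nat.eq_zero_or_pos d with hd | hd
  · have := h.r_le
    obtain rfl : r = 0 := by omega
    subst hd
    simp [vsum, tri]
  have h0 := h.vdim_pred_le hg P hd
  have hrd : r + 1 ≤ d := by
    have := h.le_vdim P (d - 1)
    omega
  obtain ⟨j, rfl⟩ : ∃ j, d = j + 1 := ⟨d - 1, by omega⟩
  rw [Nat.add_sub_cancel] at h0
  rw [vsum, Finset.sum_range_succ]
  have hlast : vdim D V P (j + 1) ≤ 1 := (h.vdim_anti P (Nat.le_succ j)).trans h0
  have h1 : ∀ n ∈ Finset.range j, vdim D V P (j - 1 - n + 1) + (r - n) ≤ r + 1 := fun n hn => by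
    have := Finset.mem_range.mp hn
    have h2 := h.vdim_steps P (j - 1 - n + 1) n
    rw [show j - 1 - n + 1 + n = j by omega] at h2
    have := h.vdim_le P (j - 1 - n + 1)
    omega
  have h2 := Finset.sum_le_sum h1
  rw [Finset.sum_add_distrib, Finset.sum_range_reflect (fun n => vdim D V P (n + 1)) j,
    sum_tsub_eq_tri r j (by omega), Finset.sum_const, Finset.card_range, smul_eq_mul] at h2
  have e : (r + 1) * (j + 1) = j * (r + 1) + (r + 1) := by ring
  omega

end IsSeries

end Groth.Agent.FFLib
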